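import Cfsg.Agent.H20.Product
import Cfsg.Agent.H3.Fusion

/-! Nilpotent Hall subgroups: Wielandt's normal complement theorem. -/

set_option autoImplicit false

namespace Cfsg.Agent.H20

open Subgroup Cfsg.Agent.H49

variable {G : Type*} [Group G]

theorem isPi_singleton_compl_disj {p r : ℕ} (h : p ≠ r) :
    ∀ q : ℕ, q.Prime → q ∈ ({p} : Set ℕ) → q ∈ ({r} : Set ℕ) → False :=
  fun _ _ h1 h2 => h ((Set.mem_singleton_iff.1 h1).symm.trans (Set.mem_singleton_iff.1 h2))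

/-- In a nilpotent subgroup, a `p`-subgroup centralizes an `r`-subgroup for `p ≠ r`. -/
theorem cent_of_nil_of_ne [Finite G] {p r : ℕ} (h : p ≠ r) {P R A : Subgroup G}
    (hA : Group.IsNilpotent A) (hP : P ≤ A) (hR : R ≤ A) (h1 : IsPi {p} P) (h2 : IsPi {r} R) :
    P ≤ 𝒞(R) :=
  H48.cent_of_nil hA hP hR h1 h2 (isPi_singleton_compl_disj h)

/-- The `p`-part of a nilpotent Hall `π`-subgroup is a Sylow subgroup when `p ∈ π`. -/
theorem sylow_pcore_of_nil_hall [Finite G] {π : Set ℕ} {p : ℕ} {A M : Subgroup G}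
    (hA : Group.IsNilpotent A) (h : IsPiHallOf π A M) (hp : p ∈ π) :
    IsSylowOf p (piCoreOf {p} A) M := (hall_pcore_of_nil {p} hA).trans_sylow h hp

/-- If the group has a normal `p`-complement for every prime `p` dividing the order of the Hall
`π`-subgroup `H`, then it has a normal Hall `π'`-subgroup. -/
theorem exists_normal_hall_compl [Finite G] {π : Set ℕ} {H : Subgroup G} (hH : IsPiHallOf π H ⊤)
    (h : ∀ p : ℕ, p.Prime → p ∣ Nat.card H → HasNormalPComplement p G) :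
    ∃ N : Subgroup G, N.Normal ∧ IsPiHallOf πᶜ N ⊤ := by
  let N : Subgroup G := ⨅ p : {p : ℕ // p.Prime ∧ p ∣ Nat.card H}, pResidual p G
  have hN : N.Normal := normal_iInf_normal fun p => H3.pResidual_normal
  refine ⟨N, hN, hall_mk le_top ?_ ?_⟩
  · intro q hq hd hπ
    have hqH : q ∣ Nat.card H := hH.dvd_card hq hπ (hd.trans (card_dvd_of_le le_top))
    have := Fact.mk hq
    have h1 := H3.hasNormalPComplement_iff_coprime.1 (h q hq hqH)
    have h2 : q ∣ Nat.card (pResidual q G) :=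
      hd.trans (card_dvd_of_le (iInf_le (fun p : {p : ℕ // p.Prime ∧ p ∣ Nat.card H} =>
        pResidual p G) ⟨q, hq, hqH⟩))
    exact Nat.not_coprime_of_dvd_of_dvd hq.one_lt h2 dvd_rfl h1
  · intro q hq hd hπ
    obtain ⟨Q, hQ⟩ := exists_sylowOf q (⊤ : Subgroup G)
    have hQN : Q ≤ N := by
      refine le_iInf fun p x hx => H3.mem_pResidual_of_coprime ?_
      have h1 : p.1 ≠ q := fun e => hπ (e ▸ hH.pi p.1 p.2.1 p.2.2)
      exact (isPiNat_compl_singleton_iff_coprime p.2.1).1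
        ((hQ.pi.compl_singleton_of_ne h1.symm).elt hx)
    exact (hQ.index_of_le hQN).not_dvd hq rfl hd

/-- Wielandt: a nilpotent Hall subgroup `H`, not of prime power order, containing the normalizers
of its Sylow subgroups has a normal complement. -/
theorem exists_normal_hall_compl_of_nil [Finite G] {π : Set ℕ} {H : Subgroup G}
    (hH : IsPiHallOf π H ⊤) (hnil : Group.IsNilpotent H)
    (h : ∀ p : ℕ, p.Prime → p ∣ Nat.card H →
      ∃ r : ℕ, r.Prime ∧ r ≠ p ∧ r ∣ Nat.card H ∧ 𝒩(piCoreOf {r} H) ≤ H) :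
    ∃ N : Subgroup G, N.Normal ∧ IsPiHallOf πᶜ N ⊤ := by
  apply exists_normal_hall_compl hH
  intro p hp hpH
  obtain ⟨r, hr, hrp, hrH, hn⟩ := h p hp hpH
  have := Fact.mk hp
  have hP := sylow_pcore_of_nil_hall hnil hH (hH.pi p hp hpH)
  have hR := sylow_pcore_of_nil_hall hnil hH (hH.pi r hr hrH)
  have hc : piCoreOf {r} H ≤ 𝒞(piCoreOf {p} H) :=
    cent_of_nil_of_ne hrp hnil (H48.pcore_le _ _) (H48.pcore_le _ _) hR.pi hP.pi
  obtain ⟨P, hPe⟩ := exists_sylow_of_top hp hP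
  have hPH : (P : Subgroup G) ≤ H := hPe ▸ H48.pcore_le _ _
  rw [H3.hasNormalPComplement_iff_inf_eq_bot P, eq_bot_iff]
  rintro x ⟨hx, hx'⟩
  have := H3.map_eq_one_of_controls_fusion P hPH (fun y hy _ g _ hg => by
    have hy' : y ∈ piCoreOf {p} H := hPe ▸ hy
    have hg' : g * y * g⁻¹ ∈ piCoreOf {p} H := hPe ▸ hg
    have h1 : piCoreOf {r} H ≤ 𝒞[g * y * g⁻¹] := hc.trans (cent_le_cent1 hg')
    have h2 : cj g (piCoreOf {r} H) ≤ 𝒞[g * y * g⁻¹] := by
      rw [← cj_cent1]; exact cj_mono g (hc.trans (cent_le_cent1 hy'))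
    obtain ⟨c, hcC, e⟩ := sylowOf_conj ((hR.cj_of_mem (mem_top g)).sub h2 le_top) (hR.sub h1 le_top)
    rw [cj_cj] at e
    refine ⟨c * g, hn (mem_norm_iff_cj.2 e), ?_⟩
    have := mem_cent1.1 hcC
    calc c * g * y * (c * g)⁻¹ = c * (g * y * g⁻¹) * c⁻¹ := by group
      _ = _ := by rw [this]; group) (MonoidHom.id H) ⟨x, hPH hx⟩ hx hx'
  exact congrArg Subtype.val this

end Cfsg.Agent.H20
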