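import Cfsg.Agent.H88.CD3
import Cfsg.Agent.H88.Garrison

open scoped commutatorElement
open Cfsg Cfsg.Agent.H5 Cfsg.Agent.H6 Cfsg.Agent.H88

set_option linter.unusedSectionVars false
set_option linter.unusedVariables false

namespace Cfsg.Agent.H20.Cd

variable {G : Type*} [Group G] [Finite G]

/-- `D` lies in the kernel of `χ` -/
abbrev Kr (χ : G → ℂ) (D : Subgroup G) : Prop := ∀ g ∈ D, χ g = χ 1

omit [Finite G] in
theorem Kr.mono {χ : G → ℂ} {D E : Subgroup G} (h : Kr χ D) (hle : E ≤ D) : Kr χ E :=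
  fun g hg => h g (hle hg)

theorem fact_le_of_not_dvd {q n k : ℕ} (hq : q.Prime) (hn : n ≠ 0) (h : ¬ q ^ (k + 1) ∣ n) :
    n.factorization q ≤ k := by
  rw [hq.pow_dvd_iff_le_factorization hn] at h; omega

theorem not_dvd_succ {q n : ℕ} (hq : q.Prime) (hn : n ≠ 0) :
    ¬ q ^ (n.factorization q + 1) ∣ n := by
  rw [hq.pow_dvd_iff_le_factorization hn]; omega

theorem exists_over_le (J : Subgroup G) [Fintype J] {ξ : J → ℂ} (hξ : IsIrrCharacter J ξ) {q : ℕ}
    (hq : q.Prime) : ∃ ψ : G → ℂ, IsIrrCharacter G ψ ∧ classInner (fun x : J => ψ x) ξ ≠ 0 ∧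
      (charDegree ψ).factorization q ≤ (J.index * charDegree ξ).factorization q := by
  have := Fintype.ofFinite G
  have h0 : J.index * charDegree ξ ≠ 0 :=
    mul_ne_zero Subgroup.index_ne_zero_of_finite (charDegree_ne_zero hξ)
  obtain ⟨ψ, h1, h2, h3⟩ := exists_constituent_not_dvd
    (isCharacter_indFun J (isCharacter_of_isIrr hξ))
    (n := q ^ ((J.index * charDegree ξ).factorization q + 1)) (by
      rw [charDegree_indFun J (isCharacter_of_isIrr hξ)]; exact not_dvd_succ hq h0)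
  exact ⟨ψ, h1, (classInner_indFun_ne_zero_iff J ξ (isClassFunction_of_isIrr h1)).1 h2,
    fact_le_of_not_dvd hq (charDegree_ne_zero h1) h3⟩

theorem kr_under (J : Subgroup G) [Fintype J] {ψ : G → ℂ} (hψ : IsCharacter G ψ) {ξ : J → ℂ}
    (hξ : IsIrrCharacter J ξ) (h : classInner (fun x : J => ψ x) ξ ≠ 0) {D : Subgroup G}
    (hD : Kr ψ D) : Kr ξ (D.subgroupOf J) := fun g hg =>
  apply_eq_degree_of_constituent (isCharacter_restrict hψ J) hξ h (hD g hg)

omit [Finite G] in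
theorem fact_index_mul {J : Subgroup G} {q d : ℕ} (hq : q.Prime) (h : ¬ q ∣ J.index) (hd : d ≠ 0) :
    (J.index * d).factorization q = d.factorization q := by
  rw [Nat.factorization_mul (fun e => h (by rw [e]; exact dvd_zero q)) hd, Finsupp.add_apply,
    Nat.factorization_eq_zero_of_not_dvd h, zero_add]

theorem le_sup_sylow {q : ℕ} [Fact q.Prime] (A N : Subgroup G) [A.Normal] [hN : N.Normal]
    (h : ∀ x ∈ N, ∃ k, x ^ q ^ k ∈ A) (S : Sylow q G) : N ≤ (S : Subgroup G) ⊔ A := fun x hx => by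
  have hs := QuotientGroup.mk'_surjective A
  have := hN.map _ hs
  have h1 : IsPGroup q (N.map (QuotientGroup.mk' A)) := by
    rintro ⟨_, y, hy, rfl⟩
    obtain ⟨k, hk⟩ := h y hy
    exact ⟨k, Subtype.ext (by simpa using (QuotientGroup.eq_one_iff _).2 hk)⟩
  obtain ⟨s, hs, e⟩ := h1.le_sylow_of_normal (S.mapSurjective hs) ⟨x, hx, rfl⟩
  have h1 : s⁻¹ * x ∈ A := QuotientGroup.eq.mp e
  rw [← mul_inv_cancel_left s x]
  exact mul_mem (Subgroup.mem_sup_left hs) (Subgroup.mem_sup_right h1)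

omit [Finite G] in
theorem isPGroup_quot_sup {q : ℕ} {S : Subgroup G} (hS : IsPGroup q S) (A : Subgroup G) [A.Normal] :
    IsPGroup q (↥(S ⊔ A) ⧸ A.subgroupOf (S ⊔ A)) := by
  rintro ⟨x, hx⟩
  have h3 : x ∈ ((S ⊔ A : Subgroup G) : Set G) := hx
  rw [Subgroup.mul_normal] at h3
  obtain ⟨a, ha, b, hb, rfl⟩ := h3
  obtain ⟨k, hk⟩ := hS ⟨a, ha⟩
  refine ⟨k, ?_⟩
  have e : (QuotientGroup.mk ⟨a * b, hx⟩ : ↥(S ⊔ A) ⧸ A.subgroupOf (S ⊔ A)) =
      QuotientGroup.mk ⟨a, Subgroup.mem_sup_left ha⟩ := by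
    rw [eq_comm, QuotientGroup.eq]
    simpa [Subgroup.mem_subgroupOf] using hb
  change (QuotientGroup.mk ⟨a * b, hx⟩ : ↥(S ⊔ A) ⧸ A.subgroupOf (S ⊔ A)) ^ _ = 1
  rw [e, ← QuotientGroup.mk_pow, QuotientGroup.eq_one_iff, Subgroup.mem_subgroupOf]
  have : a ^ q ^ k = 1 := congrArg Subtype.val hk
  simp [this]

omit [Finite G] in
theorem subgroupOf_commutator {N J : Subgroup G} [N.Normal] (h : N ≤ J) :
    ⁅N.subgroupOf J, N.subgroupOf J⁆ = ⁅N, N⁆.subgroupOf J := by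
  apply Subgroup.map_injective J.subtype_injective
  rw [Subgroup.map_commutator, Subgroup.map_subgroupOf_eq_of_le h,
    Subgroup.map_subgroupOf_eq_of_le ((Subgroup.commutator_le_left N N).trans h)]

/-- the minimal `q`-part drops -/
theorem pmin {q : ℕ} (hq : q.Prime) (A N : Subgroup G) [hA : A.Normal] [hN : N.Normal]
    (hab : ⁅A, A⁆ = ⊥) (h : ∀ x ∈ N, ∃ k, x ^ q ^ k ∈ A) {χ : G → ℂ} (hχ : IsIrrCharacter G χ)
    (hk : ¬ Kr χ ⁅N, N⁆) : ∃ ψ : G → ℂ, IsIrrCharacter G ψ ∧ ¬ Kr ψ N ∧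
      (charDegree ψ).factorization q < (charDegree χ).factorization q := by
  have := Fact.mk hq
  obtain ⟨S⟩ : Nonempty (Sylow q G) := inferInstance
  set J := (S : Subgroup G) ⊔ A with hJ
  have := Fintype.ofFinite J
  have := Fintype.ofFinite N
  have hNJ : N ≤ J := le_sup_sylow A N h S
  have hJi : ¬ q ∣ J.index := fun e => S.not_dvd_index (e.trans (Subgroup.index_dvd_of_le le_sup_left))
  have hP := isPGroup_quot_sup S.isPGroup' A
  have hab' : ∀ a ∈ A.subgroupOf J, ∀ b ∈ A.subgroupOf J, a * b = b * a := fun a ha b hb =>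
    Subtype.ext (commutator_self_eq_bot_iff.1 hab a ha b hb)
  have hdeg : ∀ ξ : J → ℂ, IsIrrCharacter J ξ → ∃ j, charDegree ξ = q ^ j := fun ξ hξ => by
    obtain ⟨k, hk⟩ := hP.exists_card_eq
    have h1 := charDegree_dvd_index_of_comm hξ _ hab'
    rw [Subgroup.index_eq_card, hk] at h1
    obtain ⟨j, -, hj⟩ := (Nat.dvd_prime_pow hq).1 h1
    exact ⟨j, hj⟩
  obtain ⟨η, h1, h2, h3⟩ := exists_constituent_not_dvd
    (isCharacter_restrict (isCharacter_of_isIrr hχ) J)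
    (n := q ^ ((charDegree χ).factorization q + 1)) (not_dvd_succ hq (charDegree_ne_zero hχ))
  have h4 := fact_le_of_not_dvd hq (charDegree_ne_zero h1) h3
  have h5 : ¬ Kr η ⁅N.subgroupOf J, N.subgroupOf J⁆ := fun e => hk fun g hg => by
    rw [subgroupOf_commutator hNJ] at e
    obtain ⟨θ, hθ, h6⟩ := exists_irr_constituent
      (isCharacter_res_of_le N J hNJ (isCharacter_of_isIrr h1))
      (fun e => degree_ne_zero h1 (congrFun e 1))
    refine apply_eq_degree_of_under_normal N hχ hθ (over_trans hNJ (isCharacter_of_isIrr hχ) h1 h2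
      (isCharacter_of_isIrr hθ) h6) ⁅N, N⁆ (Subgroup.commutator_le_left N N) (fun x hx => ?_) hg
    exact apply_eq_degree_of_constituent (isCharacter_res_of_le N J hNJ (isCharacter_of_isIrr h1))
      hθ h6 (e _ hx)
  obtain ⟨ξ, h6, h7, h8⟩ : ∃ ξ : J → ℂ, IsIrrCharacter J ξ ∧ charDegree ξ < charDegree η ∧
      ¬ Kr ξ (N.subgroupOf J) := by
    by_contra! e
    exact h5 (commutator_le_ker_of_isMonomialChar _
      (isMonomialChar_of_abelian_by_nilpotent _ hab' hP.isNilpotent h1) e)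
  obtain ⟨ψ, h9, h10, h11⟩ := exists_over_le J h6 hq
  refine ⟨ψ, h9, fun e => h8 (kr_under J (isCharacter_of_isIrr h9) h6 h10 e), ?_⟩
  rw [fact_index_mul hq hJi (charDegree_ne_zero h6)] at h11
  obtain ⟨i, hi⟩ := hdeg ξ h6
  obtain ⟨j, hj⟩ := hdeg η h1
  rw [hi, hj, Nat.pow_lt_pow_iff_right hq.one_lt] at h7
  rw [hi, hq.factorization_pow, Finsupp.single_eq_same] at h11
  rw [hj, hq.factorization_pow, Finsupp.single_eq_same] at h4
  omega

omit [Finite G] in
theorem kr_inflate (E : Subgroup G) [E.Normal] (φ : G ⧸ E → ℂ) (D : Subgroup G) :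
    Kr (fun g : G => φ g) D ↔ Kr φ (D.map (QuotientGroup.mk' E)) :=
  ⟨fun h _ ⟨y, hy, e⟩ => e ▸ h y hy, fun h g hg => h g ⟨g, hg, rfl⟩⟩

omit [Finite G] in
theorem kr_inflate_self (E : Subgroup G) [E.Normal] (φ : G ⧸ E → ℂ) :
    Kr (fun g : G => φ g) E := fun g hg => by
  exact congrArg φ ((QuotientGroup.eq_one_iff g).2 hg)

omit [Finite G] in
theorem map_mk_eq_bot {E D : Subgroup G} [E.Normal] :
    D.map (QuotientGroup.mk' E) = ⊥ ↔ D ≤ E := by
  rw [Subgroup.map_eq_bot_iff, QuotientGroup.ker_mk']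

theorem pmin_rel {q : ℕ} (hq : q.Prime) (E A N : Subgroup G) [E.Normal] [hA : A.Normal]
    [hN : N.Normal] (hab : ⁅A, A⁆ ≤ E) (h : ∀ x ∈ N, ∃ k, x ^ q ^ k ∈ A) {χ : G → ℂ}
    (hχ : IsIrrCharacter G χ) (hE : Kr χ E) (hk : ¬ Kr χ ⁅N, N⁆) :
    ∃ ψ : G → ℂ, IsIrrCharacter G ψ ∧ Kr ψ E ∧ ¬ Kr ψ N ∧
      (charDegree ψ).factorization q < (charDegree χ).factorization q := by
  have hs := QuotientGroup.mk'_surjective E
  have := hA.map _ hs
  have := hN.map _ hs
  obtain ⟨φ, h1, rfl⟩ := exists_isIrr_quotient E hχ hE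
  obtain ⟨ψ, h2, h3, h4⟩ := pmin hq (A.map (QuotientGroup.mk' E)) (N.map (QuotientGroup.mk' E))
    (by rw [← Subgroup.map_commutator, map_mk_eq_bot]; exact hab)
    (by
      rintro _ ⟨x, hx, rfl⟩
      obtain ⟨k, hk⟩ := h x hx
      exact ⟨k, _, hk, map_pow _ _ _⟩) h1
    (by rwa [← Subgroup.map_commutator, ← kr_inflate])
  exact ⟨_, isIrrCharacter_inflate E h2, kr_inflate_self E ψ, by rwa [kr_inflate], h4⟩

theorem exists_not_kr {D : Subgroup G} (h : D ≠ ⊥) :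
    ∃ χ : G → ℂ, IsIrrCharacter G χ ∧ ¬ Kr χ D := by
  by_contra! e
  exact h (eq_bot_of_forall_irr e)

theorem commutator_lt [Group.IsSolvable G] {M : Subgroup G} (h : M ≠ ⊥) : ⁅M, M⁆ < M :=
  Group.IsSolvable.commutator_lt_of_ne_bot h

theorem exists_chief_pow [Group.IsSolvable G] (A L : Subgroup G) [hA : A.Normal] [hL : L.Normal]
    (hAL : ¬ L ≤ A) (hAL' : A ≤ L)
    (hmax : ∀ X : Subgroup G, X.Normal → A ≤ X → X ≤ L → X = A ∨ X = L) :
    ∃ q : ℕ, q.Prime ∧ ∀ x ∈ L, x ^ q ∈ A := by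
  have hs := QuotientGroup.mk'_surjective A
  have := hL.map _ hs
  obtain ⟨-, q, hq, h⟩ := H2.minimal_normal_elementary_abelian (L.map (QuotientGroup.mk' A))
    inferInstance (by rwa [Ne, map_mk_eq_bot]) fun X hX hle => by
      rcases hmax (X.comap (QuotientGroup.mk' A)) inferInstance (QuotientGroup.le_comap_mk' A X)
        (by
          refine (Subgroup.comap_mono hle).trans ?_
          rw [Subgroup.comap_map_eq, QuotientGroup.ker_mk', sup_eq_left.2 hAL']) with e | e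
      · left
        rw [← Subgroup.map_comap_eq_self_of_surjective hs X, e, map_mk_eq_bot]
      · right
        rw [← Subgroup.map_comap_eq_self_of_surjective hs X, e]
  exact ⟨q, hq, fun x hx => (QuotientGroup.eq_one_iff _).1 (by simpa using h _ ⟨x, hx, rfl⟩)⟩

theorem exists_max_below [Group.IsSolvable G] (L : Subgroup G) [L.Normal] (h : L ≠ ⊥) :
    ∃ A : Subgroup G, A.Normal ∧ A < L ∧ ∃ q : ℕ, q.Prime ∧ ∀ x ∈ L, x ^ q ∈ A := by
  obtain ⟨A, ⟨h1, h2⟩, h3⟩ := WellFounded.has_min (wellFounded_gt (α := Subgroup G))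
    {A | A.Normal ∧ A < L} ⟨⊥, inferInstance, bot_lt_iff_ne_bot.2 h⟩
  refine ⟨A, h1, h2, exists_chief_pow A L h2.not_ge h2.le fun X hX h4 h5 => ?_⟩
  by_contra! e
  exact h3 X ⟨hX, lt_of_le_of_ne h5 e.2⟩ (lt_of_le_of_ne h4 e.1.symm)

/-- one relative degree -/
theorem t1a [Group.IsSolvable G] (M : Subgroup G) [hM : M.Normal] {m : ℕ}
    (h : ∀ χ : G → ℂ, IsIrrCharacter G χ → ¬ Kr χ M → charDegree χ = m) : ⁅M, M⁆ = ⊥ := by
  by_contra h0
  obtain ⟨L, ⟨h1, h2, h3⟩, h4⟩ := WellFounded.has_min (wellFounded_lt (α := Subgroup G))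
    {L | L.Normal ∧ L ≤ M ∧ ⁅L, L⁆ ≠ ⊥} ⟨M, hM, le_rfl, h0⟩
  obtain ⟨A, hA, h5, q, hq, h6⟩ := exists_max_below L (by rintro rfl; simp at h3)
  obtain ⟨χ, h7, h8⟩ := exists_not_kr h3
  obtain ⟨ψ, h9, h10, h11⟩ := pmin hq A L (by_contra fun e => h4 A ⟨hA, h5.le.trans h2, e⟩ h5)
    (fun x hx => ⟨1, by simpa using h6 x hx⟩) h7 h8
  rw [h ψ h9 fun e => h10 (e.mono h2),
    h χ h7 fun e => h8 (e.mono ((Subgroup.commutator_le_left L L).trans h2))] at h11
  exact lt_irrefl _ h11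

theorem t1a_rel [Group.IsSolvable G] (E M : Subgroup G) [E.Normal] [hM : M.Normal] {m : ℕ}
    (h : ∀ χ : G → ℂ, IsIrrCharacter G χ → Kr χ E → ¬ Kr χ M → charDegree χ = m) :
    ⁅M, M⁆ ≤ E := by
  have := hM.map _ (QuotientGroup.mk'_surjective E)
  rw [← map_mk_eq_bot, Subgroup.map_commutator]
  exact t1a (m := m) _ fun φ h1 h2 =>
    h _ (isIrrCharacter_inflate E h1) (kr_inflate_self E φ) (by rwa [kr_inflate])

theorem fact_index_sylow {q : ℕ} [hq : Fact q.Prime] (T : Subgroup G) (R : Sylow q T) :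
    ((R : Subgroup T).map T.subtype).index.factorization q = T.index.factorization q := by
  rw [← Subgroup.relIndex_mul_index (Subgroup.map_subtype_le (R : Subgroup T)), Subgroup.relIndex,
    Nat.factorization_mul Subgroup.index_ne_zero_of_finite Subgroup.index_ne_zero_of_finite,
    Finsupp.add_apply, Nat.factorization_eq_zero_of_not_dvd, zero_add]
  rw [Subgroup.subgroupOf, Subgroup.comap_map_eq_self_of_injective T.subtype_injective]
  exact R.not_dvd_index

theorem lemR {q : ℕ} (hq : q.Prime) (L T : Subgroup G) [L.Normal] (hL : IsPGroup q L)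
    (h : ¬ L ≤ T) : ∃ ψ : G → ℂ, IsIrrCharacter G ψ ∧ ¬ Kr ψ L ∧
      (charDegree ψ).factorization q < T.index.factorization q := by
  have := Fact.mk hq
  obtain ⟨R⟩ : Nonempty (Sylow q T) := inferInstance
  set R0 := (R : Subgroup T).map T.subtype with hR0
  obtain ⟨S, hS⟩ := (R.isPGroup'.map T.subtype).exists_le_sylow
  have := Fintype.ofFinite ↥(S : Subgroup G)
  have hLS := hL.le_sylow_of_normal S
  obtain ⟨ξ, h6, h7, h8⟩ : ∃ ξ : ↥(S : Subgroup G) → ℂ, IsIrrCharacter _ ξ ∧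
      charDegree ξ < (R0.subgroupOf S).index ∧ ¬ Kr ξ (L.subgroupOf S) := by
    by_contra! e
    exact h fun x hx => Subgroup.map_subtype_le _
      (le_of_forall_degree_lt _ _ e (show (⟨x, hLS hx⟩ : (S : Subgroup G)) ∈ L.subgroupOf S from hx))
  obtain ⟨ψ, h9, h10, h11⟩ := exists_over_le _ h6 hq
  refine ⟨ψ, h9, fun e => h8 (kr_under _ (isCharacter_of_isIrr h9) h6 h10 e), ?_⟩
  rw [fact_index_mul hq S.not_dvd_index (charDegree_ne_zero h6)] at h11
  obtain ⟨i, hi⟩ := exists_charDegree_eq_pow S.isPGroup' h6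
  obtain ⟨j, hj⟩ := S.isPGroup'.index (R0.subgroupOf S)
  rw [hi, hj, Nat.pow_lt_pow_iff_right hq.one_lt] at h7
  rw [hi, hq.factorization_pow, Finsupp.single_eq_same] at h11
  rw [← fact_index_sylow T R, ← Subgroup.relIndex_mul_index hS, mul_comm,
    Subgroup.relIndex, fact_index_mul hq S.not_dvd_index Subgroup.index_ne_zero_of_finite, hj,
    hq.factorization_pow, Finsupp.single_eq_same]
  omega

theorem lemR_rel {q : ℕ} (hq : q.Prime) (E L T : Subgroup G) [E.Normal] [hL : L.Normal]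
    (hE : E ≤ T) (hp : ∀ x ∈ L, x ^ q ∈ E) (h : ¬ L ≤ T) :
    ∃ ψ : G → ℂ, IsIrrCharacter G ψ ∧ Kr ψ E ∧ ¬ Kr ψ L ∧
      (charDegree ψ).factorization q < T.index.factorization q := by
  have hs := QuotientGroup.mk'_surjective E
  have := hL.map _ hs
  have hT : (T.map (QuotientGroup.mk' E)).comap (QuotientGroup.mk' E) = T := by
    rw [Subgroup.comap_map_eq, QuotientGroup.ker_mk', sup_eq_left.2 hE]
  obtain ⟨ψ, h2, h3, h4⟩ := lemR hq (L.map (QuotientGroup.mk' E)) (T.map (QuotientGroup.mk' E))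
    (H2.isPGroup_of_forall_pow_eq_one (by
      rintro _ ⟨x, hx, rfl⟩
      rw [← map_pow]; exact (QuotientGroup.eq_one_iff _).2 (hp x hx)))
    (by rwa [Subgroup.map_le_iff_le_comap, hT])
  refine ⟨_, isIrrCharacter_inflate E h2, kr_inflate_self E ψ, by rwa [kr_inflate], ?_⟩
  rwa [← hT, Subgroup.index_comap_of_surjective _ hs]

theorem lemE {r : ℕ} (hr : r.Prime) (Z : Subgroup G) [Z.Normal] [Fintype Z] {θ : Z → ℂ}
    (hθ : IsIrrCharacter Z θ) (hc : ¬ r ∣ detOrder θ * charDegree θ) :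
    ∃ χ : G → ℂ, IsIrrCharacter G χ ∧ classInner (fun x : Z => χ x) θ ≠ 0 ∧
      (charDegree χ).factorization r ≤ (inertia Z θ).index.factorization r := by
  have := Fact.mk hr
  have := Fintype.ofFinite G
  obtain ⟨R⟩ : Nonempty (Sylow r (inertia Z θ)) := inferInstance
  set R0 := (R : Subgroup (inertia Z θ)).map (inertia Z θ).subtype with hR0
  have := Fintype.ofFinite ↥(R0 ⊔ Z)
  have hW : R0 ⊔ Z ≤ inertia Z θ :=
    sup_le (Subgroup.map_subtype_le _) (le_inertia Z (isClassFunction_of_isIrr hθ))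
  obtain ⟨k, hk⟩ := (isPGroup_quot_sup (R.isPGroup'.map (inertia Z θ).subtype) Z).exists_card_eq
  obtain ⟨η, h1, h2⟩ := exists_extension_le_of_coprime (le_sup_right : Z ≤ R0 ⊔ Z) hθ hW (by
    rw [Subgroup.relIndex, Subgroup.index_eq_card, hk]
    exact ((Nat.Prime.coprime_iff_not_dvd hr).2 hc).pow_left k)
  obtain ⟨χ, h3, h4, h5⟩ := exists_over_le _ h1 hr
  refine ⟨χ, h3, over_trans le_sup_right (isCharacter_of_isIrr h3) h1 h4 (isCharacter_of_isIrr hθ)
    (by rw [funext h2, classInner_irr_self hθ]; exact one_ne_zero), h5.trans ?_⟩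
  have h6 : charDegree η = charDegree θ := charDegree_congr (h2 1)
  rw [h6, Nat.factorization_mul Subgroup.index_ne_zero_of_finite (charDegree_ne_zero hθ),
    Finsupp.add_apply, Nat.factorization_eq_zero_of_not_dvd (n := charDegree θ)
      fun e => hc (e.mul_left _), add_zero, ← fact_index_sylow _ R]
  exact (Nat.factorization_le_iff_dvd Subgroup.index_ne_zero_of_finite
    Subgroup.index_ne_zero_of_finite).2 (Subgroup.index_dvd_of_le le_sup_left) r

end Cfsg.Agent.H20.Cd
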