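import Cfsg.Agent.H20.CdA
import Cfsg.Agent.H88.Deg4

open scoped commutatorElement
open Cfsg Cfsg.Agent.H5 Cfsg.Agent.H6 Cfsg.Agent.H88

set_option linter.unusedSectionVars false
set_option linter.unusedVariables false

namespace Cfsg.Agent.H20.Cd

universe u

section
variable {G : Type*} [Group G] [Finite G]

theorem lemB {q : ℕ} [Fact q.Prime] (D L : Subgroup G) [D.Normal] [L.Normal] (hLD : ¬ L ≤ D)
    (hmax : ∀ X : Subgroup G, X.Normal → X ≤ L → X ≤ D ∨ X = L) (S : Sylow q G)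
    (hL : L ≤ ((S : Subgroup G) ⊓ L) ⊔ D)
    (hN : Subgroup.normalizer (((S : Subgroup G) ⊓ L : Subgroup G) : Set G) ≠ ⊤) {χ : G → ℂ}
    (hχ : IsIrrCharacter G χ) (hk : Kr χ D) : ∃ ψ : G → ℂ, IsIrrCharacter G ψ ∧
      charDegree χ < charDegree ψ ∧ ∀ M : Subgroup G, Kr ψ M → Kr χ M := by
  classical
  set Q := (S : Subgroup G) ⊓ L with hQd
  have hQ : IsPGroup q Q := S.isPGroup'.to_inf_left
  have hQL : ¬ q ∣ Q.relIndex L := by
    rw [Subgroup.inf_relIndex_right]; exact H3.not_dvd_relIndex_sylow_of_normal S L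
  obtain ⟨H, hH, hNH⟩ := (eq_top_or_exists_le_coatom _).resolve_left hN
  have hQH : Q ≤ H := Subgroup.le_normalizer.trans hNH
  have hF := frattini_of_relIndex inf_le_right hQ hQL
  rcases garrison_aux hχ hH (by
    rw [eq_top_iff, ← hF]
    exact sup_le (hNH.trans le_sup_right) (hL.trans (sup_le (hQH.trans le_sup_right)
      (le_trans (fun x hx => hk x hx) le_sup_left)))) with ⟨ψ, h1, h2, h3⟩ | hc
  · exact ⟨ψ, h1, h2, fun M hM g hg => h3.le (hM g hg)⟩
  exfalso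
  rcases hmax (H.normalCore ⊓ L) inferInstance inf_le_right with h1 | h1
  · have h2 : ∀ x ∈ L, x ∉ D → χ x = 0 := fun x hx hxK => by
      have h3 : x ∈ ((Q ⊔ D : Subgroup G) : Set G) := hL hx
      rw [Subgroup.mul_normal] at h3
      obtain ⟨a, ha, b, hb, rfl⟩ := h3
      by_contra h0
      rw [apply_mul_of_apply_eq_degree' (isCharacter_of_isIrr hχ) (hk b hb)] at h0
      exact hxK (D.mul_mem (h1 ⟨hc a (hQH ha) h0, ha.2⟩) hb)
    have := Fintype.ofFinite L
    obtain ⟨x, hx, hxD⟩ := SetLike.not_le_iff_exists.1 hLD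
    refine degree_ne_zero hχ ((apply_eq_degree_of_sum_ne_zero hχ L ?_ hx).symm.trans (h2 x hx hxD))
    rw [← Finset.sum_filter_add_sum_filter_not _ (fun x : L => (x : G) ∈ D),
      Finset.sum_eq_zero (s := Finset.univ.filter fun x : L => ¬ (x : G) ∈ D)
        fun x hx => h2 x x.2 (Finset.mem_filter.mp hx).2, add_zero,
      Finset.sum_congr (s₁ := Finset.univ.filter fun x : L => (x : G) ∈ D) rfl
        (f := fun x : L => χ x) (g := fun _ => χ 1)
        fun x hx => hk x (Finset.mem_filter.mp hx).2,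
      Finset.sum_const, nsmul_eq_mul]
    exact mul_ne_zero (Nat.cast_ne_zero.mpr (Finset.card_ne_zero.mpr
      ⟨1, Finset.mem_filter.mpr ⟨Finset.mem_univ _, D.one_mem⟩⟩)) (degree_ne_zero hχ)
  · refine hH.1 ?_
    rw [eq_top_iff, ← hF]
    exact sup_le hNH (h1.ge.trans (inf_le_left.trans H.normalCore_le))

theorem two_step {q : ℕ} (hq : q.Prime) (A N : Subgroup G) [hA : A.Normal] [hN : N.Normal]
    (hab : ⁅A, A⁆ = ⊥) (h : ∀ x ∈ N, ∃ k, x ^ q ^ k ∈ A) {s l : ℕ}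
    (hcd : ∀ χ : G → ℂ, IsIrrCharacter G χ → ¬ Kr χ N → charDegree χ = s ∨ charDegree χ = l) :
    ∃ x, ∀ χ : G → ℂ, IsIrrCharacter G χ → ¬ Kr χ ⁅N, N⁆ → charDegree χ = x := by
  refine ⟨if s.factorization q < l.factorization q then l else s, fun χ h1 h2 => ?_⟩
  obtain ⟨ψ, h3, h4, h5⟩ := pmin hq A N hab h h1 h2
  rcases hcd χ h1 fun e => h2 (e.mono (Subgroup.commutator_le_left N N)) with h6 | h6 <;>
    rcases hcd ψ h3 h4 with h7 | h7 <;> rw [h6, h7] at h5 <;> rw [h6] <;> split_ifs <;> omega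

theorem three_step {q : ℕ} (hq : q.Prime) (A N : Subgroup G) [hA : A.Normal] [hN : N.Normal]
    (hab : ⁅A, A⁆ = ⊥) (h : ∀ x ∈ N, ∃ k, x ^ q ^ k ∈ A) {a b c : ℕ}
    (hcd : ∀ χ : G → ℂ, IsIrrCharacter G χ → ¬ Kr χ N →
      charDegree χ = a ∨ charDegree χ = b ∨ charDegree χ = c) :
    ∃ x y, ∀ χ : G → ℂ, IsIrrCharacter G χ → ¬ Kr χ ⁅N, N⁆ →
      charDegree χ = x ∨ charDegree χ = y := by
  have key : ∀ χ : G → ℂ, IsIrrCharacter G χ → ¬ Kr χ ⁅N, N⁆ →
      (charDegree χ = a ∨ charDegree χ = b ∨ charDegree χ = c) ∧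
      (a.factorization q < (charDegree χ).factorization q ∨
        b.factorization q < (charDegree χ).factorization q ∨
        c.factorization q < (charDegree χ).factorization q) := fun χ h1 h2 => by
    obtain ⟨ψ, h3, h4, h5⟩ := pmin hq A N hab h h1 h2
    refine ⟨hcd χ h1 fun e => h2 (e.mono (Subgroup.commutator_le_left N N)), ?_⟩
    rcases hcd ψ h3 h4 with h7 | h7 | h7 <;> rw [h7] at h5 <;> simp [h5]
  by_cases h1 : a.factorization q ≤ b.factorization q ∧ a.factorization q ≤ c.factorization q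
  · refine ⟨b, c, fun χ h2 h3 => ?_⟩
    obtain ⟨h4 | h4, h5⟩ := key χ h2 h3
    · rw [h4] at h5; omega
    · exact h4
  by_cases h1' : b.factorization q ≤ c.factorization q
  · refine ⟨a, c, fun χ h2 h3 => ?_⟩
    obtain ⟨h4 | h4 | h4, h5⟩ := key χ h2 h3
    · exact Or.inl h4
    · rw [h4] at h5; omega
    · exact Or.inr h4
  · refine ⟨a, b, fun χ h2 h3 => ?_⟩
    obtain ⟨h4 | h4 | h4, h5⟩ := key χ h2 h3
    · exact Or.inl h4
    · exact Or.inr h4
    · rw [h4] at h5; omega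

/-- elements of `L` whose image modulo `L'` has `q`-power order -/
def qPart (q : ℕ) (L : Subgroup G) [L.Normal] : Subgroup G where
  carrier := {x | x ∈ L ∧ ∃ k, (x : G ⧸ ⁅L, L⁆) ^ q ^ k = 1}
  one_mem' := ⟨L.one_mem, 0, by simp⟩
  inv_mem' := by
    rintro x ⟨h, k, hk⟩
    exact ⟨L.inv_mem h, k, by rw [QuotientGroup.mk_inv, inv_pow, hk, inv_one]⟩
  mul_mem' := by
    rintro x y ⟨h, k, hk⟩ ⟨h', j, hj⟩
    refine ⟨L.mul_mem h h', k + j, ?_⟩
    have : Commute (x : G ⧸ ⁅L, L⁆) y := by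
      rw [← commutatorElement_eq_one_iff_commute]
      exact (QuotientGroup.eq_one_iff ⁅x, y⁆).2 (Subgroup.commutator_mem_commutator h h')
    rw [QuotientGroup.mk_mul, this.mul_pow, pow_add, pow_mul, hk, mul_comm (q ^ k), pow_mul, hj]
    simp

theorem qPart_normal (q : ℕ) (L : Subgroup G) [hL : L.Normal] : (qPart q L).Normal := ⟨by
  rintro x ⟨h, k, hk⟩ g
  exact ⟨hL.conj_mem x h g, k, by
    rw [QuotientGroup.mk_mul, QuotientGroup.mk_mul, QuotientGroup.mk_inv, conj_pow, hk]; simp⟩⟩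

theorem inertia_le_det (L : Subgroup G) [L.Normal] {ψ : L → ℂ} (hψ : IsIrrCharacter L ψ) :
    inertia L ψ ≤ inertia L (detChar ψ) := fun g hg => by
  have := Fintype.ofFinite G
  have h1 := H30.detChar_comp_of_irr (isCharacter_of_isIrr hψ)
    (MulAut.conjNormal g : L ≃* L).toMonoidHom (isIrr_conjChar L hψ g)
  rw [mem_inertia] at hg ⊢
  exact h1.symm.trans (congrArg detChar hg)

theorem not_kr_of_over (L : Subgroup G) [Fintype L] {χ : G → ℂ} (hχ : IsIrrCharacter G χ)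
    {θ : L → ℂ} (hθ : IsIrrCharacter L θ) (h : classInner (fun x : L => χ x) θ ≠ 0)
    (h1 : θ ≠ fun _ => 1) : ¬ Kr χ L := fun e => by
  obtain ⟨x, hx, h2⟩ := exists_ne_of_over_nontrivial L (isCharacter_of_isIrr hχ) hθ h1 h
  exact h2 (e x hx)

theorem fact_le_of_dvd {a b : ℕ} (h : a ∣ b) (hb : b ≠ 0) (q : ℕ) :
    a.factorization q ≤ b.factorization q :=
  (Nat.factorization_le_iff_dvd (fun e => hb (by simpa [e] using h)) hb).2 h q

/-- the last step: `E` central in `L` -/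
theorem central_case {p q s : ℕ} [hp : Fact p.Prime] (hq : q.Prime) (hpq : q ≠ p)
    (E P L : Subgroup G) [E.Normal] [P.Normal] [L.Normal] (hE : E ≠ ⊥) (hEP : E ≤ P)
    (hP : IsPGroup p P) (hPL : P ≤ ⁅L, L⁆) (hLL : ⁅L, L⁆ ≠ L) (hpow : ∀ x ∈ L, x ^ q ∈ P)
    (hc : L ≤ Subgroup.centralizer (E : Set G))
    (hS : ∀ χ : G → ℂ, IsIrrCharacter G χ → Kr χ P → ¬ Kr χ L → charDegree χ = s)
    (hX : ∀ χ : G → ℂ, IsIrrCharacter G χ → ¬ Kr χ E → charDegree χ = s) : False := by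
  have := Fintype.ofFinite G
  have := Fintype.ofFinite L
  have := Fintype.ofFinite E
  have := Fintype.ofFinite (E.subgroupOf L)
  have hPL' : P ≤ L := hPL.trans (Subgroup.commutator_le_left L L)
  have hEL : E ≤ L := hEP.trans hPL'
  have hcm : ∀ x : L, (x : G) ∈ P → x ∈ commutator L := fun x hx => by
    have := hPL hx
    rw [← L.map_subtype_commutator] at this
    obtain ⟨y, hy, e⟩ := this
    exact (show y = x from Subtype.ext e) ▸ hy
  have hP1 : ∀ (ν : L →* ℂˣ) (x : L), (x : G) ∈ P → ν x = 1 := fun ν x hx =>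
    Abelianization.commutator_subset_ker ν (hcm x hx)
  have hνq : ∀ ν : L →* ℂˣ, ν ^ q = 1 := fun ν => MonoidHom.ext fun x => by
    rw [MonoidHom.pow_apply, ← map_pow]; exact hP1 ν _ (hpow x x.2)
  have := (Subgroup.nontrivial_iff_ne_bot E).2 hE
  obtain ⟨φ, hφ, hφ1⟩ := exists_irr_ne_one (G := E)
  have hθ := isIrr_resSub hEL hφ
  obtain ⟨k, hk⟩ := ((hP.to_le hEP).of_equiv (Subgroup.subgroupOfEquivOfLe hEL).symm).exists_card_eq
  have hqk : ¬ q ∣ p ^ k := fun e => hpq ((Nat.prime_dvd_prime_iff_eq hq hp.out).1 (hq.dvd_of_dvd_pow e))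
  obtain ⟨ψ, h1, h2, h3⟩ := lemE hq (E.subgroupOf L) hθ fun e => (hq.dvd_mul.1 e).elim
    (fun e => hqk (hk ▸ e.trans (detOrder_dvd_card _))) fun e => hqk (hk ▸ e.trans (charDegree_dvd_card hθ))
  rw [inertia_resSub_eq_top hEL (fun g hg => (mem_inertia_iff E).2 fun n => congrArg φ (Subtype.ext (by
      have := Subgroup.mem_centralizer_iff.1 (hc hg) n n.2
      change g * n * g⁻¹ = n
      rw [← this, mul_inv_cancel_right]))), Subgroup.index_top, Nat.factorization_one,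
    Finsupp.zero_apply, Nat.le_zero] at h3
  have h4 : ¬ q ∣ charDegree ψ := fun e =>
    (hq.factorization_pos_of_dvd (charDegree_ne_zero h1) e).ne' h3
  have h5 : ¬ Kr ψ (E.subgroupOf L) := not_kr_of_over _ h1 hθ h2 fun e => hφ1 (funext fun x =>
    congrFun e ⟨⟨x, hEL x.2⟩, x.2⟩)
  have h6 : p ∣ charDegree ψ := by
    obtain ⟨r, hr, h7⟩ := Nat.exists_prime_and_dvd (n := charDegree ψ) fun e =>
      h5 fun g hg => (commutator_le_charKer_iff h1).2 e g (hcm g (hEP hg))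
    have := Fact.mk hr
    obtain ⟨x, hx⟩ := exists_prime_orderOf_dvd_card' r (h7.trans (charDegree_dvd_card h1))
    obtain ⟨j, hj⟩ := hP ⟨_, hpow x x.2⟩
    have h8 : r ∣ q * p ^ j := hx ▸ orderOf_dvd_of_pow_eq_one (Subtype.ext (by
      rw [pow_mul]; exact congrArg (fun y : P => (y : G)) hj))
    rcases hr.dvd_mul.1 h8 with h9 | h9
    · exact absurd (((Nat.prime_dvd_prime_iff_eq hr hq).1 h9) ▸ h7) h4
    · exact ((Nat.prime_dvd_prime_iff_eq hr hp.out).1 (hr.dvd_of_dvd_pow h9)) ▸ h7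
  obtain ⟨ψ', ν, h7, h8, h9, h10, h11⟩ : ∃ (ψ' : L → ℂ) (ν : L →* ℂˣ), IsIrrCharacter L ψ' ∧
      p ∣ charDegree ψ' ∧ ¬ Kr ψ' (E.subgroupOf L) ∧ (detChar ψ' = fun g => (ν g : ℂ)) ∧ ν ≠ 1 := by
    obtain ⟨ν, hν⟩ := H30.exists_hom_detChar ψ
    by_cases h0 : ν = 1
    swap
    · exact ⟨ψ, ν, h1, h6, h5, hν, h0⟩
    obtain ⟨μ, hμ⟩ := exists_monoidHom_ne_one (G := L) fun e => hLL (by
      rw [← L.map_subtype_commutator, e, ← MonoidHom.range_eq_map, L.range_subtype])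
    refine ⟨fun g => (μ g : ℂ) * ψ g, μ ^ charDegree ψ, H30.isIrr_hom_mul μ h1, ?_, fun e => h5
      fun g hg => ?_, ?_, fun e => hμ ?_⟩
    · rwa [charDegree_congr (θ := ψ) (by simp)]
    · simpa [hP1 μ g (hEP hg)] using e g hg
    · rw [H30.detChar_hom_mul μ h1 (charDegree_cast (isCharacter_of_isIrr h1)).symm, hν, h0]
      ext g; simp
    · exact orderOf_eq_one_iff.1 (Nat.eq_one_of_dvd_coprimes ((Nat.Prime.coprime_iff_not_dvd hq).2 h4)
        (orderOf_dvd_of_pow_eq_one (hνq μ)) (orderOf_dvd_of_pow_eq_one (x := μ) e))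
  obtain ⟨χ₂, h12, h13⟩ := exists_irr_over L h7
  have h14 := hX χ₂ h12 fun e => h9 (kr_under L (isCharacter_of_isIrr h12) h7 h13 e)
  obtain ⟨e, -, he⟩ := exists_index_inertia_dvd L h12 h7 h13
  have hν := H30.isIrr_hom ν
  obtain ⟨χ₁, h15, h16, h17⟩ := lemE hp.out L hν (by
    rw [charDegree_monoidHom, mul_one, detOrder, H30.detChar_hom, H30.orderOf_hom_coe]
    exact fun e => hpq ((Nat.prime_dvd_prime_iff_eq hp.out hq).1
      (e.trans (orderOf_dvd_of_pow_eq_one (hνq ν)))).symm)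
  have h18 := hS χ₁ h15 (fun g hg => apply_eq_degree_of_under_normal L h15 hν h16 P hPL'
    (fun x hx => by simp [hP1 ν x hx]) hg) (not_kr_of_over L h15 hν h16 fun e => h11
      (H30.homCoe_injective e))
  have h19 : (inertia L fun g => (ν g : ℂ)).index * p ∣ s := by
    rw [← h14, he, mul_assoc]
    exact (mul_dvd_mul (h10 ▸ Subgroup.index_dvd_of_le (inertia_le_det L h7)) h8).mul_left _
  have h20 := fact_le_of_dvd h19 (h14 ▸ charDegree_ne_zero h12) p
  rw [Nat.factorization_mul Subgroup.index_ne_zero_of_finite hp.out.ne_zero, Finsupp.add_apply,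
    hp.out.factorization_self] at h20
  rw [h18] at h17
  omega

end

theorem t1b_aux (c : ℕ) : ∀ (G : Type u) [Group G] [Finite G] [Group.IsSolvable G]
    (M : Subgroup G) [M.Normal] (s l : ℕ), Nat.card G = c → s < l →
    (∀ χ : G → ℂ, IsIrrCharacter G χ → ¬ Kr χ M → charDegree χ = s ∨ charDegree χ = l) →
    ⁅⁅M, M⁆, ⁅M, M⁆⁆ = ⊥ := by
  induction c using Nat.strong_induction_on with
  | _ c ih =>
  intro G _ _ _ M hM s l hc hsl hcd
  by_contra h0
  set E := ⁅⁅M, M⁆, ⁅M, M⁆⁆ with hE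
  have hMM : ⁅M, M⁆ ≤ M := Subgroup.commutator_le_left M M
  have hEM : E ≤ M := (Subgroup.commutator_le_left _ _).trans hMM
  have hmon : ∀ X : Subgroup G, X.Normal → X ≠ ⊥ → E ≤ X := fun X hX hX1 => by
    have := hM.map _ (QuotientGroup.mk'_surjective X)
    rw [← map_mk_eq_bot, hE, Subgroup.map_commutator, Subgroup.map_commutator]
    exact ih _ (hc ▸ card_quotient_lt X hX1) _ _ s l rfl hsl fun φ h1 h2 =>
      hcd _ (isIrrCharacter_inflate X h1) (by rwa [kr_inflate])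
  obtain ⟨E', p, hp, h1, h2, h3, h4, h5, -, -⟩ :=
    H2.exists_minimal_normal_le_of_solvable E inferInstance inferInstance h0
  obtain rfl : E' = E := le_antisymm h3 (hmon _ h1 h2)
  have := Fact.mk hp
  have hMp : ¬ IsPGroup p M := fun h => by
    obtain ⟨x, hx⟩ := two_step hp ⊥ M (by simp) (fun x hx => by
      obtain ⟨k, hk⟩ := h ⟨x, hx⟩
      exact ⟨k, congrArg Subtype.val hk⟩) hcd
    exact h0 (t1a _ hx)
  obtain ⟨L, ⟨hL, hLM, hLp⟩, hmin⟩ := WellFounded.has_min (wellFounded_lt (α := Subgroup G))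
    {L | L.Normal ∧ L ≤ M ∧ ¬ IsPGroup p L} ⟨M, hM, le_rfl, hMp⟩
  set P := pCore p G ⊓ L with hPd
  have hP : IsPGroup p P := H44.pCore_isPGroup.to_inf_left
  have hmax : ∀ X : Subgroup G, X.Normal → X ≤ L → X ≤ P ∨ X = L := fun X hX hXL => by
    by_cases h : IsPGroup p X
    · exact Or.inl (le_inf (H44.le_pCore hX h) hXL)
    · exact Or.inr (by_contra fun e => hmin X ⟨hX, hXL.trans hLM, h⟩ (lt_of_le_of_ne hXL e))
  have hLP : ¬ L ≤ P := fun e => hLp (hP.to_le e)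
  obtain ⟨q, hq, hpow⟩ := exists_chief_pow P L hLP inf_le_right fun X hX h6 h7 =>
    (hmax X hX h7).imp_left fun e => le_antisymm e h6
  have hqp : q ≠ p := by
    rintro rfl
    refine hLp fun x => ?_
    obtain ⟨k, hk⟩ := hP ⟨_, hpow x x.2⟩
    exact ⟨k + 1, Subtype.ext (by rw [pow_succ', pow_mul]; exact congrArg (fun y : P => (y : G)) hk)⟩
  have := Fact.mk hq
  obtain ⟨S⟩ : Nonempty (Sylow q G) := inferInstance
  have hLS : L ≤ ((S : Subgroup G) ⊓ L) ⊔ P := fun x hx => by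
    have h6 : x ∈ (((S : Subgroup G) ⊔ P : Subgroup G) : Set G) :=
      le_sup_sylow P L (fun x hx => ⟨1, by simpa using hpow x hx⟩) S hx
    rw [Subgroup.mul_normal] at h6
    obtain ⟨a, ha, b, hb, rfl⟩ := h6
    exact mul_mem (Subgroup.mem_sup_left ⟨ha, (L.mul_mem_cancel_right hb.2).1 hx⟩)
      (Subgroup.mem_sup_right hb)
  have hQP : ¬ (S : Subgroup G) ⊓ L ≤ P := fun e => hLP (hLS.trans (sup_le e le_rfl))
  have hN : Subgroup.normalizer (((S : Subgroup G) ⊓ L : Subgroup G) : Set G) ≠ ⊤ := fun e =>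
    h0 ((IsPGroup.disjoint_of_ne p q hqp.symm _ _ h5 S.isPGroup').eq_bot_of_le
      ((hmon _ (Subgroup.normalizer_eq_top_iff.1 e) fun e => hQP (e.le.trans bot_le)).trans
        inf_le_left))
  have hS : ∀ χ : G → ℂ, IsIrrCharacter G χ → Kr χ P → ¬ Kr χ M → charDegree χ = s :=
    fun χ h6 h7 h8 => by
      obtain ⟨ψ, h9, h10, h11⟩ := lemB P L hLP hmax S hLS hN h6 h7
      have := hcd χ h6 h8
      have := hcd ψ h9 fun e => h8 (h11 M e)
      omega
  have hMP : ⁅M, M⁆ ≤ P := t1a_rel P M hS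
  have hEP : E ≤ ⁅P, P⁆ := Subgroup.commutator_mono hMP hMP
  have hPP : ⁅P, P⁆ ≤ P := Subgroup.commutator_le_left P P
  have hPL : P ≤ ⁅L, L⁆ := fun x hx => by
    have h6 : qPart q L = L := (hmax _ (qPart_normal q L) fun x hx => hx.1).resolve_left fun e =>
      hQP (le_trans (b := qPart q L) (fun y hy => ⟨hy.2, by
        obtain ⟨k, hk⟩ := S.isPGroup' ⟨y, hy.1⟩
        exact ⟨k, by
          rw [← QuotientGroup.mk_pow, show y ^ q ^ k = 1 from congrArg Subtype.val hk]; rfl⟩⟩) e)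
    obtain ⟨-, k, hk⟩ := h6.ge hx.2
    obtain ⟨j, hj⟩ := hP ⟨x, hx⟩
    refine (QuotientGroup.eq_one_iff x).1 (orderOf_eq_one_iff.1 (Nat.eq_one_of_dvd_coprimes
      (Nat.coprime_pow_primes k j hq hp hqp) (orderOf_dvd_of_pow_eq_one hk)
      (orderOf_dvd_of_pow_eq_one ?_)))
    rw [← QuotientGroup.mk_pow, show x ^ p ^ j = 1 from congrArg Subtype.val hj]; rfl
  have hPM : P ≤ M := inf_le_right.trans hLM
  have hX : ∀ χ : G → ℂ, IsIrrCharacter G χ → ¬ Kr χ E → charDegree χ = s := fun χ h6 h7 => by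
    refine (hcd χ h6 fun e => h7 (e.mono hEM)).resolve_right fun h8 => ?_
    have hp0 : ∀ x ∈ P, ∃ k, x ^ p ^ k ∈ (⊥ : Subgroup G) := fun x hx => by
      obtain ⟨k, hk⟩ := hP ⟨x, hx⟩
      exact ⟨k, congrArg Subtype.val hk⟩
    have hq0 : ∀ x ∈ L, ∃ k, x ^ q ^ k ∈ P := fun x hx => ⟨1, by simpa using hpow x hx⟩
    obtain ⟨ψ, h9, h10, h11⟩ := pmin hp ⊥ P (by simp) hp0 h6 fun e => h7 (e.mono hEP)
    have h12 : charDegree ψ = s := (hcd ψ h9 fun e => h10 (e.mono hPM)).resolve_right fun e => by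
      rw [e, h8] at h11; exact lt_irrefl _ h11
    have h13 : Kr ψ ⁅P, P⁆ := by_contra fun e => by
      obtain ⟨η, h14, h15, h16⟩ := pmin hp ⊥ P (by simp) hp0 h9 e
      rw [h12, h8] at h11
      rcases hcd η h14 fun e => h15 (e.mono hPM) with h17 | h17 <;> rw [h12, h17] at h16 <;> omega
    obtain ⟨η, h14, h15, h16, h17⟩ := pmin_rel hq ⁅P, P⁆ P L le_rfl hq0 h9 h13
      fun e => h10 (e.mono hPL)
    have h18 : charDegree η = l := (hcd η h14 fun e => h16 (e.mono hLM)).resolve_left fun e => by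
      rw [e, h12] at h17; exact lt_irrefl _ h17
    obtain ⟨ζ, h19, -, h20, h21⟩ := pmin_rel hq ⁅P, P⁆ P L le_rfl hq0 h14 h15
      fun e => hsl.ne (by rw [← h18, hS η h14 (e.mono hPL) fun e => h16 (e.mono hLM)])
    rw [h12, h18] at h17
    rcases hcd ζ h19 fun e => h20 (e.mono hLM) with h22 | h22 <;> rw [h18, h22] at h21 <;> omega
  have hEP' : E ≤ P := hEP.trans hPP
  have hC : P ≤ Subgroup.centralizer (E : Set G) := by
    obtain ⟨z, hz, hz1, hz2⟩ := H3.exists_mem_center_orderOf_eq hP (E.subgroupOf P) fun e => h0 (by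
      rw [← Subgroup.map_subgroupOf_eq_of_le hEP', e, Subgroup.map_bot])
    rw [Subgroup.le_centralizer_iff]
    refine hmon _ inferInstance fun e => hp.ne_one ?_
    have : (z : G) ∈ Subgroup.centralizer (P : Set G) := Subgroup.mem_centralizer_iff.2 fun y hy =>
      congrArg Subtype.val (Subgroup.mem_center_iff.1 hz1 ⟨y, hy⟩)
    rw [e, Subgroup.mem_bot] at this
    rw [← hz2, show z = 1 from Subtype.ext this, orderOf_one]
  rcases hmax (Subgroup.centralizer (E : Set G) ⊓ L) inferInstance inf_le_right with h6 | h6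
  · obtain ⟨t, ht, htP⟩ := SetLike.not_le_iff_exists.1 hLP
    obtain ⟨μ, hμ⟩ : ∃ μ, t ∉ stab E μ := by
      by_contra! e
      exact htP (h6 ⟨mem_centralizer_of_forall_stab E (fun a ha b hb => H2.mul_comm_of_mem h4 ha hb) e, ht⟩)
    have := Fintype.ofFinite E
    obtain ⟨χ, h7, h8⟩ := exists_irr_over E (H30.isIrr_hom μ)
    have h9 := hX χ h7 (not_kr_of_over E h7 (H30.isIrr_hom μ) h8 fun e => hμ (mem_stab.2 fun n => by
      rw [show μ = 1 from H30.homCoe_injective e]; rfl))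
    obtain ⟨ψ, h10, h11, h12, h13⟩ := lemR_rel hq P L (stab E μ) (fun g hg => mem_stab.2 fun n =>
      congrArg μ (Subtype.ext (by
        have := Subgroup.mem_centralizer_iff.1 (hC hg) n n.2
        change g * n * g⁻¹ = n
        rw [← this, mul_inv_cancel_right]))) hpow fun e => hμ (e ht)
    rw [hS ψ h10 h11 fun e => h12 (e.mono hLM), ← h9] at h13
    exact h13.not_ge (fact_le_of_dvd (index_inertia_dvd_charDegree E h7 (H30.isIrr_hom μ) h8)
      (charDegree_ne_zero h7) q)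
  · exact central_case hq hqp E P L h0 hEP' hP hPL
      (commutator_lt (by rintro rfl; exact hLP bot_le)).ne hpow (h6.ge.trans inf_le_left)
      (fun χ h7 h8 h9 => hS χ h7 h8 fun e => h9 (e.mono hLM)) hX

variable {G : Type*} [Group G] [Finite G] [Group.IsSolvable G]

/-- two relative degrees -/
theorem t1b (M : Subgroup G) [M.Normal] {m n : ℕ}
    (h : ∀ χ : G → ℂ, IsIrrCharacter G χ → ¬ Kr χ M → charDegree χ = m ∨ charDegree χ = n) :
    ⁅⁅M, M⁆, ⁅M, M⁆⁆ = ⊥ := by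
  rcases lt_trichotomy m n with h1 | rfl | h1
  · exact t1b_aux _ G M m n rfl h1 h
  · rw [t1a M fun χ h1 h2 => (h χ h1 h2).elim id id]; simp
  · exact t1b_aux _ G M n m rfl h1 fun χ h1 h2 => (h χ h1 h2).symm

theorem t1b_rel (E M : Subgroup G) [E.Normal] [hM : M.Normal] {m n : ℕ}
    (h : ∀ χ : G → ℂ, IsIrrCharacter G χ → Kr χ E → ¬ Kr χ M →
      charDegree χ = m ∨ charDegree χ = n) : ⁅⁅M, M⁆, ⁅M, M⁆⁆ ≤ E := by
  have := hM.map _ (QuotientGroup.mk'_surjective E)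
  rw [← map_mk_eq_bot, Subgroup.map_commutator, Subgroup.map_commutator]
  exact t1b (m := m) (n := n) _ fun φ h1 h2 =>
    h _ (isIrrCharacter_inflate E h1) (kr_inflate_self E φ) (by rwa [kr_inflate])

end Cfsg.Agent.H20.Cd
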