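import Cfsg.Agent.H20.CdB
import Cfsg.Agent.H49.SylowOf
import Cfsg.Agent.S0011

open scoped commutatorElement
open Cfsg Cfsg.Agent.H5 Cfsg.Agent.H6 Cfsg.Agent.H88

set_option linter.unusedSectionVars false
set_option linter.unusedVariables false

namespace Cfsg.Agent.H20.Cd

universe u

/-- at most three non-linear degrees -/
def Four (G : Type*) [Group G] (a b c : ℕ) : Prop := ∀ χ : G → ℂ, IsIrrCharacter G χ →
  charDegree χ = 1 ∨ charDegree χ = a ∨ charDegree χ = b ∨ charDegree χ = c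

section
variable {G : Type*} [Group G] [Finite G] {a b c : ℕ}

theorem Four.reorder (h : Four G a b c) {χ : G → ℂ} (h1 : IsIrrCharacter G χ)
    (h2 : charDegree χ ≠ 1) : ∃ m n, Four G (charDegree χ) m n := by
  rcases (h χ h1).resolve_left h2 with e | e | e
  · exact ⟨b, c, e ▸ h⟩
  · exact ⟨a, c, fun ψ h3 => by have := h ψ h3; omega⟩
  · exact ⟨a, b, fun ψ h3 => by have := h ψ h3; omega⟩

theorem Four.reorder2 (h : Four G a b c) {χ : G → ℂ} (h1 : IsIrrCharacter G χ)
    (h2 : charDegree χ ≠ 1) (h3 : charDegree χ ≠ a) : ∃ n, Four G a (charDegree χ) n := by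
  rcases ((h χ h1).resolve_left h2).resolve_left h3 with e | e
  · exact ⟨c, e ▸ h⟩
  · exact ⟨b, fun ψ h3 => by have := h ψ h3; omega⟩

theorem ds4 (G : Type*) [Group G] : derivedSeries G 4 =
    ⁅⁅⁅commutator G, commutator G⁆, ⁅commutator G, commutator G⁆⁆,
      ⁅⁅commutator G, commutator G⁆, ⁅commutator G, commutator G⁆⁆⁆ := rfl

theorem taketa4 [Fintype G] (hM : ∀ χ : G → ℂ, IsIrrCharacter G χ → IsMonomialChar χ)
    (h : Four G a b c) : derivedSeries G 4 = ⊥ := by
  rw [ds4]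
  refine eq_bot_of_forall_irr fun χ hχ => commutator_le_ker_of_isMonomialChar _ (hM χ hχ)
    fun ψ hψ hlt => commutator_le_ker_of_isMonomialChar _ (hM ψ hψ)
      fun η hη hlt' => commutator_le_ker_of_isMonomialChar _ (hM η hη)
        fun ζ hζ hlt'' => (commutator_le_charKer_iff hζ).mpr ?_
  have := charDegree_pos hζ
  have := h χ hχ
  have := h ψ hψ
  have := h η hη
  have := h ζ hζ
  omega

theorem le_of_forall_kr (E D : Subgroup G) [E.Normal]
    (h : ∀ χ : G → ℂ, IsIrrCharacter G χ → Kr χ E → Kr χ D) : D ≤ E := by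
  rw [← map_mk_eq_bot]
  exact eq_bot_of_forall_irr fun φ h1 =>
    (kr_inflate E φ D).1 (h _ (isIrrCharacter_inflate E h1) (kr_inflate_self E φ))

theorem ne_one_of_not_kr {χ : G → ℂ} (h1 : IsIrrCharacter G χ) (h : ¬ Kr χ (commutator G)) :
    charDegree χ ≠ 1 := fun e => h ((commutator_le_charKer_iff h1).2 e)

theorem cmono {A B : Subgroup G} (h : A ≤ B) : ⁅A, A⁆ ≤ ⁅B, B⁆ := Subgroup.commutator_mono h h

theorem under_nonlinear (N : Subgroup G) [N.Normal] [Fintype N] {χ : G → ℂ}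
    (hχ : IsIrrCharacter G χ) (h : ¬ Kr χ ⁅N, N⁆) : ∃ θ : N → ℂ, IsIrrCharacter N θ ∧
      charDegree θ ≠ 1 ∧ charDegree θ ∣ charDegree χ := by
  obtain ⟨θ, h1, h2⟩ := exists_irr_under' N hχ
  exact ⟨θ, h1, charDegree_ne_one_of_under N hχ (by simpa [Kr] using h) h1 h2,
    charDegree_dvd_of_normal N hχ h1 h2⟩

theorem case_prime [Group.IsSolvable G] {q : ℕ} (hq : q.Prime) (hcd : Four G a b c)
    (hall : ∀ χ : G → ℂ, IsIrrCharacter G χ → charDegree χ ≠ 1 → q ∣ charDegree χ)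
    (ih : ∀ A : Subgroup G, A ≠ ⊤ → ∀ a b c, Four A a b c → derivedSeries A 4 = ⊥) :
    derivedSeries G 4 = ⊥ := by
  have := Fact.mk hq
  have := Fintype.ofFinite G
  obtain ⟨A, hA, hcop, k, hk⟩ := H3.hasNormalPComplement_iff_exists_normal.mp
    (hasNormalPComplement_of_forall_dvd hq hall)
  have := Fintype.ofFinite A
  by_cases hGA : commutator G ≤ ⁅A, A⁆
  · by_cases hT : A = ⊤
    · rw [ds4, eq_bot_of_forall_irr (D := commutator G) fun χ h1 =>
        (commutator_le_charKer_iff h1).2 (by_contra fun e => hq.ne_one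
          (Nat.eq_one_of_dvd_coprimes hcop (by
            rw [hT, Subgroup.card_top]
            exact (hall χ h1 e).trans (charDegree_dvd_card h1)) dvd_rfl))]
      simp
    · have h1 := congrArg (Subgroup.map A.subtype) (ih A hT (ordCompl[q] a) (ordCompl[q] b)
        (ordCompl[q] c) fun θ hθ => by
          obtain ⟨χ, hχ, hne⟩ := exists_irr_over A hθ
          rw [charDegree_eq_ordCompl hq A hcop hk hχ hθ hne]
          rcases hcd χ hχ with h | h | h | h <;> simp [h])
      simp only [ds4, Subgroup.map_commutator, A.map_subtype_commutator, Subgroup.map_bot] at h1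
      exact le_bot_iff.1 ((cmono (cmono (cmono hGA))).trans h1.le)
  have pw : ∀ χ : G → ℂ, IsIrrCharacter G χ → Kr χ ⁅A, A⁆ → ∃ j, charDegree χ = q ^ j := by
    intro χ h1 h2
    obtain ⟨φ, h3, rfl⟩ := exists_isIrr_quotient _ h1 h2
    have hs' := QuotientGroup.mk'_surjective ⁅A, A⁆
    have := hA.map _ hs'
    have h5 := (charDegree_dvd_index_of_comm h3 (A.map (QuotientGroup.mk' ⁅A, A⁆))
      (commutator_self_eq_bot_iff.mp (by rw [← Subgroup.map_commutator, map_mk_eq_bot]))).trans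
      (A.index_map_dvd hs')
    rw [hk] at h5
    obtain ⟨j, -, hj⟩ := (Nat.dvd_prime_pow hq).mp h5
    exact ⟨j, hj⟩
  have npw : ∀ χ : G → ℂ, IsIrrCharacter G χ → ¬ Kr χ ⁅A, A⁆ → ¬ ∃ j, charDegree χ = q ^ j := by
    rintro χ h1 h2 ⟨j, hj⟩
    obtain ⟨θ, h3, h4, h5⟩ := under_nonlinear A h1 h2
    exact h4 (Nat.eq_one_of_dvd_coprimes (hcop.pow_right j) (charDegree_dvd_card h3) (hj ▸ h5))
  obtain ⟨χ₀, h1, h2, h3⟩ : ∃ χ : G → ℂ, IsIrrCharacter G χ ∧ Kr χ ⁅A, A⁆ ∧
      ¬ Kr χ (commutator G) := by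
    by_contra! e
    exact hGA (le_of_forall_kr _ _ e)
  obtain ⟨m, n, h4⟩ := hcd.reorder h1 (ne_one_of_not_kr h1 h3)
  have hf := pw χ₀ h1 h2
  generalize charDegree χ₀ = f at h4 hf
  have one : ∃ j, 1 = q ^ j := ⟨0, rfl⟩
  have key : ∀ m n, Four G f m n → (∃ j, m = q ^ j) → (¬ ∃ j, n = q ^ j) →
      derivedSeries G 4 = ⊥ := fun m n h4 hm hn => by
    have h5 := t1b_rel ⁅A, A⁆ (commutator G) (m := f) (n := m) fun χ h5 h6 h7 => by
      rcases (h4 χ h5).resolve_left (ne_one_of_not_kr h5 h7) with e | e | e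
      · exact Or.inl e
      · exact Or.inr e
      · exact absurd (e ▸ pw χ h5 h6) hn
    have h6 := t1a ⁅A, A⁆ (m := n) fun χ h5 h6 => by
      rcases h4 χ h5 with e | e | e | e
      · exact absurd (e ▸ one) (npw χ h5 h6)
      · exact absurd (e ▸ hf) (npw χ h5 h6)
      · exact absurd (e ▸ hm) (npw χ h5 h6)
      · exact e
    exact le_bot_iff.1 ((cmono h5).trans h6.le)
  by_cases hm : ∃ j, m = q ^ j <;> by_cases hn : ∃ j, n = q ^ j
  · have h5 : ⁅A, A⁆ = ⊥ := eq_bot_of_forall_irr fun χ h5 => by_contra fun h6 => by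
      rcases h4 χ h5 with e | e | e | e
      · exact npw χ h5 h6 (e ▸ one)
      · exact npw χ h5 h6 (e ▸ hf)
      · exact npw χ h5 h6 (e ▸ hm)
      · exact npw χ h5 h6 (e ▸ hn)
    exact taketa4 (fun χ hχ => isMonomialChar_of_abelian_by_nilpotent A
      (commutator_self_eq_bot_iff.1 h5) (IsPGroup.of_card (p := q) hk).isNilpotent hχ) h4
  · exact key m n h4 hm hn
  · exact key n m (fun χ h => by have := h4 χ h; omega) hn hm
  · have h5 := t1a_rel ⁅A, A⁆ (commutator G) (m := f) fun χ h5 h6 h7 => by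
      rcases (h4 χ h5).resolve_left (ne_one_of_not_kr h5 h7) with e | e | e
      · exact e
      · exact absurd (e ▸ pw χ h5 h6) hm
      · exact absurd (e ▸ pw χ h5 h6) hn
    have h6 := t1b ⁅A, A⁆ (m := m) (n := n) fun χ h5 h6 => by
      rcases h4 χ h5 with e | e | e
      · exact absurd (e ▸ one) (npw χ h5 h6)
      · exact absurd (e ▸ hf) (npw χ h5 h6)
      · exact e
    exact le_bot_iff.1 ((cmono (cmono h5)).trans h6.le)

theorem case_frob [Group.IsSolvable G] (hcd : Four G a b c)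
    (hno : ∀ q : ℕ, q.Prime → ∃ χ : G → ℂ, IsIrrCharacter G χ ∧ charDegree χ ≠ 1 ∧
      ¬ q ∣ charDegree χ) (K : Subgroup G) [K.Normal] {r : ℕ} (hr : r.Prime)
    (h0 : commutator (G ⧸ K) ≠ ⊥) (hpow : ∀ x ∈ commutator (G ⧸ K), x ^ r = 1)
    (hab : ∀ a ∈ commutator (G ⧸ K), ∀ b ∈ commutator (G ⧸ K), a * b = b * a)
    (hC : ∀ g, g ∉ commutator (G ⧸ K) → ∀ k ∈ commutator (G ⧸ K), g * k = k * g → k = 1)
    (hd : ¬ r ∣ (commutator (G ⧸ K)).index) : derivedSeries G 4 = ⊥ := by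
  have hs := QuotientGroup.mk'_surjective K
  obtain ⟨χ₀, hχ₀, hf⟩ := exists_irr_degree_eq_index_of_fpf _ h0 hab hC
  have hf1 : (commutator (G ⧸ K)).index ≠ 1 := fun e => by
    obtain ⟨φ, hφ, hφ1⟩ := exists_irr_ne_one_of_commutator_ne_bot h0
    have := charDegree_le_index_of_comm hφ _ hab
    have := charDegree_pos hφ
    omega
  obtain ⟨m, n, h4⟩ := hcd.reorder (isIrrCharacter_inflate K hχ₀) (hf ▸ hf1)
  rw [charDegree_inflate, hf] at h4
  let N := (commutator (G ⧸ K)).comap (QuotientGroup.mk' K)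
  have := Fintype.ofFinite N
  have hGN : commutator G ≤ N := by
    rw [← Subgroup.map_le_iff_le_comap, map_commutator_of_surjective _ hs]
  have hNi : N.index = (commutator (G ⧸ K)).index := Subgroup.index_comap_of_surjective _ hs
  have hf0 : 0 < (commutator (G ⧸ K)).index := Nat.pos_of_ne_zero Subgroup.index_ne_zero_of_finite
  have h1 : ∀ ψ, IsIrrCharacter N ψ → ¬ r ∣ charDegree ψ → ∃ χ : G → ℂ, IsIrrCharacter G χ ∧
      charDegree χ = (commutator (G ⧸ K)).index * charDegree ψ := fun ψ hψ h =>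
    (dvd_or_exists_degree_of_frobenius_section _ hs _ hr hpow hab h0 hC hψ).resolve_left h
  generalize (commutator (G ⧸ K)).index = f at *
  refine le_bot_iff.mp ((cmono (cmono (cmono hGN))).trans (le_of_eq ?_))
  by_cases h2 : ∃ ψ, IsIrrCharacter N ψ ∧ charDegree ψ ≠ 1 ∧ ¬ r ∣ charDegree ψ
  swap
  · push Not at h2
    refine t1b ⁅N, N⁆ (m := m) (n := n) fun χ h5 h6 => ?_
    obtain ⟨θ, h7, h8, h9⟩ := under_nonlinear N h5 h6
    have h10 := (h2 θ h7 h8).trans h9
    rcases h4 χ h5 with e | e | e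
    · exact absurd (e ▸ h10) hr.not_dvd_one
    · exact absurd (e ▸ h10) hd
    · exact e
  obtain ⟨ψ₀, h5, h6, h7⟩ := h2
  obtain ⟨χ₁, h8, h9⟩ := h1 ψ₀ h5 h7
  obtain ⟨k, h10⟩ := h4.reorder2 h8 (fun e => hf1 (Nat.eq_one_of_mul_eq_one_right (h9 ▸ e)))
    fun e => h6 (Nat.eq_of_mul_eq_mul_left hf0 (by rw [← h9, e, mul_one]))
  rw [h9] at h10
  have h11 : f.Coprime k := Nat.coprime_of_dvd fun t ht h11 h12 => by
    obtain ⟨χ, h13, h14, h15⟩ := hno t ht
    rcases (h10 χ h13).resolve_left h14 with e | e | e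
    · exact h15 (e ▸ h11)
    · exact h15 (e ▸ h11.mul_right _)
    · exact h15 (e ▸ h12)
  have h12 := congrArg (Subgroup.map N.subtype) (derivedSeries_three_eq_bot (G := N)
    (m := charDegree ψ₀) (n := k) fun ψ hψ => by
      by_cases h13 : r ∣ charDegree ψ
      · obtain ⟨χ, h14, h15⟩ := exists_irr_over N hψ
        obtain ⟨e, h16, h17⟩ := exists_charDegree_eq_mul N h14 hψ h15
        have h18 : r ∣ charDegree χ := h17 ▸ h13.mul_left e
        rcases h10 χ h14 with h19 | h19 | h19 | h19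
        · exact absurd (h19 ▸ h18) hr.not_dvd_one
        · exact absurd (h19 ▸ h18) hd
        · exact absurd (h19 ▸ h18) fun e => (hr.dvd_mul.1 e).elim hd h7
        · obtain rfl : e = 1 := Nat.eq_one_of_dvd_coprimes h11 (hNi ▸ h16)
            (h19 ▸ h17 ▸ dvd_mul_right _ _)
          exact Or.inr (Or.inr (by rw [← h19, h17, one_mul]))
      · obtain ⟨χ, h14, h15⟩ := h1 ψ hψ h13
        rcases h10 χ h14 with h19 | h19 | h19 | h19
        · exact absurd (Nat.eq_one_of_mul_eq_one_right (h15 ▸ h19)) hf1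
        · exact Or.inl (Nat.eq_of_mul_eq_mul_left hf0 (by rw [← h15, h19, mul_one]))
        · exact Or.inr (Or.inl (Nat.eq_of_mul_eq_mul_left hf0 (by rw [← h15, h19])))
        · exact absurd (Nat.eq_one_of_dvd_coprimes h11 dvd_rfl (h19 ▸ h15 ▸ dvd_mul_right _ _)) hf1)
  simpa only [derivedSeries_three, Subgroup.map_commutator, N.map_subtype_commutator,
    Subgroup.map_bot] using h12

theorem pquot (hcd : Four G a b c) {p : ℕ} (hp : p.Prime) {χ : G → ℂ} (h1 : IsIrrCharacter G χ)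
    (h2 : charDegree χ ≠ 1) (h3 : ¬ p ∣ charDegree χ) {Y : Type*} [Group Y] [Finite Y]
    (π : G →* Y) (hπ : Function.Surjective π) (hY : IsPGroup p Y) {φ : Y → ℂ}
    (hφ : IsIrrCharacter Y φ) {α : ℕ} (hα : charDegree φ = p ^ α) (hφ1 : charDegree φ ≠ 1)
    {ψ : G → ℂ} (hψ : IsIrrCharacter G ψ) : (charDegree ψ).factorization p ≤ α := by
  have := Fact.mk hp
  have := Fintype.ofFinite G
  have h4 := isIrrCharacter_comp hφ π hπ
  obtain ⟨k, hk⟩ := hY.exists_card_eq
  have h5 := H30.isIrr_mul_of_ker π.ker (isCharacter_of_isIrr h1) (isIrr_restrict_of_coprime _ h1 (by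
      rw [Subgroup.index_ker, MonoidHom.range_eq_top.2 hπ, Subgroup.card_top, hk]
      exact ((Nat.Prime.coprime_iff_not_dvd hp).mpr h3).symm.pow_right _)) h4
    fun n hn => by rw [show π n = 1 from hn, map_one]
  have h6 : p ∣ charDegree φ := hα ▸ dvd_pow_self p (by rintro rfl; exact hφ1 (by simpa using hα))
  obtain ⟨m, n, h7⟩ := hcd.reorder h4 (by rwa [charDegree_comp])
  rw [charDegree_comp] at h7
  obtain ⟨n', h8⟩ := h7.reorder2 h1 h2 fun e => h3 (e ▸ h6)
  have h9 := h8 _ h5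
  rw [charDegree_mul (isCharacter_of_isIrr h4) (isCharacter_of_isIrr h1), charDegree_comp] at h9
  have h10 := charDegree_pos hφ
  have h11 := charDegree_pos h1
  have h12 : (charDegree φ).factorization p = α := by
    rw [hα, hp.factorization_pow, Finsupp.single_eq_same]
  have h13 := Nat.factorization_eq_zero_of_not_dvd h3
  rcases h8 ψ hψ with e | e | e | e
  · simp [e]
  · rw [e, h12]
  · rw [e, h13]; exact Nat.zero_le _
  · rcases h9 with h | h | h | h
    · exact absurd (Nat.eq_one_of_mul_eq_one_left h) h2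
    · exact absurd (Nat.eq_of_mul_eq_mul_left h10 (by rw [h, mul_one])) h2
    · exact absurd (Nat.eq_of_mul_eq_mul_right h11 (by rw [h, one_mul])) hφ1
    · rw [e, ← h, Nat.factorization_mul h10.ne' h11.ne', Finsupp.add_apply, h12, h13, add_zero]

theorem mono_case [Group.IsSolvable G] (hG : ¬ Group.IsNilpotent G)
    (hq : ∀ (Y : Subgroup G) [Y.Normal], Y ≠ ⊥ → Group.IsNilpotent (G ⧸ Y)) (V : Subgroup G)
    [V.Normal] (hV : V ≠ ⊥) (hab : IsMulCommutative V)
    (hmon : ∀ Y : Subgroup G, Y.Normal → Y ≠ ⊥ → V ≤ Y) {p α : ℕ} (hp : p.Prime) {φ : G → ℂ}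
    (hφ : IsIrrCharacter G φ) (hφV : Kr φ V) (hα : charDegree φ = p ^ α) (hφ1 : charDegree φ ≠ 1)
    (h : ∀ ψ : G → ℂ, IsIrrCharacter G ψ → (charDegree ψ).factorization p ≤ α) : False := by
  have := Fact.mk hp
  obtain ⟨H, hH, hVH⟩ : ∃ H : Subgroup G, IsCoatom H ∧ ¬ V ≤ H := by
    by_contra! e
    exact hG (S0011.result (hq _ fun e' => hV (le_bot_iff.1 (e' ▸ fun x hx =>
      H3.mem_frattini_iff.2 fun M hM => e M hM hx))))
  have hT : H ⊔ V = ⊤ := hH.2 _ (lt_of_le_of_ne le_sup_left fun e => hVH (e ▸ le_sup_right))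
  have hC : Subgroup.centralizer (V : Set G) ⊓ H = ⊥ := by_contra fun e =>
    hVH ((hmon _ (Subgroup.normalizer_eq_top_iff.1 (eq_top_iff.2 (hT.ge.trans (sup_le
      (fun x hx => Subgroup.inf_normalizer_le_normalizer_inf
        ⟨(Subgroup.normalizer_eq_top _).ge (Subgroup.mem_top x), Subgroup.le_normalizer hx⟩)
      ((Subgroup.le_centralizer_iff.1 inf_le_left).trans (Subgroup.centralizer_le_normalizer _))))))
      e).trans inf_le_right)
  have hVC : V ≤ Subgroup.centralizer (V : Set G) := fun x hx =>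
    Subgroup.mem_centralizer_iff.2 fun y hy => H2.mul_comm_of_mem hab hy hx
  have hCV : Subgroup.centralizer (V : Set G) ≤ V := fun x hx => by
    have h3 : x ∈ ((H ⊔ V : Subgroup G) : Set G) := hT ▸ Subgroup.mem_top x
    rw [Subgroup.mul_normal] at h3
    obtain ⟨a, ha, b, hb, rfl⟩ := h3
    have : a = 1 := hC.le ⟨(Subgroup.mul_mem_cancel_right _ (hVC hb)).1 hx, ha⟩
    simpa [this] using hb
  have hF : fittingSubgroup G ≤ V := by
    by_cases e : fittingSubgroup G = ⊥
    · exact e.le.trans bot_le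
    refine le_trans (Subgroup.le_centralizer_iff.1 ((hmon _ inferInstance
      (H49.inf_center_ne_bot_of_nilpotent H44.fitting_isNilpotent (hmon _ inferInstance e)
        ((Subgroup.normalizer_eq_top _).ge.trans' le_top) hV)).trans inf_le_right)) hCV
  obtain ⟨S⟩ : Nonempty (Sylow p G) := inferInstance
  have := hq V hV
  have hJ : ((S : Subgroup G) ⊔ V).Normal := sylow_normal_of_quotient S V inferInstance
  set J := (S : Subgroup G) ⊔ V with hJd
  have := Fintype.ofFinite J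
  have hJi : ¬ p ∣ J.index := fun e => S.not_dvd_index (e.trans (Subgroup.index_dvd_of_le le_sup_left))
  have h1 := isIrr_restrict_of_coprime J hφ (by
    rw [hα]; exact ((Nat.Prime.coprime_iff_not_dvd hp).2 hJi).pow_left α)
  have h2 : fittingSubgroup J ≤ charKer (isCharacter_of_isIrr h1) := fun x hx =>
    hφV x (hF (H44.fittingOf_le_of_subnormal hJ.isSubnormal ⟨x, hx, rfl⟩))
  obtain ⟨ψ, h3, h4, -⟩ := garrison h1 (by
    by_cases e : charKer (isCharacter_of_isIrr h1) ≤ fittingSubgroup J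
    · exact Or.inr ⟨le_antisymm e h2, inferInstance, fun e' => hφ1
        ((commutator_le_charKer_iff h1).1 fun g _ => e'.ge (Subgroup.mem_top g))⟩
    · exact Or.inl e)
  obtain ⟨k, hk⟩ := (isPGroup_quot_sup S.isPGroup' V).exists_card_eq
  have h5 := charDegree_dvd_index_of_comm h3 (V.subgroupOf J) fun a ha b hb =>
    Subtype.ext (H2.mul_comm_of_mem hab ha hb)
  rw [Subgroup.index_eq_card, hk] at h5
  obtain ⟨j, -, hj⟩ := (Nat.dvd_prime_pow hp).1 h5
  obtain ⟨χ, h6, h7⟩ := exists_charDegree_dvd_of_normal J h3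
  have h8 := (fact_le_of_dvd h7 (charDegree_ne_zero h6) p).trans (h χ h6)
  rw [hj, hp.factorization_pow, Finsupp.single_eq_same] at h8
  rw [charDegree_restrict, hα, hj, Nat.pow_lt_pow_iff_right hp.one_lt] at h4
  omega

theorem exists_min_nonnil (h : ¬ Group.IsNilpotent G) :
    ∃ (K : Subgroup G) (_ : K.Normal), ¬ Group.IsNilpotent (G ⧸ K) ∧
      ∀ (Y : Subgroup (G ⧸ K)) [Y.Normal], Y ≠ ⊥ → Group.IsNilpotent ((G ⧸ K) ⧸ Y) := by
  obtain ⟨K, ⟨hK, hK'⟩, hmax⟩ := Set.Finite.exists_maximal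
    (s := {K : Subgroup G | ∃ _ : K.Normal, ¬ Group.IsNilpotent (G ⧸ K)}) (Set.toFinite _)
    ⟨⊥, inferInstance, fun e => h (Group.nilpotent_of_mulEquiv QuotientGroup.quotientBot)⟩
  have hs := QuotientGroup.mk'_surjective K
  refine ⟨K, hK, hK', fun Y hY hY1 => ?_⟩
  have : Group.IsNilpotent (G ⧸ Y.comap (QuotientGroup.mk' K)) := by_contra fun hc => hY1 (by
    have h1 := hmax ⟨hY.comap _, hc⟩ (QuotientGroup.le_comap_mk' K Y)
    rw [← Subgroup.map_comap_eq_self_of_surjective hs Y, map_mk_eq_bot]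
    exact h1)
  exact Group.nilpotent_of_surjective _ (QuotientGroup.map_surjective_of_surjective _ Y
    (QuotientGroup.mk' K) (QuotientGroup.mk_surjective.comp hs) le_rfl)

end

theorem dl4_aux (n : ℕ) : ∀ (G : Type u) [Group G] [Finite G] [Group.IsSolvable G] (a b c : ℕ),
    Nat.card G = n → Four G a b c → derivedSeries G 4 = ⊥ := by
  induction n using Nat.strong_induction_on with
  | _ n ih =>
  intro G _ _ _ a b c hn hcd
  have := Fintype.ofFinite G
  by_cases hall : ∃ q : ℕ, q.Prime ∧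
      ∀ χ : G → ℂ, IsIrrCharacter G χ → charDegree χ ≠ 1 → q ∣ charDegree χ
  · obtain ⟨q, hq, h⟩ := hall
    exact case_prime hq hcd h fun A hA a b c h1 =>
      ih _ (hn ▸ card_subgroup_lt A hA) A a b c rfl h1
  push Not at hall
  by_cases hG : Group.IsNilpotent G
  · exact taketa4 (fun χ hχ => isMonomialChar_of_isNilpotent hχ) hcd
  obtain ⟨K, hK, h1, h2⟩ := exists_min_nonnil hG
  have : Nontrivial (G ⧸ K) := by_contra fun e => h1 (by
    have := not_nontrivial_iff_subsingleton.1 e; infer_instance)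
  obtain ⟨V, r, hr, hV, hV1, hab, -, -, hmin⟩ := H2.exists_minimal_normal_of_solvable (G := G ⧸ K)
  have hmon : ∀ Y : Subgroup (G ⧸ K), Y.Normal → Y ≠ ⊥ → V ≤ Y := fun Y hY hY1 => by
    refine (inf_eq_right.1 ((hmin (Y ⊓ V) inferInstance inf_le_right).resolve_left fun e => h1 ?_))
    have := h2 Y hY1
    have := h2 V hV1
    refine Subgroup.isNilpotent_of_ker_le_center
      ((QuotientGroup.mk' Y).prod (QuotientGroup.mk' V)) ?_
    rw [MonoidHom.ker_prod, QuotientGroup.ker_mk', QuotientGroup.ker_mk', e]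
    exact bot_le
  by_cases h3 : commutator ((G ⧸ K) ⧸ V) = ⊥
  · have h4 : MinNA (G ⧸ K) := ⟨fun e => h1 (by
      refine Subgroup.isNilpotent_of_ker_le_center (1 : G ⧸ K →* PUnit.{1}) fun x _ => ?_
      exact Subgroup.mem_center_iff.2 fun y => commutator_eq_bot_iff_comm.1 e y x), fun Y hY hY1 => by
        rw [← map_commutator_of_surjective _ (QuotientGroup.mk'_surjective V), map_mk_eq_bot] at h3
        exact h3.trans (hmon Y hY hY1)⟩
    obtain ⟨p, hp, hpow, hab, ⟨hP, -⟩ | ⟨hC, hd⟩⟩ := h4.structure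
    · have := Fact.mk hp
      exact absurd hP.isNilpotent h1
    · exact case_frob hcd hall K hp h4.1 hpow hab hC hd
  exfalso
  obtain ⟨L, hL, h4⟩ := exists_minNA_quotient h3
  have := h2 V hV1
  obtain ⟨p, hp, -, -, ⟨hP, -⟩ | ⟨hC, -⟩⟩ := h4.structure
  · have := Fact.mk hp
    obtain ⟨φ, hφ, hφ1⟩ := exists_irr_ne_one_of_commutator_ne_bot h4.1
    obtain ⟨α, hα⟩ := exists_charDegree_eq_pow hP hφ
    obtain ⟨χ, h5, h6, h7⟩ := hall p hp
    exact mono_case h1 h2 V hV1 hab hmon hp (isIrrCharacter_inflate V (isIrrCharacter_inflate L hφ))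
      (kr_inflate_self V fun x => φ x) hα hφ1 fun ψ hψ => pquot hcd hp h5 h6 h7
        ((QuotientGroup.mk' L).comp ((QuotientGroup.mk' V).comp (QuotientGroup.mk' K)))
        ((QuotientGroup.mk'_surjective L).comp ((QuotientGroup.mk'_surjective V).comp
          (QuotientGroup.mk'_surjective K))) hP hφ hα hφ1 (isIrrCharacter_inflate K hψ)
  · obtain ⟨g, -, hg⟩ := SetLike.exists_of_lt (commutator_lt (G := ((G ⧸ K) ⧸ V) ⧸ L) (M := ⊤)
      fun e => h4.1 (le_bot_iff.1 (e ▸ le_top)))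
    refine H49.inf_center_ne_bot_of_nilpotent (K := ⊤) inferInstance le_top
      (Subgroup.normalizer_eq_top _).ge h4.1 (eq_bot_iff.2 fun k hk => hC g hg k hk.1 ?_)
    exact Subgroup.mem_centralizer_iff.1 hk.2 g (Subgroup.mem_top g)

end Cfsg.Agent.H20.Cd
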