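import Cfsg.Agent.H28.Dickson

/-!
`p'`-subgroups of `PGL₂(p)` in which several points are fixed by elements of large order.
-/

set_option autoImplicit false
set_option linter.unusedSectionVars false
set_option maxRecDepth 100000

namespace Cfsg.Agent.H20

open MulAction OnePoint Matrix Matrix.ProjGenLinGroup Subgroup Cfsg.Agent.H28
open scoped MatrixGroups

section
variable {p : ℕ} {k : Type*} [Field k] {G X : Type*} [Group G] [MulAction G X] [Finite G]

theorem mob_two (h : Mob p k G X) (hQ : ∀ g : G, g ^ p = 1 → g = 1) {x y y' : X} {c c' : G}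
    (hy : y ≠ x) (hy' : y' ≠ x) (hne : y ≠ y') (h1 : c • x = x) (h2 : c • y = y) (h3 : c' • x = x)
    (h4 : c' • y' = y') : c = 1 ∨ c' = 1 := by
  by_contra hc
  push Not at hc
  have := h.isCyclic_of_tame (x := x) le_rfl fun g _ => hQ g
  have e : c * c' = c' * c := congrArg Subtype.val
    (IsCyclic.commGroup.mul_comm (⟨c, h1⟩ : stabilizer G x) ⟨c', h3⟩)
  rcases h.eq_or_eq_of_fix hc.1 hy.symm h1 h2 (z := c' • y)
    (by rw [smul_smul, e, mul_smul, h2]) with e | e
  · exact hy (MulAction.injective c' (e.trans h3.symm))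
  · exact hc.2 (h.three c' x y y' hy.symm hy'.symm hne h3 e h4)

theorem mob_three (h : Mob p k G X) (hQ : ∀ g : G, g ^ p = 1 → g = 1) {x : X} (y : Fin 3 → X)
    (hy : Function.Injective y) (c : Fin 3 → G) (h1 : ∀ i, c i • x = x) (h2 : ∀ i, c i • y i = y i) :
    ∃ i, c i = 1 := by
  have k : ∀ i j, i ≠ j → y i ≠ x → y j ≠ x → ∃ i, c i = 1 := fun i j hij a b =>
    (mob_two h hQ a b (hy.ne hij) (h1 i) (h2 i) (h1 j) (h2 j)).elim (⟨i, ·⟩) (⟨j, ·⟩)
  by_cases e0 : y 0 = x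
  · exact k 1 2 (by decide) (e0 ▸ hy.ne (by decide)) (e0 ▸ hy.ne (by decide))
  · by_cases e1 : y 1 = x
    · exact k 0 2 (by decide) e0 (e1 ▸ hy.ne (by decide))
    · exact k 0 1 (by decide) e0 e1

theorem mob_cases (h : Mob p k G X) (hQ : ∀ g : G, g ^ p = 1 → g = 1) (y : Fin 3 → X)
    (hy : Function.Injective y) (c : Fin 3 → G) (h2 : ∀ i, c i • y i = y i) :
    (∃ i, c i ^ 2 = 1) ∨ (∀ g : G, g ^ 2 = 1 ∨ g ^ 3 = 1 ∨ g ^ 5 = 1) ∨
      Nonempty (G ≃* Equiv.Perm (Fin 4)) := by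
  have h3 : ∀ i, c i ^ 2 • y i = y i := fun i => by rw [pow_two, mul_smul, h2, h2]
  rcases h.classify_tame (fun x => eq_bot_iff.2 fun g hg => hQ g hg.2) with
    ⟨x, hx⟩ | ⟨x, hx⟩ | ⟨⟨e⟩⟩ | e | ⟨⟨e⟩⟩
  · exact Or.inl (mob_three h hQ y hy _ (fun i => hx _) h3)
  · exact Or.inl (mob_three h hQ y hy _ (fun i => sq_mem_of_index_two hx (c i)) h3)
  · refine Or.inr (Or.inl fun g => ?_)
    simp only [← e.map_eq_one_iff, map_pow, Subtype.ext_iff]
    exact (by decide : ∀ s : Equiv.Perm (Fin 4), Equiv.Perm.sign s = 1 →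
      s ^ 2 = 1 ∨ s ^ 3 = 1 ∨ s ^ 5 = 1) _ (e g).2
  · exact Or.inr (Or.inr e)
  · refine Or.inr (Or.inl fun g => ?_)
    simp only [← e.map_eq_one_iff, map_pow, Subtype.ext_iff]
    exact (by decide +kernel : ∀ s : Equiv.Perm (Fin 5), Equiv.Perm.sign s = 1 →
      s ^ 2 = 1 ∨ s ^ 3 = 1 ∨ s ^ 5 = 1) _ (e g).2

theorem mob_s4 (h : Mob p k G X) (e : G ≃* Equiv.Perm (Fin 4)) {ι : Type*} [Fintype ι]
    (y : ι → X) (hy : Function.Injective y) (c : ι → G) (h2 : ∀ i, c i • y i = y i)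
    (h3 : ∀ i, c i ^ 6 ≠ 1) : Fintype.card ι ≤ 12 := by
  classical
  have := Finset.card_le_mul_card_image_of_maps_to (f := fun i => e (c i)) (s := Finset.univ)
    (t := Finset.univ.filter fun s : Equiv.Perm (Fin 4) => s ^ 6 ≠ 1)
    (fun i _ => by simpa [← map_pow] using h3 i) 2 fun s hs => by
      by_contra hlt
      obtain ⟨a, b, d, ha, hb, hd, hab, had, hbd⟩ := Finset.two_lt_card_iff.1 (not_le.1 hlt)
      simp only [Finset.mem_filter, Finset.mem_univ, true_and] at ha hb hd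
      have e1 : c b = c a := e.injective (hb.trans ha.symm)
      have e2 : c d = c a := e.injective (hd.trans ha.symm)
      exact h3 a (by rw [h.three (c a) _ _ _ (hy.ne hab) (hy.ne had) (hy.ne hbd) (h2 a)
        (e1 ▸ h2 b) (e2 ▸ h2 d), one_pow])
  rwa [show (Finset.univ.filter fun s : Equiv.Perm (Fin 4) => s ^ 6 ≠ 1).card = 6 by decide] at this

end

theorem prime_of_dvd {q j : ℕ} (hq : q.Prime) (h0 : 0 < j) (hj : j ≤ 6) (h : q - 1 ∣ 3 * j) :
    q ≤ 7 ∨ (j = 4 ∧ q = 13) ∨ (j = 6 ∧ q ≠ 13) := by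
  have := Nat.le_of_dvd (by omega) h
  have : q ≤ 19 := by omega
  interval_cases q <;> first | omega | norm_num at hq

variable {p : ℕ} [hp : Fact p.Prime]

theorem pgl_cases (W : Subgroup PGL(2, ZMod p)) (hW : ¬ p ∣ Nat.card W) {ι : Type*} [Fintype ι]
    (y : ι → OnePoint (ZMod p)) (hy : Function.Injective y) (h3 : 3 ≤ Fintype.card ι)
    (h : ∀ i, ∃ c ∈ W, c • y i = y i ∧ ∀ j, c ^ j = 1 → p - 1 ∣ 3 * j) :
    p ≤ 7 ∨ (p = 13 ∧ Fintype.card ι ≤ 12) := by
  classical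
  let k := AlgebraicClosure (ZMod p)
  let f := algebraMap (ZMod p) k
  let _ := MulAction.compHom (OnePoint k) ((ProjGenLinGroup.map f).comp W.subtype)
  have m : Mob p k W (OnePoint k) := mob_of_hom f p W.subtype W.subtype_injective
  have hQ : ∀ g : W, g ^ p = 1 → g = 1 := fun g hg => by
    rcases (Nat.dvd_prime hp.out).1 (orderOf_dvd_of_pow_eq_one hg) with e | e
    · exact orderOf_eq_one_iff.1 e
    · exact absurd (e.symm.dvd.trans (_root_.orderOf_dvd_natCard g)) hW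
  choose c hc h1 h2 using h
  let c' : ι → W := fun i => ⟨c i, hc i⟩
  let y' : ι → OnePoint k := fun i => (y i).map f
  have hy' : Function.Injective y' := fun a b e => hy (Option.map_injective f.injective e)
  have h1' : ∀ i, c' i • y' i = y' i := fun i => (map_smul_eq_iff f _ _ _).2 (h1 i)
  have h2' : ∀ i j, 0 < j → j ≤ 6 → c' i ^ j = 1 → p ≤ 7 ∨ (j = 4 ∧ p = 13) ∨ (j = 6 ∧ p ≠ 13) :=
    fun i j hj hj' e => prime_of_dvd hp.out hj hj' (h2 i j (congrArg Subtype.val e))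
  obtain ⟨t⟩ : Nonempty (Fin 3 ↪ ι) := Function.Embedding.nonempty_of_card_le (by simpa using h3)
  rcases mob_cases m hQ (y' ∘ t) (hy'.comp t.injective) (c' ∘ t) fun i => h1' _ with
    ⟨i, e⟩ | e | ⟨⟨e⟩⟩
  · have := h2' _ 2 (by norm_num) (by norm_num) e
    omega
  · rcases e (c' (t 0)) with e | e | e <;> have := h2' _ _ (by norm_num) (by norm_num) e <;> omega
  · by_cases h7 : p ≤ 7
    · exact Or.inl h7
    have e1 : c' (t 0) ^ 3 = 1 ∨ c' (t 0) ^ 4 = 1 := by
      simp only [← e.map_eq_one_iff, map_pow]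
      exact (by decide : ∀ s : Equiv.Perm (Fin 4), s ^ 3 = 1 ∨ s ^ 4 = 1) _
    have e2 : p = 13 := by
      rcases e1 with e | e <;> have := h2' _ _ (by norm_num) (by norm_num) e <;> omega
    refine Or.inr ⟨e2, mob_s4 m e y' hy' c' h1' fun i e => ?_⟩
    have := h2' _ 6 (by norm_num) (by norm_num) e
    omega

/-- A vector on the line. -/
def vec {F : Type*} [Field F] : OnePoint F → Fin 2 → F
  | ∞ => ![1, 0]
  | (x : F) => ![x, 1]

theorem exists_vec {F : Type*} [Field F] {v : Fin 2 → F} (h : v ≠ 0) :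
    ∃ (x : OnePoint F) (c : F), c ≠ 0 ∧ v = c • vec x := by
  by_cases e : v 1 = 0
  · refine ⟨∞, v 0, fun e' => h (funext fun i => ?_), funext fun i => ?_⟩ <;> fin_cases i <;>
      simp [vec, *]
  · refine ⟨(v 0 / v 1 : F), v 1, e, funext fun i => ?_⟩
    fin_cases i
    · simp [vec, mul_div_cancel₀ _ e]
    · simp [vec]

theorem vec_ne {F : Type*} [Field F] (x : OnePoint F) : vec x ≠ 0 := fun e => by
  cases x with
  | infty => simpa [vec] using congrFun e 0
  | coe x => simpa [vec] using congrFun e 1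

theorem smul_eq_of_vec {F : Type*} [Field F] [DecidableEq F] {g : GL (Fin 2) F} {x : OnePoint F}
    {c : F} (h : (g : Matrix (Fin 2) (Fin 2) F) *ᵥ vec x = c • vec x) : mk g • x = x := by
  have h0 := congrFun h 0
  have h1 := congrFun h 1
  rw [mk_smul_pt]
  cases x with
  | infty => exact smul_infty_eq_self_iff.2 (by simpa [vec, mulVec, dotProduct] using h1)
  | coe x =>
    simp [vec, mulVec, dotProduct] at h0 h1
    have hc : c ≠ 0 := by
      rintro rfl
      refine gl_det_ne g ?_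
      linear_combination (g 0 0) * h1 - (g 1 0) * h0
    rw [smul_some_eq_ite, h1, if_neg hc, h0, mul_div_cancel_left₀ _ hc]

end Cfsg.Agent.H20
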