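import Cfsg.Agent.H20.Exs1
import Cfsg.Agent.H49.SylowOf
import Cfsg.Prelude.Def_Transfer

/-!
Extraspecial Sylow subgroups of order `p³` and exponent `p`: the action of the normalizer.
-/

set_option autoImplicit false
set_option linter.unusedSectionVars false
set_option linter.style.haveILetI false

namespace Cfsg.Agent.H20

open Subgroup Cfsg.Agent.H49 Matrix Multiplicative

variable {G : Type*} [Group G] [Finite G] {p : ℕ} [hp : Fact p.Prime]

/-- Coordinates on an extraspecial group of order `p³` and exponent `p`. -/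
structure Exs (P : Subgroup G) (z : G) (κ : P →* Multiplicative (Fin 2 → ZMod p)) : Prop where
  pw : ∀ x ∈ P, x ^ p = 1
  mem : z ∈ P
  ne : z ≠ 1
  cen : ∀ x ∈ P, (∀ y ∈ P, y * x = x * y) ↔ x ∈ zpowers z
  comm : ∀ x ∈ P, ∀ y ∈ P, x * y * x⁻¹ * y⁻¹ ∈ zpowers z
  surj : Function.Surjective κ
  ker : ∀ x, κ x = 1 ↔ x.1 ∈ zpowers z

theorem exists_addEquiv_pi {V : Type*} [AddCommGroup V] [Module (ZMod p) V] [Finite V] {n : ℕ}
    (hn : Nat.card V = p ^ n) : Nonempty (V ≃+ (Fin n → ZMod p)) := by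
  have : Module.Finite (ZMod p) V := Module.Finite.of_finite
  rw [Module.natCard_eq_pow_finrank (K := ZMod p), Nat.card_zmod] at hn
  exact ⟨(Module.finBasisOfFinrankEq (ZMod p) V
    (Nat.pow_right_injective hp.out.two_le hn)).equivFun.toAddEquiv⟩

theorem exists_equiv_pi {Q : Type*} [Group Q] [Finite Q] (hc : ∀ a b : Q, a * b = b * a)
    (h : ∀ a : Q, a ^ p = 1) {n : ℕ} (hn : Nat.card Q = p ^ n) :
    Nonempty (Q ≃* Multiplicative (Fin n → ZMod p)) := by
  letI : CommGroup Q := { (inferInstance : Group Q) with mul_comm := hc }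
  letI : Module (ZMod p) (Additive Q) := AddCommGroup.zmodModule (fun x => by
    apply Additive.toMul.injective
    simpa using h _)
  obtain ⟨e⟩ := exists_addEquiv_pi (p := p) (V := Additive Q) hn
  exact ⟨AddEquiv.toMultiplicativeRight e⟩

theorem exists_exs (P : Subgroup G) (hE : IsExtraspecial p P) (hcard : Nat.card P = p ^ 3)
    (hexp : Monoid.exponent P = p) : ∃ z κ, Exs (p := p) P z κ := by
  have pw : ∀ x : P, x ^ p = 1 := fun x => hexp ▸ Monoid.pow_exponent_eq_one x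
  have cyc : IsCyclic (center P) := isCyclic_of_prime_card hE.2
  obtain ⟨z, hz⟩ := cyc.exists_generator
  have cen : ∀ x : P, x ∈ center P ↔ x.1 ∈ zpowers z.1.1 := fun x =>
    ⟨fun h => by
      obtain ⟨k, hk⟩ := hz ⟨x, h⟩
      exact ⟨k, congrArg (·.1.1) hk⟩, fun ⟨k, hk⟩ => by
      rw [show x = (z ^ k).1 from Subtype.ext hk.symm]; exact (z ^ k).2⟩
  have comm : ∀ x y : P, x * y * x⁻¹ * y⁻¹ ∈ center P := fun x y =>
    hE.1.2.2 ▸ commutator_mem_commutator (mem_top x) (mem_top y)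
  obtain ⟨e⟩ := exists_equiv_pi (p := p) (Q := P ⧸ center P) (n := 2)
    (fun a b => by
      obtain ⟨a, rfl⟩ := QuotientGroup.mk_surjective a
      obtain ⟨b, rfl⟩ := QuotientGroup.mk_surjective b
      exact QuotientGroup.eq.2 (by simpa [mul_assoc] using comm b⁻¹ a⁻¹))
    (fun a => by
      obtain ⟨a, rfl⟩ := QuotientGroup.mk_surjective a
      rw [← QuotientGroup.mk_pow, pw, QuotientGroup.mk_one])
    (by
      have := (center P).card_eq_card_quotient_mul_card_subgroup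
      rw [hcard, hE.2, pow_succ] at this
      exact (Nat.eq_of_mul_eq_mul_right hp.out.pos this).symm)
  refine ⟨z.1.1, e.toMonoidHom.comp (QuotientGroup.mk' _),
    fun x hx => congrArg Subtype.val (pw ⟨x, hx⟩), z.1.2, fun e1 => ?_, fun x hx => ?_,
    fun x hx y hy => (cen _).1 (comm ⟨x, hx⟩ ⟨y, hy⟩),
    e.surjective.comp (QuotientGroup.mk'_surjective _), fun x => by simp [← cen]⟩
  · have : z = 1 := Subtype.ext (Subtype.ext e1)
    have h1 := orderOf_eq_card_of_forall_mem_zpowers hz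
    rw [this, orderOf_one, hE.2] at h1
    exact hp.out.ne_one h1.symm
  · rw [← cen ⟨x, hx⟩, mem_center_iff]
    exact ⟨fun h y => Subtype.ext (h y y.2), fun h y hy => congrArg Subtype.val (h ⟨y, hy⟩)⟩

theorem zpowers_eq_of_prime {a c : G} (ha : a ^ p = 1) (hc : c ∈ zpowers a) (h1 : c ≠ 1) :
    zpowers c = zpowers a := by
  have a1 : a ≠ 1 := by
    rintro rfl
    exact h1 (by simpa using hc)
  have := (eq_bot_or_eq_of_prime_card (H := zpowers c) (K := zpowers a)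
    (by rw [Nat.card_zpowers, orderOf_eq_prime ha a1]; exact hp.out) (zpowers_le.2 hc))
  exact this.resolve_left (by simpa using h1)

theorem exists_trans {a c g w : G} (ha : a ^ p = 1) (hc : c ∈ zpowers a) (h1 : c ≠ 1)
    (e1 : g * c * g⁻¹ = c) (e2 : g * w * g⁻¹ = w * c) (t : ℤ) :
    ∃ j : ℕ, g ^ j * w * (g ^ j)⁻¹ = w * a ^ t := by
  obtain ⟨j, hj⟩ := (mem_powers_iff_mem_zpowers (x := c) (y := a ^ t)).2
    (zpowers_eq_of_prime ha hc h1 ▸ zpow_mem_zpowers a t)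
  refine ⟨j, ?_⟩
  rw [← hj]
  clear hj
  induction j with
  | zero => simp
  | succ j ih =>
    calc g ^ (j + 1) * w * (g ^ (j + 1))⁻¹ = g * (g ^ j * w * (g ^ j)⁻¹) * g⁻¹ := by group
      _ = (g * w * g⁻¹) * (g * c * g⁻¹) ^ j := by rw [ih, conj_pow]; group
      _ = _ := by rw [e1, e2]; group

variable {P : Subgroup G} {z : G} {κ : P →* Multiplicative (Fin 2 → ZMod p)}

namespace Exs

theorem zp_le (h : Exs P z κ) : zpowers z ≤ P := zpowers_le.2 h.mem

theorem cen' (h : Exs P z κ) {w y : G} (hw : w ∈ zpowers z) (hy : y ∈ P) : y * w = w * y :=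
  (h.cen w (h.zp_le hw)).2 hw y hy

theorem conj_mem (h : Exs P z κ) {n w : G} (hn : n ∈ 𝒩(P)) (hw : w ∈ zpowers z) :
    n * w * n⁻¹ ∈ zpowers z :=
  (h.cen _ (conj_mem_of_norm le_rfl hn (h.zp_le hw))).1 fun y hy => by
    have := h.cen' hw (conj_mem_of_norm' le_rfl hn hy)
    calc y * (n * w * n⁻¹) = n * (n⁻¹ * y * n * w) * n⁻¹ := by group
      _ = _ := by rw [this]; group

theorem exists_u (h : Exs P z κ) {w : G} (hw : w ∈ P) (hz : w ∉ zpowers z) (t : ℤ) :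
    ∃ y ∈ P, y * w * y⁻¹ = w * z ^ t := by
  obtain ⟨y, hy, e⟩ : ∃ y ∈ P, y * w ≠ w * y := by
    by_contra hc
    push Not at hc
    exact hz ((h.cen w hw).1 hc)
  have m := h.comm y hy w hw
  obtain ⟨j, hj⟩ := exists_trans (g := y) (w := w) (h.pw z h.mem) m
    (fun e' => e (by rwa [mul_inv_eq_one, mul_inv_eq_iff_eq_mul] at e'))
    (by rw [h.cen' m hy, mul_inv_cancel_right]) (by rw [h.cen' m hw]; group) t
  exact ⟨_, pow_mem hy j, hj⟩

theorem exists_rep (h : Exs P z κ) : ∃ σ : 𝒩(P) →* GL (Fin 2) (ZMod p), ∀ (n : 𝒩(P)) (x : P),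
    (σ n : Matrix _ _ _) *ᵥ toAdd (κ x) =
      toAdd (κ ⟨n * x * (n : G)⁻¹, conj_mem_of_norm le_rfl n.2 x.2⟩) := by
  let c : 𝒩(P) → P →* P := fun n =>
    { toFun := fun x => ⟨n * x * (n : G)⁻¹, conj_mem_of_norm le_rfl n.2 x.2⟩
      map_one' := Subtype.ext (by simp)
      map_mul' := fun x y => Subtype.ext (by simp [mul_assoc]) }
  have k : ∀ n, ∃ M : Matrix (Fin 2) (Fin 2) (ZMod p), ∀ x, M *ᵥ toAdd (κ x) = toAdd (κ (c n x)) := by
    intro n
    let f := κ.liftOfSurjective h.surj ⟨κ.comp (c n), fun x hx =>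
      (h.ker _).2 (h.conj_mem n.2 ((h.ker x).1 hx))⟩
    refine ⟨LinearMap.toMatrix' ((AddMonoidHom.toMultiplicative.symm f).toZModLinearMap p), fun x => ?_⟩
    rw [LinearMap.toMatrix'_mulVec]
    exact congrArg toAdd (κ.liftOfRightInverse_comp_apply _ _ _ x)
  choose M hM using k
  have ext : ∀ A B : Matrix (Fin 2) (Fin 2) (ZMod p),
      (∀ x, A *ᵥ toAdd (κ x) = B *ᵥ toAdd (κ x)) → A = B := fun A B e =>
    Matrix.mulVec_injective (funext fun v => by
      obtain ⟨x, hx⟩ := h.surj (ofAdd v)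
      simpa [hx] using e x)
  let σ : 𝒩(P) →* Matrix (Fin 2) (Fin 2) (ZMod p) :=
    { toFun := M
      map_one' := ext _ _ fun x => by
        rw [hM, one_mulVec]
        exact congrArg (fun y => toAdd (κ y)) (Subtype.ext (by simp [c]))
      map_mul' := fun a b => ext _ _ fun x => by
        rw [← mulVec_mulVec, hM, hM, hM]
        exact congrArg (fun y => toAdd (κ y)) (Subtype.ext (by simp [c, mul_assoc])) }
  exact ⟨σ.toHomUnits, hM⟩

theorem comm_pow (h : Exs P z κ) {x y w : G} (hx : x ∈ P) (hy : y ∈ P) (hw : w ∈ zpowers z)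
    (i : ℕ) : (x ^ i * w) * y * (x ^ i * w)⁻¹ * y⁻¹ = (x * y * x⁻¹ * y⁻¹) ^ i := by
  have e : (x ^ i * w) * y * (x ^ i * w)⁻¹ * y⁻¹ = x ^ i * y * (x ^ i)⁻¹ * y⁻¹ := by
    rw [mul_assoc _ w, ← h.cen' hw hy]; group
  rw [e]
  clear e
  induction i with
  | zero => simp
  | succ i ih =>
    calc x ^ (i + 1) * y * (x ^ (i + 1))⁻¹ * y⁻¹
        = x * (x ^ i * y * (x ^ i)⁻¹ * y⁻¹) * (y * x⁻¹ * y⁻¹) := by group
      _ = _ := by
        rw [ih, h.cen' (pow_mem (h.comm x hx y hy) i) hx, pow_succ]; group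

theorem scalar (h : Exs P z κ) {m : G} (i : ℕ)
    (hm : ∀ x ∈ P, ∃ w ∈ zpowers z, m * x * m⁻¹ = x ^ i * w) : m * z * m⁻¹ = z ^ (i * i) := by
  obtain ⟨a, ha⟩ := h.surj (ofAdd 1)
  have haz : a.1 ∉ zpowers z := fun e => by
    rw [(h.ker a).2 e] at ha
    simpa using congrFun (congrArg toAdd ha) 0
  obtain ⟨y, hy, e⟩ := h.exists_u a.2 haz 1
  have e1 : y * a * y⁻¹ * (a : G)⁻¹ = z := by
    rw [e, zpow_one, h.cen' (mem_zpowers z) a.2, mul_inv_cancel_right]
  obtain ⟨w, hw, e2⟩ := hm y hy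
  obtain ⟨w', hw', e3⟩ := hm a a.2
  have m3 : a.1 ^ i * w' ∈ P := mul_mem (pow_mem a.2 i) (h.zp_le hw')
  calc m * z * m⁻¹
      = (m * y * m⁻¹) * (m * a * m⁻¹) * (m * y * m⁻¹)⁻¹ * (m * a * m⁻¹)⁻¹ := by rw [← e1]; group
    _ = (((a.1 ^ i * w') * y * (a.1 ^ i * w')⁻¹ * y⁻¹)⁻¹) ^ i := by
      rw [e2, e3, h.comm_pow hy m3 hw]; group
    _ = _ := by
      rw [h.comm_pow a.2 hy hw', ← inv_pow, show (a * y * (a : G)⁻¹ * y⁻¹)⁻¹ = z by
        rw [← e1]; group, pow_mul]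

end Exs

end Cfsg.Agent.H20
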