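import Cfsg.Agent.H65.FsMain
import Cfsg.Agent.H65.FsTop
import Cfsg.Agent.H65.FsReal
import Cfsg.Agent.H29.OInv2
import Cfsg.Agent.H28.StdForms

/-! Frobenius-Schur indicators of orthogonal and symplectic groups in characteristic two. -/

set_option autoImplicit false

namespace Cfsg.Agent.H20.Fs

open Module QuadraticMap Matrix Cfsg.Agent.H28 Cfsg.Agent.H65

universe u

variable {F : Type u} [Field F] [Fintype F] [CharP F 2]

section Orth

variable {κ : Type} [Fintype κ] [DecidableEq κ] {Q : QuadraticForm F (κ → F)}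

/-- An isometry as a linear equivalence. -/
noncomputable def toE (g : O Q) : (κ → F) ≃ₗ[F] (κ → F) :=
  LinearEquiv.ofLinearMap (rho Q g) (rho Q g⁻¹)
    (by rw [← Module.End.mul_eq_comp, ← map_mul, mul_inv_cancel, map_one]; rfl)
    (by rw [← Module.End.mul_eq_comp, ← map_mul, inv_mul_cancel, map_one]; rfl)

theorem exists_inv (hQ : (polarBilin Q).Nondegenerate) (g : O Q) :
    ∃ y : O Q, y * g * y⁻¹ = g⁻¹ ∧ 2 * (mat y - 1).rank = Fintype.card κ := by
  obtain ⟨y, h1, h2, h3⟩ := exists_inverter Q hQ.1 (toE g) (Q_rho g)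
  refine ⟨ofEquiv y h1, ?_, ?_⟩
  · rw [mul_inv_eq_iff_eq_mul]
    refine O_ext fun v => ?_
    rw [rho_mul, rho_mul, rho_ofEquiv, rho_ofEquiv]
    exact congrArg (fun e : (κ → F) ≃ₗ[F] (κ → F) => e v) (mul_inv_eq_iff_eq_mul.1 h2)
  · have : (mat (ofEquiv y h1) - 1).mulVecLin = (y : (κ → F) →ₗ[F] (κ → F)) - 1 :=
      LinearMap.ext fun v => by
        rw [mulVecLin_apply, sub_mulVec, one_mulVec, ← rho_apply, rho_ofEquiv]; rfl
    rw [Matrix.rank, this, h3, finrank_fintype_fun_eq_card]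

theorem fs_O (hQ : (polarBilin Q).Nondegenerate) (χ : Cfsg.IrrCharacter (O Q)) :
    (Nat.card (O Q) : ℂ)⁻¹ * ∑ᶠ s : O Q, (χ : O Q → ℂ) (s * s) = 1 := by
  classical
  refine fs_of_pp (pp_orth Q hQ.1 (w := 0) (Or.inl rfl))
    (fun γ => if h : ∀ x, Q (γ.1 x) = Q x then ofEquiv γ.1 h else 1) (fun x hx y hy => ?_)
    (fun g => ⟨(toE g, -1), ⟨⟨Q_rho g, map_zero _⟩, rfl⟩, ?_⟩) (fun g => ?_) χ
  · rw [dif_pos hx.1, dif_pos hy.1, dif_pos (mul_mem hx hy).1]
    exact O_ext fun v => by rw [rho_mul, rho_ofEquiv, rho_ofEquiv, rho_ofEquiv]; rfl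
  · rw [dif_pos (show ∀ x, Q ((toE g, (-1 : ℤˣ)).1 x) = Q x from Q_rho g)]
    exact O_ext fun v => rho_ofEquiv _ _ v
  · obtain ⟨y, hy, -⟩ := exists_inv hQ g
    exact isConj_iff.2 ⟨y, hy⟩

theorem fs_Omega (hQ : (polarBilin Q).Nondegenerate) {m : ℕ} (hm : 2 ≤ m)
    (hc : Fintype.card κ = 4 * m) (χ : Cfsg.IrrCharacter (Omega F ⇑Q)) :
    (Nat.card (Omega F ⇑Q) : ℂ)⁻¹ * ∑ᶠ s : Omega F ⇑Q, (χ : Omega F ⇑Q → ℂ) (s * s) = 1 := by
  have hok : EichOK Q := Or.inr (Or.inl (by omega))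
  refine fs_index_two _ (omega_index_even hQ hok (ringChar.eq F 2) (by omega)) (fs_O hQ)
    (fun k => ?_) χ
  obtain ⟨y, hy, hr⟩ := exists_inv hQ (k : O Q)
  exact isConj_iff.2 ⟨⟨y, (H29.mem_omega_iff_rank hQ (CharTwo.two_eq_zero) hok y).2
    ⟨m, by omega⟩⟩, Subtype.ext hy⟩

end Orth

section Sp

variable {n : ℕ}

omit [Fintype F] in
theorem polar_eq (x y : Fin n ⊕ Fin n → F) :
    polar (qPlus n F) x y = x ⬝ᵥ (J (Fin n) F *ᵥ y) := by
  rw [coe_qPlus, polar_quadFormPlus]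
  simp [J, dotProduct, Fintype.sum_sum_type, fromBlocks_mulVec, Finset.sum_add_distrib,
    neg_mulVec, CharTwo.neg_eq]

omit [Fintype F] in
theorem mem_sp_iff (A : Matrix (Fin n ⊕ Fin n) (Fin n ⊕ Fin n) F) :
    A ∈ symplecticGroup (Fin n) F ↔
      ∀ x y, polar (qPlus n F) (A *ᵥ x) (A *ᵥ y) = polar (qPlus n F) x y := by
  rw [SymplecticGroup.mem_iff', ← Matrix.toBilin'.injective.eq_iff, LinearMap.ext_iff₂]
  refine forall_congr' fun x => forall_congr' fun y => ?_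
  rw [toBilin'_apply', toBilin'_apply', polar_eq, polar_eq, ← mulVec_mulVec, ← mulVec_mulVec,
    dotProduct_mulVec x Aᵀ, vecMul_transpose]

theorem exists_sqrt (s : symplecticGroup (Fin n) F) : ∃ c : (Fin n ⊕ Fin n → F) →ₗ[F] F,
    ∀ x, qPlus n F (s.1 *ᵥ x) = qPlus n F x + c x * c x := by
  have hs := (mem_sp_iff s.1).1 s.2
  let φ := frobeniusEquiv F 2
  have hφ : ∀ a, φ a = a * a := fun a => by rw [frobeniusEquiv_apply, frobenius_def, pow_two]
  refine ⟨⟨⟨fun x => φ.symm (qPlus n F (s.1 *ᵥ x) + qPlus n F x), fun x y => ?_⟩, fun a x => ?_⟩,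
    fun x => ?_⟩
  · rw [← map_add φ.symm]
    congr 1
    have h1 := hs x y
    rw [mulVec_add]
    simp only [polar] at h1
    linear_combination h1 + (qPlus n F (x + y) - qPlus n F x - qPlus n F y) * CharTwo.two_eq_zero (R := F)
  · apply φ.injective
    rw [RingHom.id_apply, smul_eq_mul, map_mul, φ.apply_symm_apply, φ.apply_symm_apply, hφ,
      mulVec_smul, QuadraticMap.map_smul, QuadraticMap.map_smul, smul_eq_mul, smul_eq_mul]
    ring
  · change _ = _ + φ.symm _ * φ.symm _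
    rw [← hφ, φ.apply_symm_apply]
    linear_combination (- qPlus n F x) * CharTwo.two_eq_zero (R := F)

/-- A symplectic matrix as a linear equivalence. -/
noncomputable def spE (s : symplecticGroup (Fin n) F) :
    (Fin n ⊕ Fin n → F) ≃ₗ[F] (Fin n ⊕ Fin n → F) :=
  LinearEquiv.ofLinearMap s.1.mulVecLin (s⁻¹).1.mulVecLin
    (by rw [← mulVecLin_mul, ← Submonoid.coe_mul, mul_inv_cancel]; exact mulVecLin_one)
    (by rw [← mulVecLin_mul, ← Submonoid.coe_mul, inv_mul_cancel]; exact mulVecLin_one)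

theorem sp_real (s : symplecticGroup (Fin n) F) : IsConj s s⁻¹ := by
  have h2 := CharTwo.two_eq_zero (R := F)
  have hQ := (qPlus_nondeg (F := F) n).1
  obtain ⟨c, hc⟩ := exists_sqrt s
  obtain ⟨u, hu⟩ := exists_rep hQ (s.1.mulVecLin - 1) c (fun m hm => by
    have h1 : s.1 *ᵥ m = m := sub_eq_zero.1 hm
    have h3 := hc m
    rw [h1, left_eq_add, mul_self_eq_zero] at h3
    exact h3)
  let l := (qPlus n F).polarBilin.flip u
  let Q₁ : QuadraticForm F (Fin n ⊕ Fin n → F) := qPlus n F + linMulLin l l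
  have hQ₁ : ∀ x, Q₁ x = qPlus n F x + l x * l x := fun x => rfl
  have hp : ∀ x y, polar Q₁ x y = polar (qPlus n F) x y := fun x y => by
    simp only [polar, hQ₁, map_add]
    linear_combination (l x * l y) * h2
  obtain ⟨y, h1, h3, -⟩ := exists_inverter Q₁ (fun a ha => hQ a fun b => (hp a b).symm.trans (ha b))
    (spE s) (fun v => by
      have h4 : l (s.1 *ᵥ v) - l v = c v := by rw [← map_sub]; exact hu v
      change Q₁ (s.1 *ᵥ v) = _
      rw [hQ₁, hQ₁, hc, ← h4]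
      linear_combination (l (s.1 *ᵥ v) * l (s.1 *ᵥ v) - l (s.1 *ᵥ v) * l v) * h2)
  have hy : LinearMap.toMatrix' (y : _ →ₗ[F] _) ∈ symplecticGroup (Fin n) F :=
    (mem_sp_iff _).2 fun a b => by
      rw [LinearMap.toMatrix'_mulVec, LinearMap.toMatrix'_mulVec, ← hp, ← hp]
      simp only [polar, LinearEquiv.coe_coe, ← map_add, h1]
  refine isConj_iff.2 ⟨⟨_, hy⟩, mul_inv_eq_iff_eq_mul.2 (Subtype.ext (Matrix.ext_iff_mulVec.2
    fun v => ?_))⟩
  rw [Submonoid.coe_mul, Submonoid.coe_mul, ← mulVec_mulVec, ← mulVec_mulVec,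
    LinearMap.toMatrix'_mulVec, LinearMap.toMatrix'_mulVec]
  exact congrArg (fun e : _ ≃ₗ[F] _ => e v) (mul_inv_eq_iff_eq_mul.1 h3)

variable (n F) in
/-- The form `Q₀ + a b`. -/
def qE : QuadraticForm F ((Fin n ⊕ Fin n → F) × (F × F)) :=
  (qPlus n F).prod (linMulLin (LinearMap.fst F F F) (LinearMap.snd F F F))

omit [Fintype F] [CharP F 2] in
theorem qE_apply (v : (Fin n ⊕ Fin n → F) × (F × F)) :
    qE F n v = qPlus n F v.1 + v.2.1 * v.2.2 := rfl

omit [Fintype F] [CharP F 2] in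
theorem polar_qE (v w : (Fin n ⊕ Fin n → F) × (F × F)) :
    polar (qE F n) v w = polar (qPlus n F) v.1 w.1 + (v.2.1 * w.2.2 + v.2.2 * w.2.1) := by
  simp only [polar, qE_apply, Prod.fst_add, Prod.snd_add]
  ring

omit [Fintype F] [CharP F 2] in
theorem qE_nondeg (a : (Fin n ⊕ Fin n → F) × (F × F)) (h : ∀ b, polar (qE F n) a b = 0) :
    a = 0 := by
  have h1 := h (0, (1, 0))
  have h2 := h (0, (0, 1))
  have h3 := (qPlus_nondeg (F := F) n).1 a.1 fun b => by simpa [polar_qE] using h (b, 0)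
  simp only [polar_qE, polar_zero_right, mul_zero, mul_one, zero_add, add_zero] at h1 h2
  exact Prod.ext h3 (Prod.ext h2 h1)

theorem fs_Sp (χ : Cfsg.IrrCharacter (symplecticGroup (Fin n) F)) :
    (Nat.card (symplecticGroup (Fin n) F) : ℂ)⁻¹ *
      ∑ᶠ s : symplecticGroup (Fin n) F, (χ : symplecticGroup (Fin n) F → ℂ) (s * s) = 1 := by
  classical
  have h2 := CharTwo.two_eq_zero (R := F)
  let w : (Fin n ⊕ Fin n → F) × (F × F) := (0, (1, 1))
  let p : (((Fin n ⊕ Fin n → F) × (F × F)) ≃ₗ[F] ((Fin n ⊕ Fin n → F) × (F × F))) × ℤˣ →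
      Matrix (Fin n ⊕ Fin n) (Fin n ⊕ Fin n) F := fun γ =>
    LinearMap.toMatrix' (LinearMap.fst F _ _ ∘ₗ γ.1.toLinearMap ∘ₗ LinearMap.inl F _ _)
  have hp : ∀ γ x, p γ *ᵥ x = (γ.1 (x, 0)).1 := fun γ x => LinearMap.toMatrix'_mulVec _ x
  have hpol : ∀ γ ∈ OY (qE F n) w, ∀ a b, polar (qE F n) (γ.1 a) (γ.1 b) = polar (qE F n) a b :=
    fun γ hγ a b => by simp only [polar, ← map_add, hγ.1]
  have hd : ∀ γ ∈ OY (qE F n) w, ∀ x, (γ.1 (x, 0)).2.2 = (γ.1 (x, 0)).2.1 := by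
    intro γ hγ x
    have := hpol γ hγ (x, 0) w
    rw [hγ.2, polar_qE, polar_qE] at this
    simp only [w, polar_zero_right, mul_one, zero_add, Prod.fst_zero, Prod.snd_zero,
      add_zero] at this
    linear_combination this - (γ.1 (x, 0)).2.1 * h2
  have hmem : ∀ γ ∈ OY (qE F n) w, p γ ∈ symplecticGroup (Fin n) F := by
    intro γ hγ
    refine (mem_sp_iff _).2 fun x y => ?_
    have := hpol γ hγ (x, 0) (y, 0)
    rw [polar_qE, polar_qE, hd γ hγ, hd γ hγ] at this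
    rw [hp, hp]
    simp only [Prod.fst_zero, Prod.snd_zero, mul_zero, add_zero] at this
    linear_combination this - (γ.1 (x, 0)).2.1 * (γ.1 (y, 0)).2.1 * h2
  refine fs_of_pp (pp_orth (qE F n) qE_nondeg (w := w) (Or.inr (by simp [qE_apply, w])))
    (fun γ => if h : p γ ∈ symplecticGroup (Fin n) F then ⟨p γ, h⟩ else 1) (fun x hx y hy => ?_)
    (fun s => ?_) sp_real χ
  · rw [dif_pos (hmem x hx), dif_pos (hmem y hy), dif_pos (hmem _ (mul_mem hx hy))]
    refine Subtype.ext (Matrix.ext_iff_mulVec.2 fun v => ?_)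
    change p (x * y) *ᵥ v = (p x * p y) *ᵥ v
    rw [← mulVec_mulVec, hp, hp, hp]
    have : y.1 (v, 0) = ((y.1 (v, 0)).1, 0) + (y.1 (v, 0)).2.1 • w :=
      Prod.ext (by simp [w]) (Prod.ext (by simp [w]) (by simp [w, hd y hy]))
    change (x.1 (y.1 (v, 0))).1 = _
    rw [this, map_add, map_smul, hx.2]
    simp [w]
  · obtain ⟨c, hc⟩ := exists_sqrt s
    let U : Submodule F ((Fin n ⊕ Fin n → F) × (F × F)) :=
      LinearMap.eqLocus (LinearMap.fst F F F ∘ₗ LinearMap.snd F _ _)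
        (LinearMap.snd F F F ∘ₗ LinearMap.snd F _ _)
    let Φ : ((Fin n ⊕ Fin n → F) × (F × F)) →ₗ[F] ((Fin n ⊕ Fin n → F) × (F × F)) :=
      (s.1.mulVecLin ∘ₗ LinearMap.fst F _ _).prod
        (LinearMap.snd F _ _ + (c.prod c) ∘ₗ LinearMap.fst F _ _)
    have hΦ : ∀ v, Φ v = (s.1 *ᵥ v.1, (v.2.1 + c v.1, v.2.2 + c v.1)) := fun v => rfl
    obtain ⟨g, hg1, hg2⟩ := H27.witt_quad (qE F n) qE_nondeg U (Φ ∘ₗ U.subtype)
      (Function.Injective.comp (g := Φ) (fun a b hab => by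
        rw [hΦ, hΦ] at hab
        have h1 : a.1 = b.1 := (spE s).injective (congrArg Prod.fst hab)
        have h3 := congrArg Prod.snd hab
        rw [h1] at h3
        exact Prod.ext h1 (Prod.ext (add_right_cancel (congrArg Prod.fst h3))
          (add_right_cancel (congrArg Prod.snd h3)))) U.injective_subtype) (by
        rintro ⟨v, hv⟩
        have hv' : v.2.1 = v.2.2 := hv
        change qE F n (Φ v) = qE F n v
        rw [hΦ, qE_apply, qE_apply, hc, ← hv']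
        linear_combination (c v.1 * c v.1 + v.2.1 * c v.1) * h2)
    have hY : (g, (-1 : ℤˣ)) ∈ OY (qE F n) w :=
      ⟨hg1, (hg2 ⟨w, rfl⟩).trans (by change Φ w = w; rw [hΦ]; simp [w])⟩
    refine ⟨(g, -1), ⟨hY, rfl⟩, ?_⟩
    rw [dif_pos (hmem _ hY)]
    refine Subtype.ext (Matrix.ext_iff_mulVec.2 fun v => ?_)
    change p _ *ᵥ v = _
    rw [hp]
    exact congrArg Prod.fst (hg2 ⟨(v, 0), rfl⟩)

end Sp

end Cfsg.Agent.H20.Fs
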