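import Cfsg.Agent.H49.SylowOf
import Cfsg.Agent.H3.PGroup
import Cfsg.Agent.H93.AutAct

/-! Homogeneous finite groups: basic tools (central automorphisms). -/

set_option autoImplicit false

namespace Cfsg.Agent.H20.Hm

open Subgroup Cfsg.Agent.H49

variable {G : Type*} [Group G]

/-- Every isomorphism between subgroups extends to an automorphism. -/
def Hom (G : Type*) [Group G] : Prop :=
  ∀ (A B : Subgroup G) (e : ↥A ≃* ↥B), ∃ φ : G ≃* G, ∀ a : ↥A, φ (a : G) = (e a : G)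

theorem Hom.ext2 (h : Hom G) {H : Type*} [Group H] (f g : H →* G) (hf : Function.Injective f)
    (hg : Function.Injective g) : ∃ φ : G ≃* G, ∀ x, φ (f x) = g x := by
  obtain ⟨φ, hφ⟩ := h f.range g.range
    ((MonoidHom.ofInjective hf).symm.trans (MonoidHom.ofInjective hg))
  refine ⟨φ, fun x => ?_⟩
  have := hφ (MonoidHom.ofInjective hf x)
  rw [MulEquiv.trans_apply, MulEquiv.symm_apply_apply] at this
  exact this

theorem Hom.equiv (h : Hom G) {H : Type*} [Group H] (e : G ≃* H) : Hom H := by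
  intro A B f
  obtain ⟨φ, hφ⟩ := h.ext2 (e.symm.toMonoidHom.comp A.subtype)
    (e.symm.toMonoidHom.comp (B.subtype.comp f.toMonoidHom))
    (e.symm.injective.comp Subtype.val_injective)
    (e.symm.injective.comp (Subtype.val_injective.comp f.injective))
  refine ⟨e.symm.trans (φ.trans e), fun a => ?_⟩
  have := hφ a
  simp only [MonoidHom.comp_apply, MulEquiv.coe_toMonoidHom, coe_subtype] at this
  simp only [MulEquiv.trans_apply, this, MulEquiv.apply_symm_apply]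

theorem Hom.sub (h : Hom G) {K : Subgroup G} (hK : ∀ φ : G ≃* G, ∀ x, x ∈ K ↔ φ x ∈ K) :
    Hom K := by
  intro A B f
  obtain ⟨φ, hφ⟩ := h.ext2 (K.subtype.comp A.subtype)
    (K.subtype.comp (B.subtype.comp f.toMonoidHom))
    (Subtype.val_injective.comp Subtype.val_injective)
    (Subtype.val_injective.comp (Subtype.val_injective.comp f.injective))
  refine ⟨⟨⟨fun x => ⟨φ x, (hK φ x).1 x.2⟩, fun x => ⟨φ.symm x, (hK φ.symm x).1 x.2⟩,
    fun x => by simp, fun x => by simp⟩, fun x y => by ext; simp⟩, fun a => ?_⟩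
  ext
  exact hφ a

theorem Hom.of_order (h : Hom G) {x y : G} (hxy : orderOf x = orderOf y) :
    ∃ φ : G ≃* G, φ x = y := by
  have hx : ∀ a : zpowers x, a ∈ zpowers (⟨x, mem_zpowers x⟩ : zpowers x) := by
    rintro ⟨_, k, rfl⟩; exact ⟨k, rfl⟩
  have hy : ∀ a : zpowers y, a ∈ zpowers (⟨y, mem_zpowers y⟩ : zpowers y) := by
    rintro ⟨_, k, rfl⟩; exact ⟨k, rfl⟩
  obtain ⟨φ, hφ⟩ := h _ _ (mulEquivOfOrderOfEq hx hy (by
    rw [← orderOf_coe, ← orderOf_coe (H := zpowers y)]; exact hxy))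
  refine ⟨φ, ?_⟩
  have := hφ ⟨x, mem_zpowers x⟩
  rwa [mulEquivOfOrderOfEq_apply_gen] at this

/-- The homomorphism `ℤ/p × ℤ/p → G` given by two commuting elements. -/
def pairHom {p : ℕ} [NeZero p] {u v : G} (hu : u ^ p = 1) (hv : v ^ p = 1) (huv : Commute u v) :
    Multiplicative (ZMod p × ZMod p) →* G :=
  MonoidHom.mk' (fun i => u ^ (Multiplicative.toAdd i).1.val * v ^ (Multiplicative.toAdd i).2.val)
    fun i j => by
      simp only [toAdd_mul, Prod.fst_add, Prod.snd_add, ZMod.val_add]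
      rw [← pow_eq_pow_mod _ hu, ← pow_eq_pow_mod _ hv, pow_add, pow_add, mul_assoc, mul_assoc,
        ← mul_assoc (u ^ _) (v ^ _) (v ^ _), (huv.pow_pow _ _).eq, mul_assoc]

theorem pairHom_inj {p : ℕ} [hp : Fact p.Prime] [Finite G] {u v : G} (hu : u ^ p = 1)
    (hv : v ^ p = 1) (huv : Commute u v) (h1 : u ≠ 1) (hn : v ∉ zpowers u) :
    Function.Injective (pairHom hu hv huv) := by
  rw [injective_iff_map_eq_one]
  intro i hi
  change u ^ (Multiplicative.toAdd i).1.val * v ^ (Multiplicative.toAdd i).2.val = 1 at hi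
  have h2 : (Multiplicative.toAdd i).2 = 0 := by
    by_contra h0
    apply hn
    have hm : v ^ (Multiplicative.toAdd i).2.val ∈ zpowers u := by
      rw [eq_inv_of_mul_eq_one_right hi]; exact inv_mem (pow_mem (mem_zpowers u) _)
    refine H3.mem_of_zpow_mem_of_not_dvd (p := p) (by rw [hv]; exact one_mem _)
      (k := ((Multiplicative.toAdd i).2.val : ℤ)) (by rwa [zpow_natCast]) ?_
    rw [Int.natCast_dvd_natCast]
    exact Nat.not_dvd_of_pos_of_lt (ZMod.val_pos.2 h0) (ZMod.val_lt _)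
  rw [h2, ZMod.val_zero, pow_zero, mul_one] at hi
  have h3 : (Multiplicative.toAdd i).1 = 0 := by
    have := orderOf_dvd_of_pow_eq_one hi
    rw [orderOf_eq_prime hu h1] at this
    exact (ZMod.val_eq_zero _).1 (Nat.eq_zero_of_dvd_of_lt this (ZMod.val_lt _))
  exact Multiplicative.toAdd.injective (Prod.ext h3 h2)

theorem Hom.pair (h : Hom G) [Finite G] {p : ℕ} [hp : Fact p.Prime] {u v u' v' : G}
    (hu : u ^ p = 1) (hv : v ^ p = 1) (huv : Commute u v) (h1 : u ≠ 1) (hn : v ∉ zpowers u)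
    (hu' : u' ^ p = 1) (hv' : v' ^ p = 1) (huv' : Commute u' v') (h1' : u' ≠ 1)
    (hn' : v' ∉ zpowers u') : ∃ φ : G ≃* G, φ u = u' ∧ φ v = v' := by
  obtain ⟨φ, hφ⟩ := h.ext2 _ _ (pairHom_inj hu hv huv h1 hn) (pairHom_inj hu' hv' huv' h1' hn')
  have a := hφ (Multiplicative.ofAdd (1, 0))
  have b := hφ (Multiplicative.ofAdd (0, 1))
  simp only [pairHom, MonoidHom.mk'_apply, toAdd_ofAdd, ZMod.val_one, ZMod.val_zero, pow_one,
    pow_zero, mul_one, one_mul] at a b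
  exact ⟨φ, a, b⟩

/-- `l` is additive on `P`. -/
def Ad (P : Subgroup G) (l : G → ZMod 2) : Prop := ∀ x ∈ P, ∀ y ∈ P, l (x * y) = l x + l y

/-- The rank one map `l ⊗ a`. -/
def r1 (l : G → ZMod 2) (a x : G) : G := if l x = 0 then 1 else a

/-- `g` acts on `P` as `x ↦ x * (l ⊗ a) x`. -/
def Ind (P : Subgroup G) (l : G → ZMod 2) (a g : G) : Prop :=
  ∀ x ∈ P, g * x * g⁻¹ = x * r1 l a x

theorem z2 (i : ZMod 2) : i = 0 ∨ i = 1 := by revert i; decide

theorem z2' {i : ZMod 2} (h : i ≠ 0) : i = 1 := (z2 i).resolve_left h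

theorem r1_zero {l : G → ZMod 2} {a x : G} (h : l x = 0) : r1 l a x = 1 := if_pos h

theorem r1_one {l : G → ZMod 2} {a x : G} (h : l x = 1) : r1 l a x = a :=
  if_neg (by rw [h]; decide)

theorem r1_cases (l : G → ZMod 2) (a x : G) :
    (l x = 0 ∧ r1 l a x = 1) ∨ (l x = 1 ∧ r1 l a x = a) :=
  (z2 (l x)).imp (fun h => ⟨h, r1_zero h⟩) fun h => ⟨h, r1_one h⟩

theorem r1_mem {l : G → ZMod 2} {a : G} {A : Subgroup G} (ha : a ∈ A) (x : G) : r1 l a x ∈ A := by
  rcases r1_cases l a x with ⟨-, h⟩ | ⟨-, h⟩ <;> rw [h]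
  exacts [one_mem _, ha]

namespace Ad

variable {P : Subgroup G} {l m : G → ZMod 2}

theorem one (h : Ad P l) : l 1 = 0 := by
  have := h 1 (one_mem _) 1 (one_mem _)
  rw [mul_one] at this
  exact left_eq_add.1 this

theorem inv (h : Ad P l) {x : G} (hx : x ∈ P) : l x⁻¹ = l x := by
  have := h x hx x⁻¹ (inv_mem hx)
  rw [mul_inv_cancel, h.one] at this
  revert this
  generalize l x = i; generalize l x⁻¹ = j
  revert i j; decide

theorem sq (h : Ad P l) {x : G} (hx : x ∈ P) : l (x * x) = 0 := by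
  rw [h x hx x hx]; generalize l x = i; revert i; decide

theorem conj (h : Ad P l) {x g : G} (hx : x ∈ P) (hg : g ∈ P) : l (g * x * g⁻¹) = l x := by
  rw [h _ (mul_mem hg hx) _ (inv_mem hg), h _ hg _ hx, h.inv hg]
  generalize l x = i; generalize l g = j
  revert i j; decide

theorem add (h : Ad P l) (h' : Ad P m) : Ad P (l + m) := fun x hx y hy => by
  simp only [Pi.add_apply, h x hx y hy, h' x hx y hy]; ring

theorem comp (h : Ad P l) {g : G} (hg : g ∈ 𝒩(P)) : Ad P fun x => l (g * x * g⁻¹) :=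
  fun x hx y hy => by
    rw [← h _ ((mem_normalizer_iff.1 hg x).1 hx) _ ((mem_normalizer_iff.1 hg y).1 hy)]
    group

theorem mono (h : Ad P l) {Q : Subgroup G} (hQ : Q ≤ P) : Ad Q l :=
  fun x hx y hy => h x (hQ hx) y (hQ hy)

/-- The kernel. -/
def ker (h : Ad P l) : Subgroup G where
  carrier := {x | x ∈ P ∧ l x = 0}
  one_mem' := ⟨one_mem _, h.one⟩
  mul_mem' := fun {x y} hx hy => ⟨mul_mem hx.1 hy.1, by rw [h x hx.1 y hy.1, hx.2, hy.2, add_zero]⟩
  inv_mem' := fun {x} hx => ⟨inv_mem hx.1, by rw [h.inv hx.1, hx.2]⟩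

theorem mem_ker (h : Ad P l) {x : G} : x ∈ h.ker ↔ x ∈ P ∧ l x = 0 := Iff.rfl

theorem r1_mul (h : Ad P l) {a : G} (ha : a * a = 1) {x y : G} (hx : x ∈ P) (hy : y ∈ P) :
    r1 l a (x * y) = r1 l a x * r1 l a y := by
  have e := h x hx y hy
  rcases r1_cases l a x with ⟨h1, h2⟩ | ⟨h1, h2⟩ <;>
    rcases r1_cases l a y with ⟨h3, h4⟩ | ⟨h3, h4⟩ <;> rw [h2, h4] <;> rw [h1, h3] at e
  · rw [r1_zero (by rw [e]; rfl), mul_one]
  · rw [r1_one (by rw [e]; rfl), one_mul]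
  · rw [r1_one (by rw [e]; rfl), mul_one]
  · rw [r1_zero (by rw [e]; rfl), ha]

end Ad

/-- The data of a central automorphism `x ↦ x * (l ⊗ a) x` of `P`. -/
structure CA (P : Subgroup G) (l : G → ZMod 2) (a : G) : Prop where
  ad : Ad P l
  mem : a ∈ P
  cen : ∀ x ∈ P, x * a = a * x
  sq : a * a = 1
  zero : l a = 0

namespace CA

variable {P : Subgroup G} {l : G → ZMod 2} {a : G} (h : CA P l a)
include h

theorem l_r1 (x : G) : l (r1 l a x) = 0 := by
  rcases r1_cases l a x with ⟨-, e⟩ | ⟨-, e⟩ <;> rw [e]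
  exacts [h.ad.one, h.zero]

theorem cen_r1 {x : G} (hx : x ∈ P) (y : G) : x * r1 l a y = r1 l a y * x := by
  rcases r1_cases l a y with ⟨-, e⟩ | ⟨-, e⟩ <;> rw [e]
  exacts [by rw [mul_one, one_mul], h.cen x hx]

theorem sq_r1 (x : G) : r1 l a x * r1 l a x = 1 := by
  rcases r1_cases l a x with ⟨-, e⟩ | ⟨-, e⟩ <;> rw [e]
  exacts [mul_one _, h.sq]

theorem r1_k {x : G} (hx : x ∈ P) : r1 l a (x * r1 l a x) = r1 l a x := by
  rw [h.ad.r1_mul h.sq hx (r1_mem h.mem x), r1_zero (h.l_r1 x), mul_one]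

theorem ext (hG : Hom G) : ∃ κ : G ≃* G, ∀ x ∈ P, κ x = x * r1 l a x := by
  let f : P →* G := MonoidHom.mk' (fun x => x * r1 l a x) fun x y => by
    rw [coe_mul, h.ad.r1_mul h.sq x.2 y.2, mul_assoc, mul_assoc, ← mul_assoc (y : G),
      h.cen_r1 y.2, mul_assoc]
  obtain ⟨κ, hκ⟩ := hG.ext2 P.subtype f Subtype.val_injective (by
    rw [injective_iff_map_eq_one]
    intro x hx
    change (x : G) * r1 l a x = 1 at hx
    have := h.r1_k x.2
    rw [hx, r1_zero h.ad.one] at this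
    rw [← this, mul_one] at hx
    exact Subtype.ext hx)
  exact ⟨κ, fun x hx => hκ ⟨x, hx⟩⟩

/-- The commutator of the central automorphism with `g`, general form. -/
theorem step0 (hG : Hom G) {g : G} (hg : g ∈ 𝒩(P)) : ∃ g' : G, ∀ x ∈ P,
    g' * (x * r1 l a x) * g'⁻¹ = x * r1 (fun y => l (g * y * g⁻¹)) (g⁻¹ * a * g) x := by
  obtain ⟨κ, hκ⟩ := h.ext hG
  refine ⟨g⁻¹ * κ g, fun x hx => ?_⟩
  have hx' := (mem_normalizer_iff.1 hg x).1 hx
  have e := hκ _ hx'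
  rw [map_mul, map_mul, map_inv, hκ x hx] at e
  calc g⁻¹ * κ g * (x * r1 l a x) * (g⁻¹ * κ g)⁻¹
      = g⁻¹ * (κ g * (x * r1 l a x) * (κ g)⁻¹) * g := by group
    _ = x * (g⁻¹ * r1 l a (g * x * g⁻¹) * g) := by rw [e]; group
    _ = _ := by
      congr 1
      unfold r1
      split_ifs <;> simp

theorem step (hG : Hom G) {g : G} (hg : g ∈ 𝒩(P)) (h0 : l (g * a * g⁻¹) = 0) : ∃ g' : G, ∀ x ∈ P,
    g' * x * g'⁻¹ = x * r1 (fun y => l (g * y * g⁻¹)) (g⁻¹ * a * g) x * r1 l a x := by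
  obtain ⟨g', hg'⟩ := h.step0 hG hg
  refine ⟨g', fun x hx => ?_⟩
  have ha := hg' a h.mem
  rw [r1_zero h.zero, r1_zero (l := fun y => l (g * y * g⁻¹)) h0, mul_one] at ha
  have hr : g' * r1 l a x * g'⁻¹ = r1 l a x := by
    rcases r1_cases l a x with ⟨-, e⟩ | ⟨-, e⟩ <;> rw [e]
    exacts [by group, ha]
  rw [← hg' x hx]
  calc g' * x * g'⁻¹ = g' * (x * (r1 l a x * r1 l a x)) * g'⁻¹ := by rw [h.sq_r1, mul_one]
    _ = g' * (x * r1 l a x) * g'⁻¹ * (g' * r1 l a x * g'⁻¹) := by group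
    _ = _ := by rw [hr]

/-- `g` fixes `l` and moves `a`. -/
theorem stepA (hG : Hom G) {g : G} (hg : g ∈ 𝒩(P)) (hl : ∀ x ∈ P, l (g * x * g⁻¹) = l x) :
    ∃ g' : G, Ind P l (g⁻¹ * a * g * a) g' := by
  obtain ⟨g', hg'⟩ := h.step hG hg (by rw [hl a h.mem, h.zero])
  refine ⟨g', fun x hx => ?_⟩
  rw [hg' x hx, mul_assoc]
  congr 1
  unfold r1
  simp only [hl x hx]
  split_ifs <;> simp

/-- `g` fixes `a` and moves `l`. -/
theorem stepL (hG : Hom G) {g : G} (hg : g ∈ 𝒩(P)) (ha : g * a = a * g) :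
    ∃ g' : G, Ind P ((fun y => l (g * y * g⁻¹)) + l) a g' := by
  obtain ⟨g', hg'⟩ := h.step hG hg (by rw [ha, mul_inv_cancel_right, h.zero])
  refine ⟨g', fun x hx => ?_⟩
  rw [hg' x hx, mul_assoc, mul_assoc g⁻¹, ← ha, inv_mul_cancel_left]
  congr 1
  rcases r1_cases l a x with ⟨h1, h2⟩ | ⟨h1, h2⟩ <;>
    rcases r1_cases (fun y => l (g * y * g⁻¹)) a x with ⟨h3, h4⟩ | ⟨h3, h4⟩ <;> rw [h2, h4]
  · rw [r1_zero (by rw [Pi.add_apply, h1, h3]; rfl), mul_one]
  · rw [r1_one (by rw [Pi.add_apply, h1, h3]; rfl), mul_one]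
  · rw [r1_one (by rw [Pi.add_apply, h1, h3]; rfl), one_mul]
  · rw [r1_zero (by rw [Pi.add_apply, h1, h3]; rfl), h.sq]

theorem norm [Finite G] {g : G} (hg : Ind P l a g) : g ∈ 𝒩(P) :=
  mem_norm_of_cj_le fun y hy => by
    obtain ⟨x, hx, rfl⟩ := mem_cj'.1 hy
    rw [hg x hx]
    exact mul_mem hx (r1_mem h.mem x)

theorem ind_sq {g : G} (hg : Ind P l a g) {x : G} (hx : x ∈ P) : g * g * x * (g * g)⁻¹ = x := by
  calc g * g * x * (g * g)⁻¹ = g * (g * x * g⁻¹) * g⁻¹ := by group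
    _ = x := by
      rw [hg x hx, hg _ (mul_mem hx (r1_mem h.mem x)), h.r1_k hx, mul_assoc, h.sq_r1, mul_one]

theorem ind_odd {g : G} (hg : Ind P l a g) (k : ℕ) : Ind P l a (g ^ (2 * k + 1)) := by
  induction k with
  | zero => simpa using hg
  | succ k ih =>
    intro x hx
    rw [show 2 * (k + 1) + 1 = (2 * k + 1) + 2 by ring, pow_add, ← ih x hx, pow_two]
    conv_rhs => rw [← h.ind_sq hg hx]
    group

/-- The inducing element can be replaced by a power which is a `2`-element. -/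
theorem two [Finite G] {g : G} (hg : Ind P l a g) :
    ∃ k, Ind P l a (g ^ k) ∧ IsPi {2} (zpowers (g ^ k)) := by
  obtain ⟨j, m, hm, e⟩ := Nat.exists_eq_two_pow_mul_odd (orderOf_pos g).ne'
  obtain ⟨k, rfl⟩ := hm
  refine ⟨2 * k + 1, h.ind_odd hg k, ?_⟩
  rw [isPi_iff, Nat.card_zpowers]
  refine (isPiNat_singleton_pow Nat.prime_two j).of_dvd (orderOf_dvd_of_pow_eq_one ?_)
  rw [← pow_mul, mul_comm, ← e, pow_orderOf_eq_one]

end CA

end Cfsg.Agent.H20.Hm
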