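import Cfsg.Agent.H20.Hom1
import Cfsg.Agent.H69.GenSU3

/-! Homogeneous finite groups: excluding groups through pairs of elements of prime order. -/

set_option autoImplicit false

namespace Cfsg.Agent.H20.Hm

open Subgroup Matrix
open scoped MatrixGroups

/-- Conjugacy of commuting independent elements of order `p` does not depend on the pair. -/
def Pr (p : ℕ) (K : Type*) [Group K] : Prop :=
  ∀ u v y : K, u ^ p = 1 → v ^ p = 1 → y ^ p = 1 → u ≠ 1 → Commute u v → Commute u y →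
    v ∉ zpowers u → y ∉ zpowers u → IsConj u v → IsConj u y

section
variable {G K : Type*} [Group G] [Group K] {p : ℕ}

theorem Hom.pr [Finite G] [Fact p.Prime] (h : Hom G) : Pr p G := by
  intro u v y hu hv hy h1 c1 c2 n1 n2 hc
  obtain ⟨φ, a, b⟩ := h.pair hu hv c1 h1 n1 hu hy c2 h1 n2
  have := φ.toMonoidHom.map_isConj hc
  rwa [MulEquiv.coe_toMonoidHom, a, b] at this

theorem uq {f : G →* K} (hk : f.ker ≤ center G) (hz : ∀ z ∈ center G, z ^ p = 1 → z = 1)
    {a b : G} (ha : a ^ p = 1) (hb : b ^ p = 1) (e : f a = f b) : a = b := by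
  have hc : a⁻¹ * b ∈ center G := hk (by rw [MonoidHom.mem_ker, map_mul, map_inv, e, inv_mul_cancel])
  refine inv_mul_eq_one.1 (hz _ hc ?_)
  have : Commute a (a⁻¹ * b) := mem_center_iff.1 hc a
  have e := this.mul_pow p
  rwa [mul_inv_cancel_left, hb, ha, one_mul, eq_comm] at e

theorem Pr.up {f : G →* K} (hf : Function.Surjective f) (hk : f.ker ≤ center G)
    (hz : ∀ z ∈ center G, z ^ p = 1 → z = 1) (h : Pr p K) : Pr p G := by
  intro u v y hu hv hy h1 c1 c2 n1 n2 hc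
  have pw : ∀ {x : G}, x ^ p = 1 → f x ^ p = 1 := fun hx => by rw [← map_pow, hx, map_one]
  have nz : ∀ {x : G}, x ^ p = 1 → x ∉ zpowers u → f x ∉ zpowers (f u) := fun hx hn ⟨k, e⟩ =>
    hn ⟨k, uq hk hz (by
      change (u ^ k) ^ p = 1
      rw [← _root_.zpow_natCast, zpow_comm, _root_.zpow_natCast, hu, _root_.one_zpow]) hx (by rw [map_zpow]; exact e)⟩
  obtain ⟨c, e⟩ := isConj_iff.1 (h _ _ _ (pw hu) (pw hv) (pw hy)
    (fun e => h1 (uq hk hz hu (one_pow p) (by rw [e, map_one]))) (c1.map f) (c2.map f) (nz hv n1)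
    (nz hy n2) (f.map_isConj hc))
  obtain ⟨g, rfl⟩ := hf c
  exact isConj_iff.2 ⟨g, uq hk hz (by rw [conj_pow, hu]; group) hy (by simpa using e)⟩

theorem Pr.down [Finite G] {f : G →* K} (hf : Function.Surjective f) (hk : f.ker ≤ center G)
    (hp : (Nat.card (center G)).Coprime p) (h : Pr p G) : Pr p K := by
  have hz : ∀ z ∈ center G, z ^ p = 1 → z = 1 := fun z hz e =>
    orderOf_eq_one_iff.1 (Nat.eq_one_of_dvd_coprimes hp (orderOf_dvd_natCard _ hz)
      (orderOf_dvd_of_pow_eq_one e))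
  have lift : ∀ k : K, k ^ p = 1 → ∃ x, f x = k ∧ x ^ p = 1 := fun k e => by
    obtain ⟨x, rfl⟩ := hf k
    obtain ⟨j, h1, h2⟩ := Nat.chineseRemainder hp 0 1
    refine ⟨x ^ j, ?_, ?_⟩
    · rw [map_pow]
      exact (pow_eq_pow_iff_modEq.2 (h2.of_dvd (orderOf_dvd_of_pow_eq_one e))).trans (pow_one _)
    · rw [← pow_mul, mul_comm, pow_mul]
      refine orderOf_dvd_iff_pow_eq_one.1 ((orderOf_dvd_natCard _ (hk ?_)).trans
        (Nat.modEq_zero_iff_dvd.1 h1))
      rw [MonoidHom.mem_ker, map_pow, e]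
  intro u v y hu hv hy h1 c1 c2 n1 n2 hc
  obtain ⟨u, rfl, hu'⟩ := lift u hu
  obtain ⟨v, rfl, hv'⟩ := lift v hv
  obtain ⟨y, rfl, hy'⟩ := lift y hy
  replace hu := hu'
  replace hv := hv'
  replace hy := hy'
  have cm : ∀ {x : G}, x ^ p = 1 → Commute (f u) (f x) → Commute u x := fun {x} hx c =>
    mul_inv_eq_iff_eq_mul.1 (uq (a := u * x * u⁻¹) hk hz (by rw [conj_pow, hx]; group) hx (by
      rw [map_mul, map_mul, c.eq, map_inv, mul_inv_cancel_right]))
  have nz : ∀ {x : G}, f x ∉ zpowers (f u) → x ∉ zpowers u := fun hn ⟨k, e⟩ =>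
    hn ⟨k, by rw [← e]; exact (map_zpow f u k).symm⟩
  obtain ⟨c, e⟩ := isConj_iff.1 hc
  obtain ⟨g, rfl⟩ := hf c
  exact f.map_isConj (h u v y hu hv hy (fun e => h1 (by rw [e, map_one])) (cm hv c1) (cm hy c2)
    (nz n1) (nz n2) (isConj_iff.2 ⟨g, uq hk hz (by rw [conj_pow, hu]; group) hv (by simpa using e)⟩))

/-- Heisenberg configuration of unipotent matrices. -/
theorem not_pr_heis [Finite G] [hp : Fact p.Prime] {R : Type*} [Ring R] [CharP R p] (h3 : 3 ≤ p)
    (ρ : G →* R) (hρ : Function.Injective ρ) {x y z : G} (e : x * y * x⁻¹ = y * z)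
    (c : Commute y z) (y3 : (ρ y - 1) ^ 3 = 0) (y2 : (ρ y - 1) ^ 2 ≠ 0) (z2 : (ρ z - 1) ^ 2 = 0)
    (z1 : z ≠ 1) : ¬ Pr p G := fun h => by
  have pw : ∀ {g : G}, (ρ g - 1) ^ 3 = 0 → g ^ p = 1 := fun {g} hg => hρ (by
    have := sub_pow_char_of_commute p (Commute.one_right (ρ g))
    rw [pow_eq_zero_of_le h3 hg, one_pow, eq_comm, sub_eq_zero] at this
    rw [map_pow, this, map_one])
  have hy := pw y3
  have hz := pw (pow_eq_zero_of_le (by norm_num) z2)
  have nz : z ∉ zpowers y := fun hm => by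
    obtain ⟨k, rfl⟩ := mem_powers_iff_mem_zpowers.2 (H93.mem_zpowers_of_mem_zpowers hy hm z1)
    apply y2
    change (ρ (z ^ k) - 1) ^ 2 = 0
    rw [map_pow, pow_two]
    nth_rewrite 1 [← geom_sum_mul]
    rw [← mul_geom_sum, mul_assoc, ← mul_assoc (ρ z - 1), ← pow_two, z2, zero_mul, mul_zero]
  obtain ⟨g, hg⟩ := isConj_iff.1 (h y (y * z) z hy (by rw [c.mul_pow, hy, hz, mul_one]) hz
    (fun e => y2 (by rw [e, map_one, sub_self, zero_pow two_ne_zero]))
    ((Commute.refl y).mul_right c) c (fun hm => nz (by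
      simpa using mul_mem (inv_mem (mem_zpowers y)) hm)) nz (isConj_iff.2 ⟨x, e⟩))
  apply y2
  have i1 : ρ g⁻¹ * ρ g = 1 := by rw [← map_mul, inv_mul_cancel, map_one]
  have i2 : ρ g * ρ g⁻¹ = 1 := by rw [← map_mul, mul_inv_cancel, map_one]
  have : ρ y - 1 = ρ g⁻¹ * (ρ z - 1) * ρ g := by
    rw [mul_sub, sub_mul, mul_one, i1, ← hg, ← map_mul, ← map_mul]; congr 2; group
  rw [this, pow_two, mul_assoc, ← mul_assoc (ρ g), ← mul_assoc (ρ g), i2, one_mul, mul_assoc,
    ← mul_assoc (ρ z - 1), ← pow_two, z2, zero_mul, mul_zero]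

end

section
variable {F : Type*} [Field F] [Fintype F] {p : ℕ} [hp : Fact p.Prime]

omit [Fintype F] in
theorem smul_pow_eq_one [CharP F p] {n : ℕ} {c : F}
    (h : (c • (1 : Matrix (Fin (n + 1)) (Fin (n + 1)) F)) ^ p = 1) :
    c • (1 : Matrix (Fin (n + 1)) (Fin (n + 1)) F) = 1 := by
  rw [smul_pow, one_pow] at h
  have h0 : c ^ p = 1 := by simpa using congrFun (congrFun h 0) 0
  have := sub_pow_char (p := p) c 1
  rw [h0, one_pow, sub_self] at this
  rw [sub_eq_zero.1 (pow_eq_zero_iff hp.out.ne_zero |>.1 this), one_smul]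

omit [Fintype F] in
theorem sl_center [CharP F p] {n : ℕ} (z : SL(n + 1, F)) (hz : z ∈ center SL(n + 1, F))
    (e : z ^ p = 1) : z = 1 := by
  obtain ⟨c, -, hc⟩ := Matrix.SpecialLinearGroup.mem_center_iff.1 hz
  rw [scalar_apply, ← smul_one_eq_diagonal] at hc
  refine Subtype.ext (hc.symm.trans (smul_pow_eq_one (p := p) ?_))
  rw [hc]
  exact congrArg Subtype.val e

/-- Unitriangular matrices. -/
def e3 (a b c : F) : SL(3, F) := ⟨!![1, a, b; 0, 1, c; 0, 0, 1], by simp [det_fin_three]⟩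

omit [Fintype F] in
theorem e3_mul (a b c a' b' c' : F) :
    e3 a b c * e3 a' b' c' = e3 (a + a') (b + a * c' + b') (c + c') := by
  ext i j
  rw [Matrix.SpecialLinearGroup.coe_mul]
  fin_cases i <;> fin_cases j <;> simp [e3, Matrix.mul_apply, Fin.sum_univ_three] <;> ring

theorem not_pr_psl3 [CharP F p] (h3 : 3 ≤ p) : ¬ Pr p (ProjectiveSpecialLinearGroup (Fin 3) F) :=
  fun h => by
  refine not_pr_heis (G := SL(3, F)) h3 (slToMat 3 F) Subtype.val_injective
    (x := e3 1 0 0) (y := e3 1 0 1) (z := e3 0 1 0) ?_ ?_ ?_ ?_ ?_ ?_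
    (h.up (QuotientGroup.mk'_surjective _) (QuotientGroup.ker_mk' _).le sl_center)
  · rw [mul_inv_eq_iff_eq_mul]
    simp [e3_mul]
  · simp [commute_iff_eq, e3_mul]
  · change (!![1, 1, 0; 0, 1, 1; 0, 0, 1] - 1 : Matrix (Fin 3) (Fin 3) F) ^ 3 = 0
    rw [one_fin_three, pow_three]
    ext i j; fin_cases i <;> fin_cases j <;> simp [Matrix.mul_apply, Fin.sum_univ_three]
  · change (!![1, 1, 0; 0, 1, 1; 0, 0, 1] - 1 : Matrix (Fin 3) (Fin 3) F) ^ 2 ≠ 0
    rw [one_fin_three, pow_two]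
    intro e
    simpa [Matrix.mul_apply, Fin.sum_univ_three] using congrFun (congrFun e 0) 2
  · change (!![1, 0, 1; 0, 1, 0; 0, 0, 1] - 1 : Matrix (Fin 3) (Fin 3) F) ^ 2 = 0
    rw [one_fin_three, pow_two]
    ext i j; fin_cases i <;> fin_cases j <;> simp [Matrix.mul_apply, Fin.sum_univ_three]
  · intro e
    simpa [e3] using congrFun (congrFun (congrArg Subtype.val e) 0) 2

omit [Fintype F] in
theorem ext0 {n : ℕ} {M : Matrix (Fin n) (Fin n) F} (h : ∀ v, M *ᵥ v = 0) : M = 0 :=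
  ext_of_mulVec_single fun i => by rw [h, zero_mulVec]

open Cfsg.Agent.H10 Cfsg.Agent.H42 Cfsg.Agent.H49.U3

/-- The matrix of an element of `SU`. -/
def smH (n : ℕ) (F : Type*) [Field F] (q : ℕ) : SU n F q →* Matrix (Fin n) (Fin n) F :=
  (slToMat n F).comp (SU n F q).subtype

theorem not_pr_psu3 [CharP F p] (h3 : 3 ≤ p) {q : ℕ} [Fact (Fintype.card F = q ^ 2)] :
    ¬ Pr p (PSU 3 F q) := fun h => by
  obtain ⟨e, w, f, hfr⟩ := H69.exists_frame' (F := F) (q := q)
  obtain ⟨y, hy⟩ := UM.exists_x (F := F) (q := q) 1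
  obtain ⟨x, hx⟩ : ∃ x, x * y ≠ y * x := by
    by_contra hn
    push Not at hn
    exact one_ne_zero (hy.symm.trans (UM.mem_center_iff.1 (mem_center_iff.2 hn)))
  have hz : (y⁻¹ * (x * y * x⁻¹)).x = 0 := by simp
  have N : ∀ (a : UM F q) (v : Fin 3 → F), (smH 3 F q (UM.emb hfr a) - 1) *ᵥ v =
      (cj F q a.x * hermForm 3 F q v w - a.y * hermForm 3 F q v e) • e -
        (hermForm 3 F q v e * a.x) • w := fun a v => by
    change (eich q e (a.x • w) a.y - 1) *ᵥ v = _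
    rw [sub_mulVec, eich_mulVec, one_mulVec, herm_smul_right, smul_smul]
    abel
  have N2 : ∀ (a : UM F q) (v : Fin 3 → F), (smH 3 F q (UM.emb hfr a) - 1) ^ 2 *ᵥ v =
      (-(cj F q a.x * hermForm 3 F q v e * a.x)) • e := fun a v => by
    rw [pow_two, ← mulVec_mulVec, N, N]
    simp only [herm_sub_left, herm_smul_left, hfr.ee, hfr.ew, hfr.we, hfr.ww]
    simp [mul_assoc]
  refine not_pr_heis h3 (smH 3 F q) sm_injective (x := UM.emb hfr x) (y := UM.emb hfr y)
    (z := UM.emb hfr (y⁻¹ * (x * y * x⁻¹))) (by simp) ?_ ?_ ?_ ?_ ?_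
    (h.up (QuotientGroup.mk'_surjective _) (QuotientGroup.ker_mk' _).le fun z hz e => ?_)
  · exact Commute.map (mem_center_iff.1 (UM.mem_center_iff.2 hz) y) _
  · refine ext0 fun i => ?_
    rw [pow_succ', ← mulVec_mulVec, N2, N]
    simp only [herm_smul_left, hfr.ee, hfr.ew]
    simp
  · intro e0
    have := N2 y f
    rw [e0, zero_mulVec, hy, hfr.fe] at this
    have := congrArg (hermForm 3 F q · f) this
    simp only [herm_smul_left, hfr.ef, herm_zero_left] at this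
    simp at this
  · refine ext0 fun i => ?_
    rw [N2, hz]
    simp
  · intro e0
    rw [← map_one (UM.emb hfr)] at e0
    exact hx (mul_inv_eq_iff_eq_mul.1 (inv_mul_eq_one.1 (UM.emb_injective hfr e0)).symm)
  · obtain ⟨c, hc⟩ := (mem_center_SU_iff (by norm_num) z).1 hz
    refine sm_injective (hc.trans (smul_pow_eq_one (p := p) ?_))
    rw [← hc]
    exact (map_pow (smH 3 F q) z p).symm.trans (by rw [e, map_one])

end

end Cfsg.Agent.H20.Hm
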