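import Cfsg.Agent.H20.Hom6
import Cfsg.Agent.H20.Hom5
import Cfsg.Agent.H8.OddCore
import Cfsg.Agent.S0434
import Cfsg.Agent.S0435

/-! Homogeneous finite groups: excluding `U₃(4)`, `A₇` and `M₁₁`. -/

set_option autoImplicit false

namespace Cfsg.Agent.H20.Hm

open Subgroup Matrix Cfsg.Agent.H49 Cfsg.Agent.H10

section
variable {F : Type*} [Field F]

/-- Diagonal elements of `SU₃(4)`. -/
def dU (z : F) (hz : z ^ 5 = 1) (a b c : ℕ) (h : (a + b + c) % 5 = 0) : SU 3 F 4 :=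
  ⟨⟨diagonal ![z ^ a, z ^ b, z ^ c], by
    rw [det_diagonal, Fin.prod_univ_three]
    change z ^ a * z ^ b * z ^ c = 1
    rw [← pow_add, ← pow_add, pow_eq_pow_mod _ hz, h, pow_zero]⟩, fun u v => by
    have : ∀ (k : ℕ) (x y : F), z ^ k * x * (z ^ k * y) ^ 4 = x * y ^ 4 := fun k x y => by
      have : (z ^ k) ^ 5 = 1 := by rw [← pow_mul, mul_comm, pow_mul, hz, one_pow]
      linear_combination x * y ^ 4 * this
    change hermForm 3 F 4 (diagonal _ *ᵥ u) (diagonal _ *ᵥ v) = _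
    simp only [hermForm, mulVec_diagonal, Fin.sum_univ_three]
    simp [this]⟩

theorem smH_dU (z : F) (hz : z ^ 5 = 1) (a b c : ℕ) (h : (a + b + c) % 5 = 0) :
    smH 3 F 4 (dU z hz a b c h) = diagonal ![z ^ a, z ^ b, z ^ c] := rfl

theorem not_pr_psu34 [Fintype F] (hF : Fintype.card F = 16) : ¬ Pr 5 (PSU 3 F 4) := fun h => by
  classical
  have : Fact (Fintype.card F = 4 ^ 2) := ⟨hF⟩
  have : Fact (Nat.Prime 5) := ⟨by norm_num⟩
  obtain ⟨ζ, hζ⟩ := exists_prime_orderOf_dvd_card' (G := Fˣ) 5 (by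
    rw [Nat.card_units, Nat.card_eq_fintype_card, hF]; norm_num)
  have hz : (ζ : F) ^ 5 = 1 := by rw [← Units.val_pow_eq_pow_val, ← hζ, pow_orderOf_eq_one]; rfl
  have z1 : (ζ : F) ≠ 1 := fun e => by
    rw [Units.val_eq_one.1 e, orderOf_one] at hζ; omega
  generalize (ζ : F) = z at hz z1
  have inj : Function.Injective (smH 3 F 4) := sm_injective
  have pw : ∀ a b c h, dU z hz a b c h ^ 5 = 1 := fun a b c h => inj (by
    have : ∀ k : ℕ, (z ^ k) ^ 5 = 1 := fun k => by rw [← pow_mul, mul_comm, pow_mul, hz, one_pow]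
    rw [map_pow, smH_dU, diagonal_pow, map_one, ← diagonal_one]
    congr 1
    ext i
    fin_cases i <;> simp [this])
  have cm : ∀ a b c h a' b' c' h', Commute (dU z hz a b c h) (dU z hz a' b' c' h') :=
    fun a b c h a' b' c' h' => inj (by
      rw [map_mul, map_mul, smH_dU, smH_dU, diagonal_mul_diagonal, diagonal_mul_diagonal]
      simp only [mul_comm])
  have nz : ∀ a b c h, dU z hz a b c h ∈ zpowers (dU z hz 1 1 3 rfl) → z ^ a = z ^ b :=
    fun a b c h hm => by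
      obtain ⟨k, e⟩ := mem_powers_iff_mem_zpowers.2 hm
      have := congrArg (smH 3 F 4) e
      rw [map_pow, smH_dU, smH_dU, diagonal_pow] at this
      have a0 := congrFun (congrFun this 0) 0
      have a1 := congrFun (congrFun this 1) 1
      simp only [diagonal_apply_eq, Pi.pow_apply] at a0 a1
      exact a0.symm.trans a1
  let π : SU 3 F 4 := ⟨⟨!![0, 0, 1; 1, 0, 0; 0, 1, 0], by simp [det_fin_three]⟩, fun u v => by
    change hermForm 3 F 4 (!![0, 0, 1; 1, 0, 0; 0, 1, 0] *ᵥ u) (!![0, 0, 1; 1, 0, 0; 0, 1, 0] *ᵥ v) = _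
    simp [hermForm, Fin.sum_univ_three, mulVec, dotProduct]
    ring⟩
  have h' : Pr 5 (SU 3 F 4) := h.up (QuotientGroup.mk'_surjective _) (QuotientGroup.ker_mk' _).le
    fun g hg e => by
      obtain ⟨c, hc⟩ := (mem_center_SU_iff (by norm_num) g).1 hg
      have d : (sm g).det = 1 := g.1.2
      have e' : sm g ^ 5 = 1 := (map_pow (smH 3 F 4) g 5).symm.trans (by rw [e, map_one])
      rw [hc, smul_pow, one_pow] at e'
      rw [hc, det_smul, det_one, Fintype.card_fin, mul_one] at d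
      have c5 : c ^ 5 = 1 := by simpa using congrFun (congrFun e' 0) 0
      have : c = 1 := by linear_combination (c ^ 3 + 1) * d - c * c5
      exact sm_injective (by rw [hc, this, one_smul]; rfl)
  obtain ⟨g, hg⟩ := isConj_iff.1 (h' (dU z hz 1 1 3 rfl) (dU z hz 3 1 1 rfl) (dU z hz 0 1 4 rfl)
    (pw _ _ _ _) (pw _ _ _ _) (pw _ _ _ _) (fun e => z1 (by
      simpa [smH_dU] using congrFun (congrFun (congrArg (smH 3 F 4) e) 0) 0)) (cm _ _ _ _ _ _ _ _)
    (cm _ _ _ _ _ _ _ _) (fun e => z1 (by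
      linear_combination hz - (z ^ 2 + 1) * nz _ _ _ _ e))
    (fun e => z1 (by linear_combination -nz _ _ _ _ e)) (isConj_iff.2 ⟨π, by
      rw [mul_inv_eq_iff_eq_mul]
      apply inj
      rw [map_mul, map_mul, smH_dU, smH_dU]
      change !![0, 0, 1; 1, 0, 0; 0, 1, 0] * _ = _ * !![0, 0, 1; 1, 0, 0; 0, 1, 0]
      ext i j
      fin_cases i <;> fin_cases j <;> simp [Matrix.mul_apply, diagonal]⟩))
  have e := congrArg (smH 3 F 4) (mul_inv_eq_iff_eq_mul.1 hg)
  have i2 : smH 3 F 4 g * smH 3 F 4 g⁻¹ = 1 := by rw [← map_mul, mul_inv_cancel, map_one]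
  rw [map_mul, map_mul, smH_dU, smH_dU] at e
  generalize smH 3 F 4 g = A at e i2
  generalize smH 3 F 4 g⁻¹ = B at i2
  have e0 : ∀ j, A 0 j = 0 := fun j => by
    have := congrFun (congrFun e 0) j
    rw [mul_diagonal, diagonal_mul] at this
    by_contra h0
    fin_cases j <;> simp at this h0 <;> have e := (mul_eq_left₀ h0).1 this
    exacts [z1 e, z1 e, z1 (by linear_combination (z ^ 3 + 1) * e - z * hz)]
  simpa [Matrix.mul_apply, e0] using congrFun (congrFun i2 0) 0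

end

theorem not_pr_a7 : ¬ Pr 3 (alternatingGroup (Fin 7)) := fun h => by
  let u : alternatingGroup (Fin 7) := ⟨c[0, 1, 2], Equiv.Perm.mem_alternatingGroup.2 (by decide)⟩
  let v : alternatingGroup (Fin 7) := ⟨c[3, 4, 5], Equiv.Perm.mem_alternatingGroup.2 (by decide)⟩
  let g : alternatingGroup (Fin 7) := 
    ⟨c[0, 3] * c[1, 4] * c[2, 5, 6], Equiv.Perm.mem_alternatingGroup.2 (by decide)⟩
  have nz : ∀ y : alternatingGroup (Fin 7), y ∈ zpowers u → y.1 3 = 3 := by
    rintro _ ⟨k, rfl⟩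
    exact Equiv.Perm.zpow_apply_eq_self_of_apply_eq_self (f := u.1) (by decide) k
  obtain ⟨k, hk⟩ := isConj_iff.1 (h u v (u * v) (by decide) (by decide) (by decide) (by decide)
    (by rw [commute_iff_eq]; decide) (by rw [commute_iff_eq]; decide)
    (fun e => absurd (nz _ e) (by decide)) (fun e => absurd (nz _ e) (by decide))
    (isConj_iff.2 ⟨g, by decide⟩))
  have := Equiv.Perm.card_support_conj (σ := k.1) (τ := u.1)
  rw [show k.1 * u.1 * k.1⁻¹ = (u * v).1 from congrArg Subtype.val hk] at this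
  exact absurd this (by decide)

theorem not_m11 {G : Type*} [Group G] [Finite G] (hG : Hom G) (hM : IsM11 G) : False := by
  have : Fact (Nat.Prime 3) := ⟨Nat.prime_three⟩
  have := hM.1
  obtain ⟨P⟩ : Nonempty (Sylow 3 G) := inferInstance
  have hN := S0434.result hM P
  have hP : Nat.card (P : Subgroup G) = 3 ^ 2 := by
    rw [P.card_eq_multiplicity, hM.2, show 7920 = 3 ^ 2 * 880 from rfl,
      Nat.factorization_eq_of_coprime_left (by norm_num) (by simp), Nat.prime_three.factorization_pow]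
    simp
  have ab : ∀ x ∈ (P : Subgroup G), ∀ y ∈ (P : Subgroup G), Commute x y := fun x hx y hy =>
    congrArg Subtype.val ((IsPGroup.commGroupOfCardEqPrimeSq hP).mul_comm ⟨x, hx⟩ ⟨y, hy⟩)
  generalize (P : Subgroup G) = P at hN hP ab
  have nc : ∀ h : G, h * h = 1 → h ≠ 1 → ¬ P ≤ 𝒞[h] := fun h h2 h1 hle => by
    have := card_dvd_of_le hle
    rw [S0435.result hM h (orderOf_eq_prime (by rw [pow_two, h2]) h1), hP] at this
    norm_num at this
  have o3 : ∀ x ∈ P, x ^ 3 = 1 ∨ P ≤ zpowers x := fun x hx => by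
    obtain ⟨k, hk, e⟩ := (Nat.dvd_prime_pow Nat.prime_three).1 (hP ▸ orderOf_dvd_natCard P hx)
    by_cases k2 : k = 2
    · right
      exact (eq_of_le_of_card_ge (zpowers_le.2 hx) (by rw [Nat.card_zpowers, e, hP, k2])).ge
    · left
      exact orderOf_dvd_iff_pow_eq_one.1 (e ▸ (pow_dvd_pow 3 (show k ≤ 1 by omega)))
  obtain ⟨Q, hQ⟩ := exists_sylowOf 2 𝒩(P)
  by_cases hc : ∃ h ∈ Q, h * h = 1 ∧ h ≠ 1 ∧ ∃ u ∈ P, u ≠ 1 ∧ h * u = u * h
  · obtain ⟨h, hh, h2, h1, u, hu, u1, c⟩ := hc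
    obtain ⟨x, hx, hxc⟩ := SetLike.not_le_iff_exists.1 (nc h h2 h1)
    have hi : h⁻¹ = h := inv_eq_of_mul_eq_one_right h2
    have hv := mul_mem (inv_mem hx) (cjm (hQ.le hh) hx)
    have v1 : x⁻¹ * (h * x * h⁻¹) ≠ 1 := fun e =>
      hxc (mem_cent1.2 (mul_inv_eq_iff_eq_mul.1 (inv_mul_eq_one.1 e).symm).symm)
    have iv : h * (x⁻¹ * (h * x * h⁻¹)) * h⁻¹ = (x⁻¹ * (h * x * h⁻¹))⁻¹ := by
      rw [show h * (x⁻¹ * (h * x * h⁻¹)) * h⁻¹ = (h * x * h⁻¹)⁻¹ * ((h * h) * x * (h * h)⁻¹) by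
        group, h2]
      group
    generalize x⁻¹ * (h * x * h⁻¹) = v at hv v1 iv
    have u3 : u ^ 3 = 1 := (o3 u hu).resolve_right fun e =>
      nc h h2 h1 (e.trans (zpowers_le.2 (mem_cent1.2 c.symm)))
    have two : ∀ {w : G}, w ^ 3 = 1 → w = w⁻¹ → w = 1 := fun {w} a b => by
      rw [pow_three, ← mul_assoc, mul_eq_one_iff_eq_inv.2 b, one_mul] at a; exact a
    have v3 : v ^ 3 = 1 := (o3 v hv).resolve_right fun e => by
      obtain ⟨k, rfl⟩ := e hu
      refine u1 (two u3 ?_)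
      change v ^ k = (v ^ k)⁻¹
      rw [← _root_.inv_zpow, ← iv, conj_zpow, c, mul_inv_cancel_right]
    have nv : v ∉ zpowers u := fun ⟨k, e⟩ => v1 (two v3 (by
      rw [← iv, ← e, ((show Commute h u from c).zpow_right k).eq, mul_inv_cancel_right]))
    have cuv := ab u hu v hv
    obtain ⟨φ, a, b⟩ := hG.pair u3 v3 cuv u1 nv u3 (by rw [cuv.mul_pow, u3, v3, mul_one])
      ((Commute.refl u).mul_right cuv) u1 fun e => nv (by
        simpa using mul_mem (inv_mem (mem_zpowers u)) e)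
    have a1 : φ h * u * (φ h)⁻¹ = u := by
      rw [← a, ← map_inv, ← map_mul, ← map_mul, c, mul_inv_cancel_right]
    have a2 : φ h * (u * v) * (φ h)⁻¹ = (u * v)⁻¹ := by
      rw [← b, ← map_inv, ← map_mul, ← map_mul, iv, map_inv]
    have a3 : h * u * h⁻¹ = u := by rw [c, mul_inv_cancel_right]
    have g1 : h * φ h * u * (h * φ h)⁻¹ = u := by
      rw [show h * φ h * u * (h * φ h)⁻¹ = h * (φ h * u * (φ h)⁻¹) * h⁻¹ by group, a1, a3]
    have g2 : h * φ h * v * (h * φ h)⁻¹ = u * v := by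
      rw [show h * φ h * v * (h * φ h)⁻¹ =
        h * ((φ h * u * (φ h)⁻¹)⁻¹ * (φ h * (u * v) * (φ h)⁻¹)) * h⁻¹ by group, a1, a2, cuv.eq,
        show h * (u⁻¹ * (v * u)⁻¹) * h⁻¹ = ((h * u * h⁻¹) ^ 2)⁻¹ * (h * v * h⁻¹)⁻¹ by
          rw [pow_two]; group,
        a3, iv, inv_inv, ← cuv.eq, mul_left_inj, inv_eq_iff_mul_eq_one, ← pow_succ, u3]
    generalize h * φ h = g at g1 g2
    have eP : zpowers u ⊔ zpowers v = P := H93.eq_of_card_eq_mul_prime (p := 3) le_sup_left
      (sup_le (zpowers_le.2 hu) (zpowers_le.2 hv))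
      (by rw [Nat.card_zpowers, orderOf_eq_prime u3 u1, hP]; rfl)
      fun e => nv (e (mem_sup_right (mem_zpowers v)))
    have hg : g ∈ 𝒩(P) := mem_norm_of_cj_le (by
      conv_lhs => rw [← eP, cj_sup, cj_zpowers, cj_zpowers, g1, g2]
      exact sup_le (zpowers_le.2 hu) (zpowers_le.2 (mul_mem hu hv)))
    have hi : P.relIndex 𝒩(P) = 16 := by
      have := card_mul_relIndex (le_normalizer (H := P))
      rw [hN, hP] at this
      omega
    have := normal_subgroupOf (le_refl 𝒩(P))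
    have h16 : g ^ 16 ∈ P := hi ▸ pow_index_mem (H := P.subgroupOf 𝒩(P)) ⟨g, hg⟩
    have pw : ∀ k : ℕ, g ^ k * v * (g ^ k)⁻¹ = u ^ k * v := fun k => by
      induction k with
      | zero => simp
      | succ k ih =>
        rw [show g ^ (k + 1) * v * (g ^ (k + 1))⁻¹ = g * (g ^ k * v * (g ^ k)⁻¹) * g⁻¹ by group, ih,
          show g * (u ^ k * v) * g⁻¹ = (g * u * g⁻¹) ^ k * (g * v * g⁻¹) by rw [conj_pow]; group,
          g1, g2, pow_succ, mul_assoc]
    have := pw 16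
    rw [(ab _ h16 v hv).eq, mul_inv_cancel_right, pow_eq_pow_mod _ u3, right_eq_mul] at this
    exact u1 (by simpa using this)
  · push Not at hc
    have inv : ∀ h ∈ Q, h * h = 1 → h ≠ 1 → ∀ x ∈ P, h * x * h⁻¹ = x⁻¹ := fun h hh h2 h1 x hx => by
      by_contra hne
      refine hc h hh h2 h1 _ (mul_mem hx (cjm (hQ.le hh) hx))
        (fun e => hne (eq_inv_of_mul_eq_one_right e)) (mul_inv_eq_iff_eq_mul.1 ?_)
      rw [show h * (x * (h * x * h⁻¹)) * h⁻¹ = (h * x * h⁻¹) * ((h * h) * x * (h * h)⁻¹) by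
        group, h2, (ab x hx _ (cjm (hQ.le hh) hx)).eq]
      group
    have hQ' : IsSylowOf 2 Q ⊤ := hQ.of_index le_top (by
      have := card_mul_relIndex (le_top (a := 𝒩(P)))
      rw [hN, card_top, hM.2] at this
      rw [show (𝒩(P)).relIndex ⊤ = 55 by omega, isPiNat_compl_singleton Nat.prime_two]
      norm_num)
    obtain ⟨h, hh, ho⟩ := exists_orderOf_eq_of_dvd_card Nat.prime_two
      (hQ.dvd_card Nat.prime_two rfl (by rw [hN]; norm_num))
    have h2 : h * h = 1 := by rw [← pow_two, ← ho, pow_orderOf_eq_one]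
    have h1 : h ≠ 1 := fun e => by rw [e, orderOf_one] at ho; omega
    have : Fact (Nat.Prime 2) := ⟨Nat.prime_two⟩
    obtain ⟨S, rfl⟩ := exists_sylow_of_top Nat.prime_two hQ'
    have hz := H43.WC.mem_center (H8.core_eq_bot_iff.2 fun N hN ho =>
      hN.eq_bot_or_eq_top.resolve_right fun e => by
        rw [e, card_top, hM.2] at ho; exact absurd ho (by decide)) (H43.WC.of_sylow S hh fun g hg => by
      have k2 : g * h * g⁻¹ * (g * h * g⁻¹) = 1 := by
        rw [show g * h * g⁻¹ * (g * h * g⁻¹) = g * (h * h) * g⁻¹ by group, h2]; group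
      have k1 : g * h * g⁻¹ ≠ 1 := fun e => h1 (by simpa using e)
      generalize g * h * g⁻¹ = k at hg k1 k2
      by_contra hne
      obtain ⟨y, hy, yo⟩ := exists_orderOf_eq_of_dvd_card (H := zpowers (h⁻¹ * k)) Nat.prime_two (by
        obtain ⟨j, hj⟩ := (hQ.pi.of_le (zpowers_le.2 (mul_mem (inv_mem hh) hg))).exists_card_eq_pow
          Nat.prime_two
        rw [hj]
        refine dvd_pow_self 2 fun e => hne ?_
        rw [e, pow_zero, card_eq_one, zpowers_eq_bot] at hj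
        exact (inv_mul_eq_one.1 hj).symm)
      refine nc y (by rw [← pow_two, ← yo, pow_orderOf_eq_one])
        (fun e => by rw [e, orderOf_one] at yo; omega) (le_cent1_iff.2 (zpowers_le.2 ?_ hy))
      refine mem_centralizer_iff.2 fun x hx => ?_
      have := (inv k hg k2 k1 x hx).trans (inv h hh h2 h1 x hx).symm
      calc x * (h⁻¹ * k) = h⁻¹ * (h * x * h⁻¹) * k := by group
        _ = _ := by rw [← this]; group)
    exact nc h h2 h1 fun x _ => mem_cent1.2 (mem_center_iff.1 hz x)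

end Cfsg.Agent.H20.Hm
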