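import Cfsg.Agent.H20.Hom6
import Cfsg.Agent.H29.PslDict

/-! Homogeneous finite groups: `SL₂(q)` and `PSL₂(q)`. -/

set_option autoImplicit false

namespace Cfsg.Agent.H20.Hm

open Subgroup Matrix Cfsg.Agent.H29
open scoped MatrixGroups commutatorElement

theorem small_of_units {n : ℕ} (h : ∀ j, j.Coprime (2 * n) → n ∣ j - 1 ∨ n ∣ j + 1) :
    n ≤ 4 ∨ n = 6 := by
  by_contra hn
  have key : ∀ j, j.Coprime 2 → j.Coprime n → ∀ r, j % n = r → 1 < r → r + 1 < n → False :=
    fun j h1 h2 r e a b => by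
      have hj := Nat.mod_add_div j n
      rw [e] at hj
      rcases h j (h1.mul_right h2) with d | d
      · rw [← hj, show r + n * (j / n) - 1 = r - 1 + n * (j / n) by omega,
          Nat.dvd_add_left (dvd_mul_right _ _)] at d
        have := Nat.le_of_dvd (by omega) d
        omega
      · rw [← hj, add_right_comm, Nat.dvd_add_left (dvd_mul_right _ _)] at d
        have := Nat.le_of_dvd (by omega) d
        omega
  have odd : ∀ j, j % 2 = 1 → j.Coprime 2 := fun j e => Nat.coprime_two_right.2 (Nat.odd_iff.2 e)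
  rcases Nat.even_or_odd' n with ⟨m, rfl | rfl⟩
  · rcases Nat.even_or_odd' m with ⟨k, rfl | rfl⟩
    · refine key (2 * k + 1) (odd _ (by omega)) ((odd _ (by omega)).mul_right (by simp)) _
        (Nat.mod_eq_of_lt (by omega)) (by omega) (by omega)
    · refine key (2 * k + 1 + 2) (odd _ (by omega)) ((odd _ (by omega)).mul_right ?_) _
        (Nat.mod_eq_of_lt (by omega)) (by omega) (by omega)
      rw [Nat.coprime_self_add_left]
      exact (odd _ (by omega)).symm
  · refine key (2 * m + 1 + 2) (odd _ (by omega)) ?_ 2 ?_ (by omega) (by omega)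
    · rw [Nat.coprime_self_add_left]
      exact (odd _ (by omega)).symm
    · rw [Nat.add_mod_left]; exact Nat.mod_eq_of_lt (by omega)

theorem eq_of_perfect {G H : Type*} [Group G] [Group H] [Group.IsPerfect G] (f g : G →* H)
    (h : ∀ x, (g x)⁻¹ * f x ∈ center H) (x : G) : f x = g x := by
  have : commutator G ≤ f.eqLocus g := by
    rw [commutator_def, commutator_le]
    intro a _ b _
    change f _ = g _
    have ea : f a = g a * ((g a)⁻¹ * f a) := by group
    have eb : f b = g b * ((g b)⁻¹ * f b) := by group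
    have ha := mem_center_iff.1 (h a)
    have hb := mem_center_iff.1 (h b)
    rw [map_commutatorElement, map_commutatorElement, ea, eb]
    generalize (g a)⁻¹ * f a = z at ha
    generalize (g b)⁻¹ * f b = w at hb
    calc ⁅g a * z, g b * w⁆ = g a * (z * (g b * w) * z⁻¹) * (g a)⁻¹ * w⁻¹ * (g b)⁻¹ := by group
      _ = g a * g b * (w * (g a)⁻¹ * w⁻¹) * (g b)⁻¹ := by rw [← ha, mul_inv_cancel_right]; group
      _ = _ := by rw [← hb, mul_inv_cancel_right]; group
  exact this (Group.IsPerfect.mem_commutator)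

variable {F : Type*} [Field F]

/-- Unitriangular matrices. -/
def u2 : Multiplicative F →* SL(2, F) :=
  MonoidHom.mk' (fun x => ⟨!![1, x.toAdd; 0, 1], by simp⟩) fun x y => Subtype.ext (by
    change !![1, (x * y).toAdd; 0, 1] = !![1, x.toAdd; 0, 1] * !![1, y.toAdd; 0, 1]
    simp [add_comm])

theorem u2_coe (x : F) : (u2 (Multiplicative.ofAdd x) : Matrix (Fin 2) (Fin 2) F) = !![1, x; 0, 1] :=
  rfl

theorem u2_inj : Function.Injective (u2 (F := F)) := fun _ _ h =>
  Multiplicative.toAdd.injective (congrFun (congrFun (congrArg Subtype.val h) 0) 1)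

/-- Diagonal matrices. -/
def d2 : Fˣ →* SL(2, F) :=
  MonoidHom.mk' (fun t => ⟨!![t, 0; 0, (t⁻¹ : Fˣ)], by simp⟩) fun x y => Subtype.ext (by
    change !![((x * y : Fˣ) : F), 0; 0, ((x * y)⁻¹ : Fˣ)] =
      !![(x : F), 0; 0, (x⁻¹ : Fˣ)] * !![(y : F), 0; 0, (y⁻¹ : Fˣ)]
    simp [mul_comm])

theorem d2_coe (t : Fˣ) : (d2 t : Matrix (Fin 2) (Fin 2) F) = !![(t : F), 0; 0, (t⁻¹ : Fˣ)] := rfl

theorem bot_of_pr [Fintype F] {p : ℕ} [Fact p.Prime] [CharP F p] (h2 : p ≠ 2)
    (h : Pr p SL(2, F)) (x : F) : x ∈ (⊥ : Subfield F) := by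
  by_contra hx
  have two : (2 : F) ≠ 0 := Ring.two_ne_zero (by rwa [ringChar.eq F p])
  obtain ⟨s, hs⟩ : ∃ s : F, s * s ∉ (⊥ : Subfield F) := by
    by_contra hn
    push Not at hn
    refine hx ?_
    rw [show x = ((x + 1) * (x + 1) - x * x - 1) / 2 by field_simp; ring]
    exact div_mem (sub_mem (sub_mem (hn _) (hn _)) (one_mem _)) (ofNat_mem _ 2)
  have s0 : s ≠ 0 := fun e => hs (by rw [e, zero_mul]; exact zero_mem _)
  obtain ⟨y, hy, hys⟩ : ∃ y : F, y ∉ (⊥ : Subfield F) ∧ ¬ IsSquare y := by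
    obtain ⟨a, ha⟩ := FiniteField.exists_nonsquare (F := F) (by rwa [ringChar.eq F p])
    by_cases e : a ∈ (⊥ : Subfield F)
    · have a0 : a ≠ 0 := fun e => ha (e ▸ IsSquare.zero)
      refine ⟨a * (s * s), fun e' => hs ?_, fun ⟨r, e'⟩ => ha ⟨r / s, ?_⟩⟩
      · simpa [a0] using mul_mem (inv_mem e) e'
      · field_simp; linear_combination e'
    · exact ⟨a, e, ha⟩
  have pw : ∀ a : F, u2 (Multiplicative.ofAdd a) ^ p = 1 := fun a => by
    rw [← map_pow, ← ofAdd_nsmul, nsmul_eq_mul, CharP.cast_eq_zero, zero_mul, ofAdd_zero, map_one]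
  have nz : ∀ a : F, a ∉ (⊥ : Subfield F) →
      u2 (Multiplicative.ofAdd a) ∉ zpowers (u2 (Multiplicative.ofAdd (1 : F))) := by
    rintro a ha ⟨k, e⟩
    have := u2_inj ((map_zpow (u2 (F := F)) _ k).trans e)
    rw [← ofAdd_zsmul, zsmul_one] at this
    exact ha (Multiplicative.ofAdd.injective this ▸ intCast_mem _ k)
  obtain ⟨g, hg⟩ := isConj_iff.1 (h _ _ _ (pw 1) (pw (s * s)) (pw y)
    (fun e => one_ne_zero (Multiplicative.ofAdd.injective (u2_inj (e.trans (map_one _).symm))))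
    ((Commute.all _ _).map u2) ((Commute.all _ _).map u2) (nz _ hs) (nz _ hy)
    (isConj_iff.2 ⟨d2 (Units.mk0 s s0), by
      rw [mul_inv_eq_iff_eq_mul]
      ext i j
      rw [Matrix.SpecialLinearGroup.coe_mul, Matrix.SpecialLinearGroup.coe_mul, u2_coe, u2_coe,
        d2_coe]
      fin_cases i <;> fin_cases j <;> simp [Matrix.mul_apply, Fin.sum_univ_two, s0]⟩))
  rw [mul_inv_eq_iff_eq_mul] at hg
  have e : g.1 * !![1, 1; 0, 1] = !![1, y; 0, 1] * g.1 := congrArg Subtype.val hg
  have d := g.2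
  rw [det_fin_two] at d
  have e1 := congrFun (congrFun e 0) 1
  have e2 := congrFun (congrFun e 1) 1
  simp [Matrix.mul_apply, Fin.sum_univ_two] at e1 e2
  exact hys ⟨g.1 0 0, by linear_combination -g.1 0 0 * e1 - y * d - y * g.1 0 1 * e2⟩

theorem aut_psl2 [Finite F] {p : ℕ} [Fact p.Prime] [CharP F p] (hb : ∀ x, x ∈ (⊥ : Subfield F))
    (α : MulAut PSL(2, F)) : ∃ g : GL (Fin 2) F, α = pslConj (Fin 2) F g := by
  obtain ⟨g, σ, h | ⟨h, -⟩⟩ := aut_psl_cases le_rfl α
  · have : σ = 1 := RingEquiv.ext fun x => by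
      obtain ⟨n, rfl⟩ := (mem_bot_iff_intCast p F).1 (hb x)
      exact map_intCast σ n
    exact ⟨g, by rw [h, this, map_one, mul_one]⟩
  · omega

theorem aut_sl2 [Finite F] {p : ℕ} [Fact p.Prime] [CharP F p] (hb : ∀ x, x ∈ (⊥ : Subfield F))
    [Group.IsPerfect SL(2, F)] (φ : SL(2, F) ≃* SL(2, F)) :
    ∃ g : GL (Fin 2) F, ∀ x, φ x = slConjElt g x := by
  obtain ⟨g, hg⟩ := aut_psl2 hb (QuotientGroup.congr (center _) (center _) φ
    (characteristic_iff_map_eq.1 inferInstance φ))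
  refine ⟨g, eq_of_perfect φ.toMonoidHom (slConj g).toMonoidHom fun x => QuotientGroup.eq.1 ?_⟩
  exact (DFunLike.congr_fun hg (QuotientGroup.mk x)).symm

theorem tr_conj (g : GL (Fin 2) F) (x : SL(2, F)) : (slConjElt g x).1.trace = x.1.trace := by
  rw [slConjElt_coe, trace_mul_cycle, ← Units.val_mul, inv_mul_cancel, Units.val_one, one_mul]

theorem tr_sq_of_mk {x y : SL(2, F)} (h : (QuotientGroup.mk x : PSL(2, F)) = QuotientGroup.mk y) :
    x.1.trace ^ 2 = y.1.trace ^ 2 := by
  obtain ⟨c, hc, e⟩ := Matrix.SpecialLinearGroup.mem_center_iff.1 (QuotientGroup.eq.1 h)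
  have : y.1 = x.1 * (x⁻¹ * y).1 := by
    rw [← Matrix.SpecialLinearGroup.coe_mul, mul_inv_cancel_left]
  rw [this, ← e, scalar_apply, ← smul_one_eq_diagonal, mul_smul_comm, mul_one, trace_smul,
    smul_eq_mul, mul_pow, Fintype.card_fin] at *
  rw [hc, one_mul]

theorem pm_of_tr {s : Fˣ} {j : ℕ} (h : (s : F) + (s⁻¹ : Fˣ) = (s ^ j : Fˣ) + ((s ^ j)⁻¹ : Fˣ)) :
    orderOf s ∣ j - 1 ∨ orderOf s ∣ j + 1 := by
  have : ((s ^ j : Fˣ) - s : F) * ((s ^ j : Fˣ) - (s⁻¹ : Fˣ)) = 0 := by
    have a := s.mul_inv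
    have b := (s ^ j).mul_inv
    linear_combination -(s ^ j : Fˣ) * h + a - b
  rcases mul_eq_zero.1 this with e | e <;> rw [sub_eq_zero, Units.val_inj] at e
  · left
    rcases j with _ | j
    · simp
    · rw [pow_succ, mul_eq_right] at e
      exact orderOf_dvd_of_pow_eq_one e
  · right
    exact orderOf_dvd_of_pow_eq_one (by rw [pow_succ, e, inv_mul_cancel])

theorem tr_d2 (t : Fˣ) : (d2 t).1.trace = (t : F) + (t⁻¹ : Fˣ) := by
  rw [d2_coe, trace_fin_two_of]

/-- Companion matrices. -/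
def c2 (a : F) : SL(2, F) := ⟨!![0, -1; 1, a], by simp⟩

theorem c2_coe (a : F) : (c2 a).1 = !![0, -1; 1, a] := rfl

theorem c2_pow (a : F) (k : ℕ) : (c2 a ^ k).1 = !![0, -1; 1, a] ^ k := rfl

theorem card_of_bot [Fintype F] {p : ℕ} [Fact p.Prime] [CharP F p]
    (hb : ∀ x, x ∈ (⊥ : Subfield F)) : Fintype.card F = p := by
  rw [← Subfield.card_bot F p, ← Nat.card_eq_fintype_card]
  exact Nat.card_congr ⟨fun x => ⟨x, hb x⟩, fun x => x, fun _ => rfl, fun _ => rfl⟩

theorem sl2_five [Fintype F] (ho : Odd (Fintype.card F)) (h3 : 3 < Fintype.card F)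
    [Group.IsPerfect SL(2, F)] (h : Hom SL(2, F)) : Fintype.card F = 5 := by
  obtain ⟨p, _, n, hp, hc⟩ := FiniteField.card' F
  have := Fact.mk hp
  have h2 : p ≠ 2 := by
    rintro rfl
    rw [hc] at ho
    exact absurd (Odd.of_dvd_nat ho (dvd_pow_self 2 n.ne_zero)) (by decide)
  have hb := bot_of_pr h2 h.pr
  have hc := card_of_bot hb
  have tr : ∀ (x : SL(2, F)) (j m : ℕ), x ^ m = 1 → j.Coprime m → x.1.trace = (x ^ j).1.trace :=
    fun x j m hm hj => by
      obtain ⟨φ, e⟩ := h.of_order (x := x) (y := x ^ j) (Nat.Coprime.orderOf_pow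
        (hj.coprime_dvd_right (orderOf_dvd_of_pow_eq_one hm)).symm).symm
      obtain ⟨g, hg⟩ := aut_sl2 hb φ
      rw [← e, hg, tr_conj]
  obtain ⟨t, ht⟩ := IsCyclic.exists_ofOrder_eq_natCard (α := Fˣ)
  rw [Nat.card_units, Nat.card_eq_fintype_card] at ht
  have := small_of_units (n := orderOf t) fun j hj => pm_of_tr (by
    rw [← tr_d2, ← tr_d2, map_pow]
    exact tr _ j (orderOf t) (by rw [← map_pow, pow_orderOf_eq_one, map_one])
      (hj.coprime_dvd_right (dvd_mul_left _ _)))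
  obtain ⟨k, hk⟩ := ho
  by_contra h5
  have h7 : ((7 : ℕ) : F) = 0 := by
    rw [show 7 = p by omega]; exact CharP.cast_eq_zero F p
  push_cast at h7
  have := tr (c2 3) 3 8 (by
    refine Subtype.ext ((c2_pow _ _).trans ?_)
    simp only [pow_succ, pow_zero, one_mul, mul_fin_two]
    ext i j
    fin_cases i <;> fin_cases j <;> simp
    exacts [by linear_combination -54 * h7, by linear_combination -141 * h7,
      by linear_combination 141 * h7, by linear_combination 369 * h7]) (by norm_num)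
  rw [c2_pow, c2_coe] at this
  simp only [pow_succ, pow_zero, one_mul, mul_fin_two, trace_fin_two_of] at this
  exact one_ne_zero (α := F) (by linear_combination -this - 2 * h7)

theorem psl2_five_seven [Fintype F] (ho : Odd (Fintype.card F)) (h3 : 3 < Fintype.card F)
    (h : Hom PSL(2, F)) : Fintype.card F = 5 ∨ Fintype.card F = 7 := by
  obtain ⟨p, _, n, hp, hc⟩ := FiniteField.card' F
  have := Fact.mk hp
  have h2 : p ≠ 2 := by
    rintro rfl
    rw [hc] at ho
    exact absurd (Odd.of_dvd_nat ho (dvd_pow_self 2 n.ne_zero)) (by decide)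
  have hb := bot_of_pr h2
    (h.pr.up (QuotientGroup.mk'_surjective _) (QuotientGroup.ker_mk' _).le sl_center)
  have hc := card_of_bot hb
  have tr : ∀ (x : SL(2, F)) (j m : ℕ), x ^ m = 1 → j.Coprime m →
      x.1.trace ^ 2 = (x ^ j).1.trace ^ 2 := fun x j m hm hj => by
    obtain ⟨φ, e⟩ := h.of_order (x := (QuotientGroup.mk x : PSL(2, F)))
      (y := QuotientGroup.mk x ^ j) (Nat.Coprime.orderOf_pow (hj.coprime_dvd_right
        (orderOf_dvd_of_pow_eq_one (by rw [← QuotientGroup.mk_pow, hm]; rfl))).symm).symm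
    obtain ⟨g, rfl⟩ := aut_psl2 hb φ
    rw [← tr_conj g]
    exact tr_sq_of_mk e
  obtain ⟨t, ht⟩ := IsCyclic.exists_ofOrder_eq_natCard (α := Fˣ)
  rw [Nat.card_units, Nat.card_eq_fintype_card] at ht
  obtain ⟨k, hk⟩ := ho
  have hs : orderOf (t ^ 2) = k := by
    rw [orderOf_pow_of_dvd two_ne_zero (by omega)]; omega
  have := small_of_units (n := k) fun j hj => hs ▸ pm_of_tr (by
    have := tr (d2 t) j (2 * k) (by
      rw [← map_pow, show 2 * k = orderOf t by omega, pow_orderOf_eq_one, map_one]) hj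
    rw [← map_pow, tr_d2, tr_d2] at this
    have a := t.mul_inv
    have b := (t ^ j).mul_inv
    rw [← pow_mul, mul_comm, pow_mul]
    generalize t ^ j = r at this b ⊢
    rw [← inv_pow, ← inv_pow]
    simp only [Units.val_pow_eq_pow_val]
    linear_combination this - 2 * a + 2 * b)
  by_contra h5
  have h9 : p ≠ 9 := by rintro rfl; exact absurd hp (by norm_num)
  have h13 : ((13 : ℕ) : F) = 0 := by
    rw [show 13 = p by omega]; exact CharP.cast_eq_zero F p
  push_cast at h13
  have := tr (c2 7) 2 7 (by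
    refine Subtype.ext ((c2_pow _ _).trans ?_)
    simp only [pow_succ, pow_zero, one_mul, mul_fin_two]
    ext i j
    fin_cases i <;> fin_cases j <;> simp
    exacts [by linear_combination -1189 * h13, by linear_combination -8149 * h13,
      by linear_combination 8149 * h13, by linear_combination 55854 * h13]) (by norm_num)
  rw [c2_pow, c2_coe] at this
  simp only [pow_succ, pow_zero, one_mul, mul_fin_two, trace_fin_two_of] at this
  exact one_ne_zero (α := F) (by linear_combination -7 * this - 1163 * h13)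

end Cfsg.Agent.H20.Hm
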