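import Cfsg.Agent.H20.Hom5
import Cfsg.Agent.H20.Hom8
import Cfsg.Agent.H51.ElemRep
import Cfsg.Agent.H44.Subnormal
import Cfsg.Agent.H22.SL2Mult
import Cfsg.Agent.H5.Burnside
import Cfsg.Agent.S0249

/-! Homogeneous finite groups: normal `p`-subgroups of a perfect homogeneous group. -/

set_option autoImplicit false

namespace Cfsg.Agent.H20.Hm

open Subgroup Matrix Cfsg.Agent.H49
open scoped MatrixGroups

theorem qs_sl2 {F : Type*} [Field F] [Fintype F] (h : 3 < Fintype.card F) :
    IsQuasisimple SL(2, F) :=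
  ⟨H22.sl2_perfect h, ProjectiveSpecialLinearGroup.rank_two_simple (by
    rw [Nat.card_eq_fintype_card]; exact h)⟩

theorem perfect_sl {X : Type*} [Group X] [Group.IsPerfect X] {p n : ℕ} [hp : Fact p.Prime]
    (σ : X →* SL(n, ZMod p)) (hn : σ.range.Normal) :
    (∀ x, σ x = 1) ∨ (Function.Surjective σ ∧ (3 ≤ n ∨ (n = 2 ∧ 5 ≤ p))) := by
  have sol : Group.IsSolvable σ.range → ∀ x, σ x = 1 := fun h x => by
    by_contra hx
    have : Nontrivial σ.range := ⟨⟨⟨σ x, x, rfl⟩, 1, fun e => hx (congrArg Subtype.val e)⟩⟩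
    have := Group.IsPerfect.range σ
    exact Group.IsPerfect.not_isSolvable _ h
  have qs : IsQuasisimple SL(n, ZMod p) → (∀ x, σ x = 1) ∨ Function.Surjective σ := fun h =>
    ((H44.isQuasisimple_iff.1 h).2.2 _ hn).symm.imp (fun h => sol (Group.isSolvable_of_comm
      fun a b => Subtype.ext (mem_center_iff.1 (h b.2) a.1))) MonoidHom.range_eq_top.1
  by_cases h3 : 3 ≤ n
  · exact (qs ⟨⟨H9.commutator_sl_eq_top (by rwa [Fintype.card_fin])⟩, S0249.result n h3⟩).imp_right
      fun h => ⟨h, Or.inl h3⟩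
  by_cases h2 : n = 2
  · subst h2
    by_cases h5 : 5 ≤ p
    · exact (qs (qs_sl2 (by rw [ZMod.card]; omega))).imp_right fun h => ⟨h, Or.inr ⟨rfl, h5⟩⟩
    · refine Or.inl (sol (H5.isSolvable_of_card_dvd_prime_pow_mul Nat.prime_two Nat.prime_three
        (a := 3) (b := 1) ((card_subgroup_dvd_card _).trans ?_)))
      rw [H9.card_sl_two, ZMod.card]
      have := hp.out.two_le
      have h4 : p ≠ 4 := by rintro rfl; exact absurd hp.out (by decide)
      obtain rfl | rfl : p = 2 ∨ p = 3 := by omega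
      all_goals norm_num
  · left
    intro x
    obtain rfl | rfl : n = 0 ∨ n = 1 := by omega
    · exact Subtype.ext (Subsingleton.elim _ _)
    · ext i j
      have := (σ x).2
      rw [det_fin_one] at this
      rw [Subsingleton.elim i 0, Subsingleton.elim j 0, this]
      rfl

variable {X : Type*} [Group X] [Finite X]

theorem exists_pelt {H : Type*} [Monoid H] {p : ℕ} (hp : p.Prime) (f : X →* H) (x : X)
    (h : f x ^ p = 1) : ∃ y j, f y = f x ∧ orderOf y = p ^ j := by
  obtain ⟨a, b, e, ha, hb⟩ := exists_pi_factor {p} (orderOf_pos x).ne'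
  obtain ⟨k, h1, h2⟩ := Nat.chineseRemainder ((isPiNat_compl_singleton_iff_coprime hp).1 hb) 0 1
  have : IsPiNat {p} (orderOf (x ^ k)) := ha.of_dvd (orderOf_dvd_of_pow_eq_one (by
    rw [← pow_mul]
    exact orderOf_dvd_iff_pow_eq_one.1 (e ▸ mul_comm a k ▸
      Nat.mul_dvd_mul_left a (Nat.modEq_zero_iff_dvd.1 h1))))
  obtain ⟨j, hj⟩ := (isPiNat_singleton hp (orderOf_pos _).ne').1 this
  exact ⟨_, j, by rw [map_pow, pow_eq_pow_mod k h, h2, ← pow_eq_pow_mod _ h, pow_one], hj⟩

theorem central_of_omega (hX : Hom X) [Group.IsPerfect X] {p : ℕ} [hp : Fact p.Prime]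
    {A : Subgroup X} (hA : ∀ x, x ∈ A ↔ x ^ p = 1) (hc : ∀ a ∈ A, ∀ b ∈ A, a * b = b * a) :
    A ≤ center X := by
  have ch : ∀ φ : X ≃* X, ∀ x, x ∈ A ↔ φ x ∈ A := fun φ x => by
    rw [hA, hA, ← map_pow, EmbeddingLike.map_eq_one_iff]
  obtain ⟨n, e, ρ, hcard, ea, -, he⟩ := H51.exists_matrix_rep A p
    (fun a b => Subtype.ext (hc a a.2 b b.2)) fun a => Subtype.ext ((hA a).1 a.2)
  let res : MulAut X →* MulAut A := MonoidHom.mk' (fun φ =>
    ⟨⟨fun x => ⟨φ x, (ch φ x).1 x.2⟩, fun x => ⟨φ.symm x, (ch φ.symm x).1 x.2⟩,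
      fun x => by simp, fun x => by simp⟩, fun x y => by ext; simp⟩) fun _ _ => rfl
  let μ := ρ.comp res
  let σ := μ.comp MulAut.conj
  have hσ : ∀ (x : X) (a : A), e ⟨x * a * x⁻¹, (ch (MulAut.conj x) a).1 a.2⟩ = σ x *ᵥ e a :=
    fun x a => he (res (MulAut.conj x)) a
  have cj : ∀ (φ : MulAut X) (x : X), σ (φ x) = μ φ * σ x * μ φ⁻¹ := fun φ x => by
    change μ _ = μ φ * μ _ * _
    rw [← map_mul, ← map_mul]
    congr 1
    ext y
    simp
  have det1 : ∀ x, (σ x).det = 1 := fun x => by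
    have : commutator X ≤ ((detMonoidHom.comp σ).toHomUnits).ker :=
      Abelianization.commutator_subset_ker _
    exact congrArg Units.val (this (Group.IsPerfect.mem_commutator (g := x)))
  let σ' : X →* SL(n, ZMod p) := MonoidHom.mk' (fun x => ⟨σ x, det1 x⟩) fun x y =>
    Subtype.ext (map_mul σ x y)
  have e1 : e 1 = 0 := by have := ea 1 1; rw [mul_one] at this; exact left_eq_add.1 this
  have es : ∀ u v, e.symm (u + v) = e.symm u * e.symm v := fun u v => e.injective (by simp [ea])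
  have hN : σ'.range.Normal := ⟨by
    rintro _ ⟨x, rfl⟩ g
    let k : A →* A := MonoidHom.mk' (fun a => e.symm (g.1 *ᵥ e a)) fun a b => by
      rw [ea, mulVec_add, es]
    obtain ⟨φ, hφ⟩ := hX.ext2 A.subtype (A.subtype.comp k) Subtype.val_injective
      (Subtype.val_injective.comp fun a b h => e.injective (by
        have := congrArg (fun v => (g⁻¹).1 *ᵥ v) (e.symm.injective h)
        simpa only [mulVec_mulVec, ← Matrix.SpecialLinearGroup.coe_mul, inv_mul_cancel,
          Matrix.SpecialLinearGroup.coe_one, one_mulVec] using this))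
    have hg : μ φ = g.1 := sub_eq_zero.1 (ext0 fun v => by
      obtain ⟨a, rfl⟩ := e.surjective v
      rw [sub_mulVec, sub_eq_zero]
      refine (he (res φ) a).symm.trans ?_
      rw [show res φ a = k a from Subtype.ext (hφ a)]
      exact e.apply_symm_apply _)
    refine ⟨φ x, ?_⟩
    rw [eq_mul_inv_iff_mul_eq]
    refine Subtype.ext ?_
    change σ (φ x) * g.1 = g.1 * σ x
    rw [cj, ← hg, mul_assoc, ← map_mul, inv_mul_cancel, map_one, mul_one]⟩
  rcases perfect_sl σ' hN with h | ⟨hs, h⟩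
  · intro a ha
    refine mem_center_iff.2 fun x => mul_inv_eq_iff_eq_mul.1 ?_
    have := hσ x ⟨a, ha⟩
    rw [show σ x = 1 from congrArg Subtype.val (h x), one_mulVec] at this
    exact congrArg Subtype.val (e.injective this)
  by_cases h2 : p = 2
  · subst h2
    have : A.Normal := ⟨fun a ha g => (ch (MulAut.conj g) a).1 ha⟩
    have := rank_three hX ⟨fun a ha b hb => hc b hb a ha, fun a ha => by
      rw [← pow_two, (hA a).1 ha]⟩ (fun x _ hx => (hA x).2 (by rw [pow_two, hx])) (by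
        rw [hcard]; exact Nat.pow_le_pow_right (n := 2) (i := 3) two_pos (by omega))
    rw [normalizer_eq_top] at this
    exact fun a ha => mem_center_iff.2 fun x => (mem_centralizer_iff.1 (this (mem_top x)) a ha).symm
  exfalso
  have p3 : 3 ≤ p := by have := hp.out.two_le; omega
  rcases h with h | ⟨rfl, -⟩
  · obtain ⟨m, rfl⟩ : ∃ m, n = m + 3 := ⟨n - 3, by omega⟩
    have n01 : (0 : Fin (m + 3)) ≠ 1 := by simp
    have n12 : (1 : Fin (m + 3)) ≠ 2 := by
      simp [Fin.ext_iff, Nat.mod_eq_of_lt (show 2 < m + 3 by omega)]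
    have n02 : (0 : Fin (m + 3)) ≠ 2 := by
      simp [Fin.ext_iff, Nat.mod_eq_of_lt (show 2 < m + 3 by omega)]
    have n20 := n02.symm
    have n21 := n12.symm
    have n10 := n01.symm
    have pw : ∀ {M : Matrix (Fin (m + 3)) (Fin (m + 3)) (ZMod p)}, (M - 1) ^ 3 = 0 → M ^ p = 1 :=
      fun {M} hM => by
        have := sub_pow_char_of_commute p (Commute.one_right M)
        rwa [pow_eq_zero_of_le p3 hM, one_pow, eq_comm, sub_eq_zero] at this
    obtain ⟨t, ht⟩ := hs ⟨transvection 0 1 1, det_transvection_of_ne _ _ n01 _⟩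
    obtain ⟨u, hu⟩ := hs ⟨transvection 0 1 1 * transvection 1 2 1, by
      rw [det_mul, det_transvection_of_ne _ _ n01, det_transvection_of_ne _ _ n12, mul_one]⟩
    have ht : σ t - 1 = single 0 1 1 := by
      rw [show σ t = 1 + single 0 1 1 from congrArg Subtype.val ht, add_sub_cancel_left]
    have hu : σ u - 1 = single 0 1 1 + single 1 2 1 + single 0 2 1 := by
      rw [show σ u = (1 + single 0 1 1) * (1 + single 1 2 1) from congrArg Subtype.val hu]
      simp only [mul_add, add_mul, single_mul_single_same, mul_one, one_mul]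
      abel
    have t2 : (σ t - 1) ^ 2 = 0 := by rw [ht, pow_two, single_mul_single_of_ne _ _ _ _ n10]
    have u2 : (σ u - 1) ^ 2 = single 0 2 1 := by
      rw [hu, pow_two]
      simp [mul_add, add_mul, single_mul_single_of_ne, *]
    have u3 : (σ u - 1) ^ 3 = 0 := by
      rw [pow_succ, u2, hu]
      simp [mul_add, single_mul_single_of_ne, *]
    have s0 : ∀ i j : Fin (m + 3), single i j (1 : ZMod p) ≠ 0 := fun i j e => by
      simpa using congrFun (congrFun e i) j
    have tp := pw (pow_eq_zero_of_le (by norm_num) t2)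
    have up := pw u3
    obtain ⟨t', a, e1, ha⟩ := exists_pelt hp.out σ t tp
    obtain ⟨u', b, e2, hb⟩ := exists_pelt hp.out σ u up
    rw [← e1] at ht t2 tp
    rw [← e2] at u2 up
    have le : ∀ {s r : X} {i j : ℕ}, orderOf s = p ^ i → orderOf r = p ^ j → σ s ≠ 1 →
        σ r ^ p = 1 → j ≤ i := fun {s r i j} hs hr s1 rp => by
      by_contra hlt
      obtain ⟨k, rfl⟩ : ∃ k, j = i + (k + 1) := ⟨j - i - 1, by omega⟩
      obtain ⟨φ, e⟩ := hX.of_order (x := r ^ p ^ (k + 1)) (y := s) (by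
        rw [orderOf_pow_of_dvd (pow_ne_zero _ hp.out.ne_zero) (hr ▸ pow_dvd_pow p (by omega)), hr,
          hs, pow_add, Nat.mul_div_cancel _ (pow_pos hp.out.pos _)])
      apply s1
      rw [← e, cj, map_pow, pow_succ', pow_mul, rp, one_pow, mul_one, ← map_mul, mul_inv_cancel,
        map_one]
    have ab : a = b := le_antisymm
      (le hb ha (fun e => s0 _ _ (by rw [← u2, e, sub_self, zero_pow two_ne_zero])) tp)
      (le ha hb (fun e => s0 _ _ (by rw [← ht, e, sub_self])) up)
    obtain ⟨φ, e⟩ := hX.of_order (x := t') (y := u') (by rw [ha, hb, ab])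
    have i1 : μ φ⁻¹ * μ φ = 1 := by rw [← map_mul, inv_mul_cancel, map_one]
    have i2 : μ φ * μ φ⁻¹ = 1 := by rw [← map_mul, mul_inv_cancel, map_one]
    have : σ u' - 1 = μ φ * (σ t' - 1) * μ φ⁻¹ := by
      rw [mul_sub, sub_mul, mul_one, i2, ← e, cj]
    apply s0 0 2
    rw [← u2, this, pow_two, mul_assoc, ← mul_assoc (μ φ⁻¹), ← mul_assoc (μ φ⁻¹), i1, one_mul,
      mul_assoc, ← mul_assoc (σ t' - 1), ← pow_two, t2, zero_mul, mul_zero]
  · obtain ⟨y, hy⟩ := hs (-u2 (Multiplicative.ofAdd 1))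
    have pw : ∀ k : ℕ, σ (y ^ k) = (-1 : ZMod p) ^ k • !![1, (k : ZMod p); 0, 1] := fun k => by
      change (σ' (y ^ k)).1 = _
      rw [map_pow, hy, Matrix.SpecialLinearGroup.coe_pow, Matrix.SpecialLinearGroup.coe_neg,
        ← neg_one_smul (ZMod p), smul_pow, ← Matrix.SpecialLinearGroup.coe_pow, ← map_pow,
        ← ofAdd_nsmul, nsmul_one, u2_coe]
    have hd : p ∣ orderOf y := by
      have := pw (orderOf y)
      rw [pow_orderOf_eq_one, map_one] at this
      have := congrFun (congrFun this 0) 1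
      simp at this
      exact (ZMod.natCast_eq_zero_iff _ _).1 this
    obtain ⟨a, ⟨k, rfl⟩, ha⟩ := exists_orderOf_eq_of_dvd_card (H := zpowers y) hp.out
      (by rwa [Nat.card_zpowers])
    have haA : y ^ k ∈ A := (hA _).2 (by rw [← ha, pow_orderOf_eq_one])
    have := hσ (y ^ p) ⟨_, haA⟩
    rw [pw, (hp.out.odd_of_ne_two h2).neg_one_pow, ZMod.natCast_self, ← one_fin_two, neg_smul,
      one_smul, neg_mulVec, one_mulVec] at this
    have e2 : (⟨y ^ p * y ^ k * (y ^ p)⁻¹, (ch (MulAut.conj (y ^ p)) _).1 haA⟩ : A) = ⟨_, haA⟩ :=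
      Subtype.ext (by group)
    rw [e2, eq_neg_iff_add_eq_zero, ← ea, ← e1, e.apply_eq_iff_eq] at this
    have := orderOf_dvd_of_pow_eq_one (x := y ^ k) (n := 2) (by
      rw [pow_two]; exact congrArg Subtype.val this)
    have ha : orderOf (y ^ k) = p := ha
    rw [ha] at this
    have := Nat.le_of_dvd two_pos this
    omega

/-- A nontrivial normal `p`-subgroup forces the elements of order `p` to be central. -/
theorem central_of_normal (hX : Hom X) [Group.IsPerfect X] {p : ℕ} [hp : Fact p.Prime]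
    {N : Subgroup X} [N.Normal] (hN : IsPGroup p N) (h1 : N ≠ ⊥) (x : X) (hx : x ^ p = 1) :
    x ∈ center X := by
  obtain ⟨P⟩ : Nonempty (Sylow p X) := inferInstance
  obtain ⟨⟨b, hb⟩, -, -, bo⟩ := H3.exists_mem_center_orderOf_eq hN ⊤ (by
    have := (nontrivial_iff_ne_bot N).2 h1
    exact top_ne_bot)
  rw [orderOf_mk] at bo
  have hP : ∀ y : X, y ^ p = 1 → y ∈ (P : Subgroup X) := fun y hy => by
    by_cases y1 : y = 1
    · rw [y1]; exact one_mem _
    obtain ⟨φ, rfl⟩ := hX.of_order (bo.trans (orderOf_eq_prime hy y1).symm)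
    have := Normal.map ‹N.Normal› φ.toMonoidHom φ.surjective
    exact (hN.map φ.toMonoidHom).le_sylow_of_normal P ⟨b, hb, rfl⟩
  obtain ⟨⟨z, hz⟩, -, zc, zo⟩ := H3.exists_mem_center_orderOf_eq P.isPGroup' ⊤ (by
    have : Nontrivial (P : Subgroup X) := ⟨⟨⟨b, hP b (by rw [← bo, pow_orderOf_eq_one])⟩, 1,
      fun e => hp.out.ne_one (by rw [← bo, show b = 1 from congrArg Subtype.val e, orderOf_one])⟩⟩
    exact top_ne_bot)
  rw [orderOf_mk] at zo
  have cm : ∀ u v : X, u ^ p = 1 → v ^ p = 1 → Commute u v := fun u v hu hv => by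
    by_cases u1 : u = 1
    · rw [u1]; exact Commute.one_left v
    obtain ⟨φ, rfl⟩ := hX.of_order (zo.trans (orderOf_eq_prime hu u1).symm)
    obtain ⟨v, rfl⟩ := φ.surjective v
    rw [← map_pow, EmbeddingLike.map_eq_one_iff] at hv
    exact Commute.map (congrArg Subtype.val (mem_center_iff.1 zc ⟨v, hP v hv⟩)).symm φ
  let A : Subgroup X :=
    { carrier := {x | x ^ p = 1}
      one_mem' := one_pow p
      mul_mem' := fun {u v} hu hv => by
        change (u * v) ^ p = 1
        rw [(cm u v hu hv).mul_pow, hu, hv, mul_one]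
      inv_mem' := fun {u} hu => by
        change u⁻¹ ^ p = 1
        rw [inv_pow, hu, inv_one] }
  exact central_of_omega hX (A := A) (fun _ => Iff.rfl) (fun a ha b hb => cm a b ha hb) hx

end Cfsg.Agent.H20.Hm
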