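import Cfsg.Agent.H20.Product

/-! The permutability lemma of Wielandt and Kegel: subgroups `A`, `B` such that `A` permutes with
every conjugate of `B`. -/

set_option autoImplicit false

namespace Cfsg.Agent.H20

open Subgroup Cfsg.Agent.H49

variable {G : Type*} [Group G]

theorem isProd_sup_of_swap {J B : Subgroup G}
    (h : ∀ j ∈ J, ∀ b ∈ B, ∃ j' ∈ J, ∃ b' ∈ B, b * j = j' * b') : IsProd J B (J ⊔ B) := by
  let S : Subgroup G :=
    { carrier := {g | ∃ j ∈ J, ∃ b ∈ B, g = j * b}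
      one_mem' := ⟨1, J.one_mem, 1, B.one_mem, by simp⟩
      mul_mem' := by
        rintro _ _ ⟨j, hj, b, hb, rfl⟩ ⟨j₁, hj₁, b₁, hb₁, rfl⟩
        obtain ⟨j', hj', b', hb', e⟩ := h j₁ hj₁ b hb
        refine ⟨j * j', J.mul_mem hj hj', b' * b₁, B.mul_mem hb' hb₁, ?_⟩
        calc j * b * (j₁ * b₁) = j * (b * j₁) * b₁ := by group
          _ = _ := by rw [e]; group
      inv_mem' := by
        rintro _ ⟨j, hj, b, hb, rfl⟩
        obtain ⟨j', hj', b', hb', e⟩ := h j⁻¹ (J.inv_mem hj) b⁻¹ (B.inv_mem hb)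
        exact ⟨j', hj', b', hb', by rw [mul_inv_rev, e]⟩ }
  have : J ⊔ B ≤ S := sup_le (fun j hj => ⟨j, hj, 1, B.one_mem, by simp⟩)
    (fun b hb => ⟨1, J.one_mem, b, hb, by simp⟩)
  exact ⟨le_sup_left, le_sup_right, fun m hm => this hm⟩

/-- A join of subgroups permuting with `B` permutes with `B`. -/
theorem isProd_iSup {ι : Sort*} {A : ι → Subgroup G} {B : Subgroup G}
    (h : ∀ i, IsProd (A i) B (A i ⊔ B)) : IsProd (⨆ i, A i) B ((⨆ i, A i) ⊔ B) := by
  apply isProd_sup_of_swap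
  intro j hj
  induction hj using iSup_induction' with
  | hp i x hx =>
    intro b hb
    obtain ⟨a, ha, b', hb', e⟩ := (h i).2.2 (b * x) (mul_mem (mem_sup_right hb) (mem_sup_left hx))
    exact ⟨a, mem_iSup_of_mem i ha, b', hb', e⟩
  | h1 => exact fun b hb => ⟨1, one_mem _, b, hb, by simp⟩
  | hmul x y _ _ ihx ihy =>
    intro b hb
    obtain ⟨x', hx', b₁, hb₁, e₁⟩ := ihx b hb
    obtain ⟨y', hy', b₂, hb₂, e₂⟩ := ihy b₁ hb₁
    refine ⟨x' * y', mul_mem hx' hy', b₂, hb₂, ?_⟩
    rw [← mul_assoc, e₁, mul_assoc, e₂, mul_assoc]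

theorem isProd_sup_sup {A₁ A₂ B : Subgroup G} (h₁ : IsProd A₁ B (A₁ ⊔ B))
    (h₂ : IsProd A₂ B (A₂ ⊔ B)) : IsProd (A₁ ⊔ A₂) B (A₁ ⊔ A₂ ⊔ B) := by
  rw [sup_eq_iSup A₁ A₂]
  apply isProd_iSup
  rintro (_ | _)
  · exact h₂
  · exact h₁

/-- The normal closure of `A` under `M`. -/
def ncl (M A : Subgroup G) : Subgroup G := ⨆ g : M, cj (g : G) A

theorem cj_le_ncl {M : Subgroup G} (A : Subgroup G) {g : G} (hg : g ∈ M) : cj g A ≤ ncl M A :=
  le_iSup (fun g : M => cj (g : G) A) ⟨g, hg⟩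

theorem le_ncl (M A : Subgroup G) : A ≤ ncl M A := by simpa using cj_le_ncl A M.one_mem

theorem ncl_le_iff {M A N : Subgroup G} : ncl M A ≤ N ↔ ∀ g ∈ M, cj g A ≤ N :=
  ⟨fun h _ hg => (cj_le_ncl A hg).trans h, fun h => iSup_le fun g => h g g.2⟩

theorem ncl_le {M A N : Subgroup G} (h : A ≤ N) (hn : M ≤ 𝒩(N)) : ncl M A ≤ N :=
  ncl_le_iff.2 fun _ hg => cj_le_of_mem_norm h (hn hg)

theorem ncl_le_self {M A : Subgroup G} (h : A ≤ M) : ncl M A ≤ M := ncl_le h le_normalizer

theorem norm_ncl (M A : Subgroup G) : M ≤ 𝒩(ncl M A) := by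
  have key : ∀ g ∈ M, cj g (ncl M A) ≤ ncl M A := by
    intro g hg
    rw [cj_le_iff, ncl_le_iff]
    intro x hx
    rw [← cj_le_iff, cj_cj]
    exact cj_le_ncl A (M.mul_mem hg hx)
  apply le_norm_of_cj
  intro g hg
  apply le_antisymm (key g hg)
  rw [le_cj_iff]
  exact key _ (M.inv_mem hg)

theorem ncl_mono {M A B : Subgroup G} (h : A ≤ B) : ncl M A ≤ ncl M B :=
  ncl_le (h.trans (le_ncl M B)) (norm_ncl M B)

theorem ncl_cj {M : Subgroup G} (A : Subgroup G) {g : G} (hg : g ∈ M) :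
    ncl M (cj g A) = ncl M A := by
  apply le_antisymm (ncl_le (cj_le_ncl A hg) (norm_ncl M A))
  refine ncl_le ?_ (norm_ncl M _)
  simpa using cj_le_ncl (cj g A) (M.inv_mem hg)

theorem ncl_top_normal (A : Subgroup G) : (ncl ⊤ A).Normal :=
  normal_iff_top_le_norm.2 (norm_ncl ⊤ A)

theorem ncl_top_eq (A : Subgroup G) : ncl ⊤ A = normalClosure (A : Set G) := by
  have := ncl_top_normal A
  exact le_antisymm (ncl_le le_normalClosure le_normalizer_of_normal)
    (normalClosure_le_normal (le_ncl ⊤ A))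

theorem perm_cj_left {M A B : Subgroup G} (h : ∀ g ∈ M, IsProd A (cj g B) (A ⊔ cj g B)) {x g : G}
    (hx : x ∈ M) (hg : g ∈ M) : IsProd (cj x A) (cj g B) (cj x A ⊔ cj g B) := by
  have := (h (x⁻¹ * g) (M.mul_mem (M.inv_mem hx) hg)).cj x
  rwa [cj_sup, cj_cj, mul_inv_cancel_left] at this

/-- Wielandt–Kegel: if `A` permutes with all `M`-conjugates of `B` and `M = A B^M = A^M B`, then
`M = AB`. -/
theorem sup_eq_of_perm [Finite G] {M : Subgroup G} (A : Subgroup G) : ∀ B : Subgroup G, A ≤ M →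
    B ≤ M → (∀ g ∈ M, IsProd A (cj g B) (A ⊔ cj g B)) → A ⊔ ncl M B = M → ncl M A ⊔ B = M →
    A ⊔ B = M := by
  induction A using WellFoundedGT.induction with
  | ind A ih =>
    intro B hA hB h h1 h2
    by_contra hne
    have key : ncl M B ≤ 𝒩(A) := by
      rw [ncl_le_iff]
      intro y hy x hx
      by_contra hxA
      have hxM : x ∈ M := cj_le_of_mem hB hy hx
      have hlt : A < A ⊔ cj x A := by
        refine lt_of_le_of_ne le_sup_left fun e => hxA (mem_norm_of_cj_le ?_)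
        rw [e]; exact le_sup_right.trans (le_of_eq (by rw [← e, ← e]))
      have h3 := ih _ hlt (cj y B) (sup_le hA (cj_le_of_mem hA hxM)) (cj_le_of_mem hB hy)
        (fun g hg => by
          rw [cj_cj]
          exact isProd_sup_sup (h _ (M.mul_mem hg hy)) (perm_cj_left h hxM (M.mul_mem hg hy)))
        (by
          rw [ncl_cj B hy]
          exact le_antisymm (sup_le (sup_le hA (cj_le_of_mem hA hxM)) (ncl_le_self hB))
            (h1.ge.trans (sup_le_sup_right le_sup_left _)))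
        (by
          apply le_antisymm (sup_le (ncl_le_self (sup_le hA (cj_le_of_mem hA hxM)))
            (cj_le_of_mem hB hy))
          have : cj y (ncl M A ⊔ B) = M := by rw [h2, cj_eq_of_mem hy]
          rw [cj_sup, cj_eq_of_mem_norm (norm_ncl M A hy)] at this
          exact this.ge.trans (sup_le_sup_right (ncl_mono le_sup_left) _))
      have h4 : A ⊔ cj y B = M := by
        apply le_antisymm (sup_le hA (cj_le_of_mem hB hy))
        rw [← h3]
        exact sup_le (sup_le le_sup_left (cj_le_of_mem le_sup_left (mem_sup_right hx))) le_sup_right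
      have h5 := h y hy
      rw [h4] at h5
      have h6 := isProd_cj_cj h5 M.one_mem (M.inv_mem hy)
      rw [cj_one, cj_inv_cj] at h6
      exact hne h6.sup_eq
    have h7 : M ≤ 𝒩(A) := h1.ge.trans (sup_le le_normalizer key)
    rw [le_antisymm (ncl_le le_rfl h7) (le_ncl M A)] at h2
    exact hne h2

/-- If the `π`-subgroup `A` permutes with all `M`-conjugates of the `π`-subgroup `B` then
`[A, B] ≤ O_π(M)`. -/
theorem commutator_le_pcore_of_perm [Finite G] {π : Set ℕ} {A B : Subgroup G} (hA : IsPi π A)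
    (hB : IsPi π B) (M : Subgroup G) : A ≤ M → B ≤ M →
    (∀ g ∈ M, IsProd A (cj g B) (A ⊔ cj g B)) → ⁅A, B⁆ ≤ piCoreOf π M := by
  induction M using WellFoundedLT.induction with
  | ind M ih =>
    intro hAM hBM h
    by_cases h1 : A ⊔ ncl M B = M
    · by_cases h2 : ncl M A ⊔ B = M
      · have h3 := sup_eq_of_perm A B hAM hBM h h1 h2
        have h4 := h 1 M.one_mem
        rw [cj_one, h3] at h4
        exact ((commutator_le_sup A B).trans h3.le).trans
          (H48.le_pcore le_rfl le_normalizer (hA.of_isProd hB h4))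
      · have hlt : ncl M A ⊔ B < M := lt_of_le_of_ne (sup_le (ncl_le_self hAM) hBM) h2
        have h3 := ih _ hlt ((le_ncl M A).trans le_sup_left) le_sup_right
          (fun g hg => h g (hlt.le hg))
        have h4 : ⁅A, B⁆ ≤ ncl M A := (commutator_mono (le_ncl M A) le_rfl).trans
          (commutator_le_left_of_norm (hBM.trans (norm_ncl M A)))
        exact ((le_inf h3 h4).trans (H48.pcore_inf_le π le_sup_left)).trans
          (H48.pcore_le_pcore_of_norm π (ncl_le_self hAM) (norm_ncl M A))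
    · have hlt : A ⊔ ncl M B < M := lt_of_le_of_ne (sup_le hAM (ncl_le_self hBM)) h1
      have h3 := ih _ hlt le_sup_left ((le_ncl M B).trans le_sup_right)
        (fun g hg => h g (hlt.le hg))
      have h4 : ⁅A, B⁆ ≤ ncl M B := (commutator_mono le_rfl (le_ncl M B)).trans
        (commutator_le_right_of_norm (hAM.trans (norm_ncl M B)))
      exact ((le_inf h3 h4).trans (H48.pcore_inf_le π le_sup_right)).trans
        (H48.pcore_le_pcore_of_norm π (ncl_le_self hBM) (norm_ncl M B))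

/-- Kegel: if `A` permutes with every conjugate of `B` and `AB ≠ G`, a proper normal subgroup
contains `A` or `B`. -/
theorem exists_normal_of_perm [Finite G] {A B : Subgroup G}
    (h : ∀ g : G, IsProd A (cj g B) (A ⊔ cj g B)) (hne : A ⊔ B ≠ ⊤) :
    ∃ N : Subgroup G, N.Normal ∧ N ≠ ⊤ ∧ (A ≤ N ∨ B ≤ N) := by
  by_cases h1 : ncl ⊤ A = ⊤
  · by_cases h2 : ncl ⊤ B = ⊤
    · exact absurd (sup_eq_of_perm A B le_top le_top (fun g _ => h g) (by simp [h2])
        (by simp [h1])) hne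
    · exact ⟨_, ncl_top_normal B, h2, Or.inr (le_ncl _ _)⟩
  · exact ⟨_, ncl_top_normal A, h1, Or.inl (le_ncl _ _)⟩

/-- In `M = HK`, permuting subgroups normalized by the factors permute with all conjugates. -/
theorem perm_cj_of_norm {H K M A B : Subgroup G} (h : IsProd H K M) (hA : H ≤ 𝒩(A))
    (hB : K ≤ 𝒩(B)) (hAB : IsProd A B (A ⊔ B)) {g : G} (hg : g ∈ M) :
    IsProd A (cj g B) (A ⊔ cj g B) := by
  obtain ⟨x, -, h1, h2⟩ := exists_cj_pair h M.one_mem hg
  have := hAB.cj x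
  rwa [cj_sup, ← h1 A hA, ← h2 B hB, cj_one] at this

end Cfsg.Agent.H20
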