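import Cfsg.Agent.GOLD.Pump
import Cfsg.Agent.H50.Omega
import Cfsg.Agent.H66.PSL2Cent

/-!
Abelian 2-subgroups `B` such that every conjugate of `B` lies in `B Y` for a `B`-invariant
subgroup `Y` of odd order: the elementary facts.
-/

set_option autoImplicit false
set_option linter.unusedSectionVars false

namespace Cfsg.Agent.H20

open Cfsg Cfsg.Agent.H49 Cfsg.Agent.H82G Cfsg.Agent.GOLD Subgroup

universe u

variable {G : Type u} [Group G] [Finite G]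

/-- Every `M`-conjugate of `B` lies in `B Y`, `Y` of odd order normalized by `B`. -/
def NC (M B : Subgroup G) : Prop :=
  ∀ g ∈ M, ∃ Y : Subgroup G, Y ≤ M ∧ Od Y ∧ B ≤ 𝒩(Y) ∧ cj g B ≤ B ⊔ Y

theorem syl_sup_od {B Y : Subgroup G} (hB : IsPGroup 2 B) (hY : Od Y) (hn : B ≤ 𝒩(Y)) :
    IsSylowOf 2 B (B ⊔ Y) := by
  refine (sylowOf_iff Nat.prime_two).2 ⟨le_sup_left, hB, fun h => od_not_dvd hY ?_⟩
  rw [sup_comm, relIndex_sup_of_norm (Or.inr hn)] at h
  exact h.trans (relIndex_dvd_card _ _)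

theorem NC.ex {M B : Subgroup G} (h : NC M B) (hB : IsPGroup 2 B) {g : G} (hg : g ∈ M) :
    ∃ Y : Subgroup G, Y ≤ M ∧ Od Y ∧ B ≤ 𝒩(Y) ∧ ∃ n ∈ Y, n * g ∈ 𝒩(B) := by
  obtain ⟨Y, h1, h2, h3, h4⟩ := h g hg
  have hp : IsPGroup 2 (cj g B) := isPGroup_cj.2 hB
  obtain ⟨n, hn, e⟩ := sz_subJ (h4.trans (sup_le h3 le_normalizer)) (od_cop h2 hp)
    (Or.inl (pg_solv hp)) h3 (by rwa [sup_comm])
  exact ⟨Y, h1, h2, h3, n, hn, mem_norm_of_cj_le (by rwa [cj_mul])⟩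

theorem cj_le_sup_of {B Y : Subgroup G} {n g : G} (hn : n ∈ Y) (h : n * g ∈ 𝒩(B)) :
    cj g B ≤ B ⊔ Y := by
  rw [show g = n⁻¹ * (n * g) by group, cj_mul, cj_eq_of_mem_norm h]
  exact cj_le_of_mem le_sup_left (mem_sup_right (inv_mem hn))

theorem NC.mono {M M' B : Subgroup G} (h : NC M B) (h1 : B ≤ M') (h2 : M' ≤ M) : NC M' B := by
  intro g hg
  obtain ⟨Y, -, h4, h5, h6⟩ := h g (h2 hg)
  refine ⟨Y ⊓ M', inf_le_right, od_le h4 inf_le_left, norm_inf h5 (norm_of_le h1), ?_⟩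
  rw [← modular_left (Or.inl h5) h1]
  exact le_inf h6 (cj_le_of_mem h1 hg)

theorem NC.char {M B B₀ : Subgroup G} (h : NC M B) (hB : IsPGroup 2 B) (h1 : B₀ ≤ B)
    (h2 : M ⊓ 𝒩(B) ≤ 𝒩(B₀)) : NC M B₀ := by
  intro g hg
  obtain ⟨Y, h3, h4, h5, n, hn, h6⟩ := h.ex hB hg
  exact ⟨Y, h3, h4, h1.trans h5, cj_le_sup_of hn (h2 ⟨mul_mem (h3 hn) hg, h6⟩)⟩

theorem NC.inf {M B N : Subgroup G} (h : NC M B) (hB : IsPGroup 2 B) (h1 : B ≤ M) (h2 : N ≤ M)
    (h3 : B ≤ 𝒩(N)) : NC N (B ⊓ N) := by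
  intro g hg
  obtain ⟨Y, h4, h5, h6, n, hn, h7⟩ :=
    (h.mono le_sup_left (sup_le h1 h2)).ex hB (mem_sup_right hg)
  have h8 : Y ≤ N := od_inf_le_of_norm hB h3 h5 h4
  refine ⟨Y, h8, h5, inf_le_left.trans h6, cj_le_sup_of hn ?_⟩
  exact norm_inf (A := zpowers (n * g)) (zpowers_le.2 h7)
    (norm_of_le (zpowers_le.2 (mul_mem (h8 hn) hg))) (mem_zpowers _)

theorem NC.mem {M B T : Subgroup G} (h : NC M B) (hB : IsPGroup 2 B) (h1 : B ≤ T)
    (hT : IsPGroup 2 T) {x g : G} (hx : x ∈ B) (hg : g ∈ M) (h2 : g * x * g⁻¹ ∈ T) :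
    g * x * g⁻¹ ∈ B := by
  obtain ⟨Y, -, h4, h5, h6⟩ := h g hg
  rw [syl_eq_of_le (syl_sup_od hB h4 h5) (le_inf h1 le_sup_left) inf_le_right
    (hT.to_le inf_le_left)]
  exact ⟨h2, h6 (conj_mem_cj.2 hx)⟩

theorem NC.sc {M B : Subgroup G} (h : NC M B) (hB : IsPGroup 2 B) (h1 : B ≤ M) : SC M B :=
  ⟨h1, hB, fun _ h2 _ h3 _ hx _ hg h4 => h.mem hB h2 h3 hx hg h4⟩

theorem NC.map {G' : Type u} [Group G'] [Finite G'] (f : G →* G') {M B : Subgroup G}
    (h : NC M B) : NC (M.map f) (B.map f) := by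
  rintro _ ⟨g, hg, rfl⟩
  obtain ⟨Y, h3, h4, h5, h6⟩ := h g hg
  refine ⟨Y.map f, map_mono h3, H44.coprime_map _ h4,
    (map_mono h5).trans (le_normalizer_map f), ?_⟩
  rw [← map_cj, ← Subgroup.map_sup]
  exact map_mono h6

theorem NC.subgroupOf {M B : Subgroup G} (h : NC M B) (hB : B ≤ M) : NC ⊤ (B.subgroupOf M) := by
  intro g _
  obtain ⟨Y, h3, h4, h5, h6⟩ := h g g.2
  refine ⟨Y.subgroupOf M, le_top, by rwa [Od, card_subgroupOf_of_le h3], ?_, ?_⟩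
  · exact le_norm_iff.2 fun a ha x hx => conj_mem_of_norm h5 ha hx
  · rw [← map_le_map_iff_of_injective M.subtype_injective, map_subtype_cj, Subgroup.map_sup,
      map_subgroupOf_eq_of_le hB, map_subgroupOf_eq_of_le h3]
    exact h6

theorem exists_abelian_char (n : ℕ) : ∀ Y : Subgroup G, Nat.card Y = n → Group.IsSolvable Y →
    Y ≠ ⊥ → ∃ R : Subgroup G, R ≤ Y ∧ R ≠ ⊥ ∧ IsMulCommutative R ∧ 𝒩(Y) ≤ 𝒩(R) := by
  induction n using Nat.strong_induction_on with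
  | _ n ih =>
  intro Y hn hs hY
  by_cases h : ⁅Y, Y⁆ = ⊥
  · exact ⟨Y, le_rfl, hY, abelian_iff.2 (commutator_eq_bot_iff.1 h), le_rfl⟩
  · obtain ⟨R, h1, h2, h3, h4⟩ := ih _ (hn ▸ card_lt_of_lt (der_lt_of_solvable hs hY)) _ rfl
      (solvable_of_le hs der_le) h
    exact ⟨R, h1.trans der_le, h2, h3, (norm_commutator le_rfl le_rfl).trans h4⟩

/-- Centralizers of nontrivial elements of odd order are abelian with at most one involution. -/
def CAo (G : Type*) [Group G] : Prop :=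
  ∀ y : G, y ≠ 1 → Odd (orderOf y) → (∀ a b : G, a * y = y * a → b * y = y * b → a * b = b * a) ∧
    ∀ a b : G, a * y = y * a → b * y = y * b → a * a = 1 → b * b = 1 → a ≠ 1 → b ≠ 1 → a = b

theorem CAo.of_equiv {G G' : Type*} [Group G] [Group G'] (e : G ≃* G') (h : CAo G') : CAo G := by
  intro y hy ho
  obtain ⟨h1, h2⟩ := h (e y) (by simpa using hy) (by rwa [MulEquiv.orderOf_eq])
  refine ⟨fun a b ha hb => e.injective ?_, fun a b ha hb ha2 hb2 ha1 hb1 => e.injective ?_⟩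
  · rw [map_mul, map_mul]
    exact h1 _ _ (by rw [← map_mul, ha, map_mul]) (by rw [← map_mul, hb, map_mul])
  · exact h2 _ _ (by rw [← map_mul, ha, map_mul]) (by rw [← map_mul, hb, map_mul])
      (by rw [← map_mul, ha2, map_one]) (by rw [← map_mul, hb2, map_one]) (by simpa using ha1)
      (by simpa using hb1)

theorem cao_psl2 {F : Type*} [Field F] [Fintype F] (hF : Odd (Fintype.card F)) :
    CAo (Matrix.ProjectiveSpecialLinearGroup (Fin 2) F) := by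
  have h2 : (2 : F) ≠ 0 := fun e => by
    have := (FiniteField.even_card_iff_char_two (F := F)).1
      (CharP.ringChar_of_prime_eq_zero Nat.prime_two (by exact_mod_cast e))
    obtain ⟨k, hk⟩ := hF
    omega
  intro y hy ho
  obtain ⟨g, rfl⟩ := H66.toPSL_surjective y
  have hg : H66.NonSc g.1 := by
    rw [Ne, H66.toPSL_eq_one_iff, not_or] at hy
    exact (H66.nonSc_iff g).2 hy
  have h0 : H66.tr2 g ≠ 0 := fun e => by
    have h3 : H66.toPSL F g ^ 2 = 1 := by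
      rw [sq, ← map_mul, H66.toPSL_eq_one_iff, H66.mul_self_of_tr2_eq_zero e]
      exact Or.inr rfl
    have h4 := orderOf_eq_prime h3 hy
    rw [h4] at ho
    exact absurd ho (by decide)
  have key : ∀ a, H66.toPSL F a * H66.toPSL F g = H66.toPSL F g * H66.toPSL F a →
      a.1 * g.1 = g.1 * a.1 := fun a ha => by
    rw [← H66.mem_centralizer_singleton_sl, ← H66.comap_centralizer_psl_of_ne (Or.inr h0)]
    exact mem_cent1.2 ha
  have key2 : ∀ a b, H66.toPSL F a * H66.toPSL F g = H66.toPSL F g * H66.toPSL F a →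
      H66.toPSL F b * H66.toPSL F g = H66.toPSL F g * H66.toPSL F b → a * b = b * a :=
    fun a b ha hb => Subtype.ext (H66.commute_of_commute_nonSc hg (key a ha) (key b hb))
  refine ⟨fun a b ha hb => ?_, fun a b ha hb ha2 hb2 ha1 hb1 => ?_⟩
  · obtain ⟨a, rfl⟩ := H66.toPSL_surjective a
    obtain ⟨b, rfl⟩ := H66.toPSL_surjective b
    rw [← map_mul, key2 a b ha hb, map_mul]
  · obtain ⟨a, rfl⟩ := H66.toPSL_surjective a
    obtain ⟨b, rfl⟩ := H66.toPSL_surjective b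
    have sq : ∀ a, H66.toPSL F a * H66.toPSL F a = 1 → H66.toPSL F a ≠ 1 → a * a = -1 :=
      fun a h h1 => by
        rw [← map_mul, H66.toPSL_eq_one_iff] at h
        rw [Ne, H66.toPSL_eq_one_iff] at h1
        exact h.resolve_left fun e => h1 ((H66.mul_self_eq_one_iff a h2).1 e)
    have h5 : (a * b) * (a * b) = 1 := by
      rw [mul_assoc, ← mul_assoc b, ← key2 a b ha hb, mul_assoc, sq b hb2 hb1, ← mul_assoc,
        sq a ha2 ha1]
      simp
    have h6 : H66.toPSL F (a * b) = 1 :=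
      (H66.toPSL_eq_one_iff _).2 ((H66.mul_self_eq_one_iff _ h2).1 h5)
    rw [map_mul] at h6
    rw [eq_inv_of_mul_eq_one_left h6, inv_eq_of_mul_eq_one_left hb2]

/-- With abelian centralizers of elements of odd order, a subgroup of odd order normalized by a
non-cyclic elementary abelian 2-group is centralized by one of its involutions. -/
theorem CAo.exists_cent (h : CAo G) {A Y : Subgroup G} (hA : EA A) (hnc : ¬ IsCyclic A)
    (hY : Od Y) (hn : A ≤ 𝒩(Y)) : ∃ a ∈ A, a ≠ 1 ∧ Y ≤ 𝒞[a] := by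
  by_cases hY1 : Y = ⊥
  · have : A ≠ ⊥ := fun e => hnc (e ▸ inferInstance)
    obtain ⟨a, ha, ha1⟩ := ne_bot_iff_exists.1 this
    exact ⟨a, ha, ha1, hY1 ▸ bot_le⟩
  obtain ⟨R, h1, h2, h3, h4⟩ := exists_abelian_char _ Y rfl (od_solv hY) hY1
  have h5 : ∃ a ∈ A, a ≠ 1 ∧ ¬ R ⊓ 𝒞[a] ≤ ⊥ := by
    by_contra hc
    push Not at hc
    exact h2 (le_bot_iff.1 (coprime_le_of_cent1 hA.1 hnc (hn.trans h4)
      (od_cop (od_le hY h1) (ea_pg hA)) hc))
  obtain ⟨a, ha, ha1, h6⟩ := h5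
  obtain ⟨y, ⟨hyR, hya⟩, hy1⟩ := ne_bot_iff_exists.1 (fun e => h6 e.le)
  obtain ⟨c1, c2⟩ := h y hy1 (od_zpowers.1 (od_le hY (zpowers_le.2 (h1 hyR))))
  have hay : a * y = y * a := (mem_cent1.1 hya).symm
  have hR : ∀ r ∈ R, a * r = r * a := fun r hr =>
    c1 a r hay (H50.mul_comm_of_abelian h3 hr hyR)
  refine ⟨a, ha, ha1, fun g hg => mem_cent1.2 (mul_inv_eq_iff_eq_mul.1 (c2 _ _ ?_ hay ?_
    (ea_sq hA ha) (fun e => ha1 (by simpa using e)) ha1))⟩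
  · have := hR _ (conj_mem_of_norm' (le_normalizer.trans h4) hg hyR)
    calc g * a * g⁻¹ * y = g * (a * (g⁻¹ * y * g)) * g⁻¹ := by group
      _ = y * (g * a * g⁻¹) := by rw [this]; group
  · calc g * a * g⁻¹ * (g * a * g⁻¹) = g * (a * a) * g⁻¹ := by group
      _ = 1 := by rw [ea_sq hA ha]; group

end Cfsg.Agent.H20
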