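import Cfsg.Agent.H20.NilCl
import Cfsg.Agent.GOLD.Main
import Cfsg.Agent.GOLD.GW4

/-!
An abelian 2-subgroup `B` all of whose conjugates lie in some `B Y`, `Y` of odd order, is normal
modulo the core.
-/

set_option autoImplicit false
set_option linter.unusedSectionVars false

namespace Cfsg.Agent.H20

open Cfsg Cfsg.Agent.H49 Cfsg.Agent.H82G Cfsg.Agent.GOLD Subgroup

universe u

variable {G : Type u} [Group G] [Finite G]

def NCIH (n : ℕ) : Prop :=
  ∀ (L : Type u) [Group L] [Finite L], Nat.card L < n → ∀ B : Subgroup L, IsPGroup 2 B →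
    IsMulCommutative B → NC ⊤ B → (B ⊔ pPrimeCore 2 L).Normal

theorem NCIH.amb {n : ℕ} (ih : NCIH.{u} n) {M B : Subgroup G} (hn : Nat.card M < n) (h1 : B ≤ M)
    (hB : IsPGroup 2 B) (hc : IsMulCommutative B) (h : NC M B) : M ≤ 𝒩(B ⊔ O M) := by
  have := ih M hn (B.subgroupOf M) (hB.comap_of_injective _ M.subtype_injective)
    (inferInstanceAs (IsMulCommutative (B.subgroupOf M))) (h.subgroupOf h1)
  have h2 := norm_map_subtype (B.subgroupOf M ⊔ pPrimeCore 2 M)
  rwa [Subgroup.map_sup, map_subgroupOf_eq_of_le h1] at h2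

theorem not_normal_of_simple [IsSimpleGroup G] (hG : ¬ IsMulCommutative G) {A : Subgroup G}
    (hA : IsMulCommutative A) (hne : A ≠ ⊥) : ¬ ⊤ ≤ 𝒩(A) := fun h => by
  rcases (normal_iff_top_le_norm.2 h).eq_bot_or_eq_top with e | e
  · exact hne e
  · exact hG ⟨⟨fun x y => H50.mul_comm_of_abelian hA (e ▸ mem_top x) (e ▸ mem_top y)⟩⟩

theorem not_nc_simple [IsSimpleGroup G] (hG : ¬ IsMulCommutative G)
    (ih : NCIH.{u} (Nat.card G)) {A : Subgroup G} (hA : EA A) (hne : A ≠ ⊥) : ¬ NC ⊤ A := by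
  intro h
  have hp := ea_pg hA
  have hsc : SC ⊤ A := h.sc hp le_top
  have hmove : ∀ a ∈ A, a ≠ 1 → ∃ b ∈ A, b ≠ 1 ∧ b ≠ a := fun a ha ha1 => by
    obtain ⟨n, hn, e⟩ := exists_move hG hsc hA ha ha1
    exact ⟨_, conj_mem_of_norm le_rfl hn ha, fun e => ha1 (by simpa using e), e⟩
  have hnc : ¬ IsCyclic A := fun hc => by
    obtain ⟨a, ha, ha1⟩ := ne_bot_iff_exists.1 hne
    obtain ⟨b, hb, hb1, hba⟩ := hmove a ha ha1
    obtain ⟨⟨x, hx⟩, hx'⟩ := hc.exists_generator
    have key : ∀ c ∈ A, c ≠ 1 → c = x := fun c hc hc1 => by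
      obtain ⟨k, hk⟩ := hx' ⟨c, hc⟩
      exact (H82G.mem_zpowers_inv (H82G.ea_sq hA hx) ⟨k, congrArg Subtype.val hk⟩).resolve_left hc1
    exact hba ((key b hb hb1).trans (key a ha ha1).symm)
  by_cases hse : ∃ H : Subgroup G, IsStronglyEmbedded H
  · obtain ⟨H, hH⟩ := hse
    obtain ⟨S, hS⟩ := hp.exists_le_sylow
    refine not_normal_of_simple hG hA.1 hne fun g _ => ?_
    obtain ⟨Y, -, h1, h2, n, hn, h3⟩ := h.ex hp (mem_top g)
    have h4 : Y ≤ 𝒩(A) := coprime_le_of_cent1 hA.1 hnc h2 (od_cop h1 hp) fun a ha ha1 x hx =>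
      hsc.le_norm hS le_top S.isPGroup' ⟨mem_top x, by_contra fun hn => ha1 (mem_bot.1 (by
        rw [← ti_of_se hG hH S x hn]
        exact ⟨hS ha, mem_cj.2 (by rw [mul_assoc, ← mem_cent1.1 hx.2, inv_mul_cancel_left]
                                   exact hS ha)⟩))⟩
    simpa using mul_mem (inv_mem (h4 hn)) h3
  obtain ⟨hS, h4 | h8⟩ := (main hG hsc hA hne).resolve_left hse
  · have hO : oddCore (⊤ : Subgroup G) = ⊥ := by
      have h1 : O (⊤ : Subgroup G) = ⊥ := by
        refine (normal_iff_top_le_norm.2 (le_norm_O ⊤)).eq_bot_or_eq_top.resolve_right fun e => ?_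
        exact hne (le_bot_iff.1 ((le_inf le_rfl (le_top.trans e.ge)).trans (od_inf (od_O ⊤) hp).le))
      exact (Subgroup.map_eq_bot_iff_of_injective _ (subtype_injective _)).1 h1
    have hJ : ⁅(⊤ : Subgroup G), (⊤ : Subgroup G)⁆ = ⊤ :=
      (inferInstance : (⁅(⊤ : Subgroup G), (⊤ : Subgroup G)⁆).Normal).eq_bot_or_eq_top.resolve_left
        fun e => hG ⟨⟨fun x y => H50.mul_comm_of_abelian
          (abelian_iff.2 (commutator_eq_bot_iff.1 e)) (mem_top x) (mem_top y)⟩⟩
    obtain ⟨F, _, _, hF, -, ⟨e⟩⟩ := exists_psl2_of_four hJ hA h4 hS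
    have hca : CAo G := (cao_psl2 hF).of_equiv (topEquiv.symm.trans
      ((QuotientGroup.quotientBot.symm.trans (QuotientGroup.quotientMulEquivOfEq hO.symm)).trans e))
    -- a Sylow subgroup contains the involutions centralizing it
    have hin : ∀ g x : G, x * x = 1 → cj g A ≤ 𝒞[x] → x ∈ cj g A := fun g x hx hc => by
      rw [syl_eq_of_le (hS.cj_of_mem (mem_top g)) le_sup_left le_top (pg_sup (isPGroup_cj.2 hp) (pg_zpowers hx)
        (Or.inl (norm_of_cent (cent_zpowers x ▸ hc))))]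
      exact mem_sup_right (mem_zpowers x)
    have hmeet : ∀ g k : G, ∃ a ∈ cj g A, a ≠ 1 ∧ a ∈ cj k A := fun g k => by
      obtain ⟨Y, -, h1, h2, h3⟩ := h (g⁻¹ * k) (mem_top _)
      obtain ⟨a, ha, ha1, h5⟩ := hca.exists_cent hA hnc h1 h2
      have h6 := hin _ a (H82G.ea_sq hA ha) (h3.trans (sup_le (ea_cent1 hA ha) h5))
      refine ⟨g * a * g⁻¹, conj_mem_cj.2 ha, fun e => ha1 (by simpa using e), ?_⟩
      have := (conj_mem_cj (g := g)).2 h6
      rwa [cj_cj, mul_inv_cancel_left] at this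
    refine not_normal_of_simple hG hA.1 hne fun g _ => by_contra fun hg => ?_
    obtain ⟨a, ha, ha1, hag⟩ := hmeet 1 g
    rw [cj_one] at ha
    obtain ⟨b, hb, hb1, hba⟩ := hmove a ha ha1
    obtain ⟨T, hT⟩ := exists_sylow_of_top Nat.prime_two hS
    obtain ⟨n, hn, e⟩ := (gold hG hsc hA hne T).trans a (hT ▸ ha) b (hT ▸ hb) (H82G.ea_sq hA ha)
      (H82G.ea_sq hA hb) ha1 hb1
    rw [hT] at hn
    have hb' : b ∈ cj (n * g) A := by rw [cj_mul, ← e]; exact conj_mem_cj.2 hag
    have four : ∀ (k : G) (x y : G), x ∈ cj k A → y ∈ cj k A → x ≠ 1 → y ≠ 1 → x ≠ y →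
        ∀ M : Subgroup G, x ∈ M → y ∈ M → cj k A ≤ M := fun k x y hx hy hx1 hy1 hxy M h1 h2 w hw => by
      by_cases e1 : w = 1
      · exact e1 ▸ one_mem M
      by_cases e2 : w = x
      · exact e2 ▸ h1
      by_cases e3 : w = y
      · exact e3 ▸ h2
      rw [H44.eq_mul_of_four (ea_cj hA k) (by rwa [card_cj]) hx hy hw hx1 hy1 hxy e1 e2 e3]
      exact mul_mem h1 h2
    have hA1 : ∀ M : Subgroup G, a ∈ M → b ∈ M → A ≤ M := fun M h1 h2 => by
      have := four 1 a b (by rwa [cj_one]) (by rwa [cj_one]) ha1 hb1 hba.symm M h1 h2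
      rwa [cj_one] at this
    obtain ⟨d, hd, hd1, hd'⟩ := hmeet g (n * g)
    by_cases e1 : d = a
    · have h5 : cj (n * g) A = A := (eq_of_le_of_card_eq (hA1 _ (e1 ▸ hd') hb') (card_cj _ _).symm).symm
      exact hg (by simpa using mul_mem (inv_mem hn) (mem_norm_iff_cj.2 h5))
    · have h5 : cj g A ≤ 𝒞[b] := four g a d hag hd ha1 hd1 (Ne.symm e1) _ (ea_cent1 hA hb ha)
        (ea_cent1 (ea_cj hA _) hb' hd')
      exact hg (mem_norm_of_le_cj (hA1 _ hag (hin g b (H82G.ea_sq hA hb) h5)))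
  · obtain ⟨b, hb, hb1⟩ := ne_bot_iff_exists.1 hne
    push Not at hse
    obtain ⟨J, hJ, -, hZ, -, -, hU⟩ := main_eight hG hA hS h8.1 hse b hb hb1
    have hlt : Nat.card 𝒞[b] < Nat.card G := by
      have := card_lt_of_lt (lt_top_iff_ne_top.2 ((hyp_of_nse hG hsc hA hne hse).cent1_ne_top hb1))
      rwa [card_top] at this
    have hAb := ea_cent1 hA hb
    have h1 := ih.amb hlt hAb hp hA.1 (h.mono hAb le_top)
    have hs : Group.IsSolvable ↥(A ⊔ O 𝒞[b]) :=
      solvable_sup (pg_solv hp) (od_solv (od_O _)) (Or.inl (hAb.trans (le_norm_O _)))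
    rcases eq_or_le_CO hJ.pqs (inf_le_right : (A ⊔ O 𝒞[b]) ⊓ J ≤ J)
      (norm_inf (hJ.le.trans h1) le_normalizer) with e | e
    · exact hJ.pqs.not_le_solvable hs (e.symm.le.trans inf_le_left)
    · have h2 : A ⊓ J ≤ ⊥ := (le_inf inf_le_left ((le_inf inf_le_right
        ((inf_le_inf_right J le_sup_left).trans e)).trans hZ)).trans (od_inf (od_O J) hp).le
      rw [le_bot_iff.1 h2, card_bot] at hU
      omega

/-- The case of a nontrivial centre. -/
theorem nc_central (ih : NCIH.{u} (Nat.card G)) (hO : pPrimeCore 2 G = ⊥) {B : Subgroup G}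
    (hB : IsPGroup 2 B) (hc : IsMulCommutative B) (h : NC ⊤ B)
    (hK : normalClosure (B : Set G) = ⊤) (hZ : center G ≠ ⊥) : B.Normal := by
  have hO' : O (⊤ : Subgroup G) = ⊥ := H44.Oppof_top.trans hO
  obtain ⟨f, hf⟩ : ∃ f, f = QuotientGroup.mk' (center G) := ⟨_, rfl⟩
  have hfs : Function.Surjective f := hf ▸ QuotientGroup.mk'_surjective _
  have hk : f.ker = center G := hf ▸ QuotientGroup.ker_mk' _
  have hlt : Nat.card (G ⧸ center G) < Nat.card G := by
    have h1 := (center G).card_mul_index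
    have h2 : 1 < Nat.card (center G) := one_lt_card_iff_ne_bot _ |>.2 hZ
    have h3 : 0 < (center G).index := Nat.pos_of_ne_zero index_ne_zero_of_finite
    rw [← index_eq_card]
    nlinarith
  have h1 := ih _ hlt (B.map f) (hB.map f) (inferInstanceAs (IsMulCommutative (B.map f)))
    (by have := h.map f; rwa [← MonoidHom.range_eq_map, MonoidHom.range_eq_top.2 hfs] at this)
  have h2 : ⊤ ≤ (B.map f ⊔ pPrimeCore 2 _).comap f := by
    rw [← hK]
    exact normalClosure_le_normal (le_comap_map f B |>.trans (comap_mono le_sup_left))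
  obtain ⟨M, hM⟩ : ∃ M, M = (pPrimeCore 2 (G ⧸ center G)).comap f := ⟨_, rfl⟩
  have hMn : M.Normal := by
    have := H44.pPrimeCore_characteristic (G := G ⧸ center G) (p := 2)
    exact hM ▸ inferInstance
  have hZM : center G ≤ M := hM ▸ hk.ge.trans (ker_le_comap _ _)
  have hidx : ((center G).relIndex M).Coprime 2 := by
    have e : f.ker.relIndex M = Nat.card (pPrimeCore 2 (G ⧸ center G)) := by
      rw [hM, ← MonoidHom.comap_bot, relIndex_comap, map_comap_eq_self_of_surjective hfs,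
        relIndex_bot_left]
    rw [hk] at e
    rw [e]
    exact H44.pPrimeCore_coprime
  have hZ2 : IsPGroup 2 (center G) := by
    obtain ⟨Y, hY⟩ := exists_hall (M := center G) (solvable_of_abelian inferInstance) {2}ᶜ
    have h3 : Y = ⊥ := le_bot_iff.1 (hO' ▸ le_O le_top (norm_of_cent (cent_symm
      (hY.1.trans fun z hz g _ => mem_center_iff.1 hz g))) (od_pi.2 hY.pi))
    refine pg2 fun p hp hd => by_contra fun hne => ?_
    exact hY.2.2 p hp hne (by rwa [h3, relIndex_bot_left])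
  obtain ⟨Y, hY⟩ := exists_compl_of_coprime hZM (le_top.trans (normal_iff_top_le_norm.1
    inferInstance)) (by
      obtain ⟨k, hk⟩ := IsPGroup.iff_card.1 hZ2
      rw [hk]
      exact hidx.symm.pow_left k)
  have hYo : Od Y := by rwa [Od, ← hY.relIndex_left]
  have h3 : Y ≤ O ⊤ := le_O_of_cover (C := center G ⊔ Y) le_top (normal_iff_top_le_norm.1 hMn)
    (hY.1.ge.trans le_sup_left) (le_inf le_top (sup_le (norm_of_cent
      fun z hz g _ => mem_center_iff.1 hz g) le_normalizer)) hY.right_le hYo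
  have h4 : M = center G := by rw [← hY.1, le_bot_iff.1 (h3.trans hO'.le), sup_bot_eq]
  rw [← comap_sup_eq f _ _ hfs, ← hM, h4, comap_map_eq, hk, sup_assoc, sup_idem] at h2
  exact normal_iff_top_le_norm.2 (h2.trans (sup_le le_normalizer
    (norm_of_cent fun z hz g _ => mem_center_iff.1 hz g)))

theorem nc_core (ih : NCIH.{u} (Nat.card G)) (hO : pPrimeCore 2 G = ⊥) {B : Subgroup G}
    (hB : IsPGroup 2 B) (hc : IsMulCommutative B) (h : NC ⊤ B) : B.Normal := by
  have hO' : O (⊤ : Subgroup G) = ⊥ := H44.Oppof_top.trans hO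
  have hlt : ∀ M : Subgroup G, M ≠ ⊤ → Nat.card M < Nat.card G := fun M hM => by
    have := card_lt_of_lt (lt_top_iff_ne_top.2 hM)
    rwa [card_top] at this
  have hON : ∀ N : Subgroup G, N.Normal → O N = ⊥ := fun N hN =>
    le_bot_iff.1 (hO' ▸ O_le_O_of_normal le_top (normal_iff_top_le_norm.1 hN))
  -- the part of `B` in a proper normal subgroup is normal
  have hinf : ∀ N : Subgroup G, N.Normal → N ≠ ⊤ → (B ⊓ N).Normal := fun N hN hNt => by
    have hNn := normal_iff_top_le_norm.1 hN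
    have h1 := ih.amb (hlt N hNt) inf_le_right (hB.to_le inf_le_left)
      (abelian_of_le hc inf_le_left) (h.inf hB le_top le_top (le_top.trans hNn))
    rw [hON N hN, sup_bot_eq] at h1
    have h2 : B ⊓ N ≤ (pCore 2 N).map N.subtype :=
      H44.le_pCoreOf inf_le_right h1 (hB.to_le inf_le_left)
    have h3 := H44.pCoreOf_normal (p := 2) N
    refine ⟨fun x hx g => ⟨h.mem hB le_sup_left (pg_sup hB (H44.pCoreOf_isPGroup N)
      (Or.inl (le_top.trans (normal_iff_top_le_norm.1 h3)))) hx.1 (mem_top g)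
      (mem_sup_right (h3.conj_mem x (h2 hx) g)), hN.conj_mem x hx.2 g⟩⟩
  by_cases hK : normalClosure (B : Set G) = ⊤
  swap
  · have := hinf _ normalClosure_normal hK
    rwa [inf_eq_left.2 le_normalClosure] at this
  by_cases hZ : center G = ⊥
  swap
  · exact nc_central ih hO hB hc h hK hZ
  by_cases hB1 : B = ⊥
  · exact hB1 ▸ inferInstance
  have hcen : ∀ N : Subgroup G, N.Normal → B ≤ 𝒞(N) → N = ⊥ := fun N hN h1 => by
    have h2 : ⊤ ≤ 𝒞(N) := hK ▸ normalClosure_le_normal h1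
    exact le_bot_iff.1 (hZ ▸ fun x hx => mem_center_iff.2 fun g => (h2 (mem_top g) x hx).symm)
  obtain ⟨a, ha, ha1⟩ := ne_bot_iff_exists.1 hB1
  have : Nontrivial G := ⟨⟨a, 1, ha1⟩⟩
  by_cases hs : IsSimpleGroup G
  · by_cases hG : IsMulCommutative G
    · exact inferInstance
    refine absurd (h.char hB (H50.omega_le B) (inf_le_right.trans (H50.norm_le_norm_omega B)))
      (not_nc_simple hG ih (H50.elem_omega_of_abelian hc) fun e => ?_)
    obtain ⟨x, hx⟩ := exists_prime_orderOf_dvd_card' (G := B) 2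
      ((IsPGroup.card_eq_or_dvd hB).resolve_left fun e => hB1 (eq_bot_of_card_eq B e))
    have h2 : (x : G) ∈ omegaOne 2 B := H50.mem_omega x.2 (by
      rw [← hx, ← Subgroup.coe_pow, pow_orderOf_eq_one, Subgroup.coe_one])
    rw [e, mem_bot] at h2
    rw [show x = 1 from Subtype.ext h2, orderOf_one] at hx
    omega
  obtain ⟨N, hN, hN1, hNt⟩ : ∃ N : Subgroup G, N.Normal ∧ N ≠ ⊥ ∧ N ≠ ⊤ := by
    by_contra hc
    push Not at hc
    exact hs ⟨fun N hN => or_iff_not_imp_left.2 (hc N hN)⟩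
  have hNn := normal_iff_top_le_norm.1 hN
  have hU : B ⊓ N = ⊥ := hcen _ (hinf N hN hNt) (le_cent_of_abelian hc le_rfl inf_le_left)
  by_cases hM : B ⊔ N = ⊤
  · obtain ⟨S, hS⟩ := hB.exists_le_sylow
    have hw : H43.WC 2 a := H43.WC.of_sylow S (hS ha) fun g hg => by
      have h1 := h.mem hB hS S.isPGroup' ha (mem_top g) hg
      obtain ⟨b, hb, n, hn, rfl⟩ := (mem_sup_of_norm_right (le_top.trans hNn)).1 (hM ▸ mem_top g)
      have h2 : b * n * a * (b * n)⁻¹ * a⁻¹ ∈ B ⊓ N := by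
        refine mem_inf.2 ⟨mul_mem h1 (inv_mem ha), ?_⟩
        rw [show b * n * a * (b * n)⁻¹ * a⁻¹ = b * (n * (a * n⁻¹ * a⁻¹)) * b⁻¹ * (b * a * (a * b)⁻¹)
          by group, H50.mul_comm_of_abelian hc hb ha, mul_inv_cancel, mul_one]
        exact hN.conj_mem _ (mul_mem hn (hN.conj_mem _ (inv_mem hn) a)) b
      rw [hU, mem_bot] at h2
      exact mul_inv_eq_one.1 h2
    exact absurd (mem_bot.1 (hZ ▸ hw.mem_center hO)) ha1
  · have h1 := ih.amb (hlt _ hM) le_sup_left hB hc (h.mono le_sup_left le_top)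
    have h2 : O (B ⊔ N) = ⊥ := by
      have h3 : O (B ⊔ N) ≤ N := od_inf_le_of_norm hB (le_top.trans hNn) (od_O _) (O_le _)
      exact le_bot_iff.1 (hON N hN ▸ le_O h3 (le_sup_right.trans (le_norm_O _)) (od_O _))
    rw [h2, sup_bot_eq] at h1
    exact absurd (hcen N hN (cent_of_norm_of_disjoint (le_top.trans hNn) (le_sup_right.trans h1) hU))
      hN1

theorem ncih_all (n : ℕ) : NCIH.{u} n := by
  induction n with
  | zero => intro L _ _ h; omega
  | succ n ih =>
    intro L _ _ hn B hB hc h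
    have ih' : NCIH.{u} (Nat.card L) := fun L' _ _ h' => ih L' (by omega)
    by_cases hO : pPrimeCore 2 L = ⊥
    · rw [hO, sup_bot_eq]
      exact nc_core ih' hO hB hc h
    have := H44.pPrimeCore_characteristic (G := L) (p := 2)
    obtain ⟨f, hf⟩ : ∃ f, f = QuotientGroup.mk' (pPrimeCore 2 L) := ⟨_, rfl⟩
    have hfs : Function.Surjective f := hf ▸ QuotientGroup.mk'_surjective _
    have hk : f.ker = pPrimeCore 2 L := hf ▸ QuotientGroup.ker_mk' _
    have hlt : Nat.card (L ⧸ pPrimeCore 2 L) < Nat.card L := by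
      have h1 := (pPrimeCore 2 L).card_mul_index
      have h2 : 1 < Nat.card (pPrimeCore 2 L) := one_lt_card_iff_ne_bot _ |>.2 hO
      have h3 : 0 < (pPrimeCore 2 L).index := Nat.pos_of_ne_zero index_ne_zero_of_finite
      rw [← index_eq_card]
      nlinarith
    have h1 := ih' _ hlt (B.map f) (hB.map f) (inferInstanceAs (IsMulCommutative (B.map f)))
      (by have := h.map f; rwa [← MonoidHom.range_eq_map, MonoidHom.range_eq_top.2 hfs] at this)
    rw [H44.pPrimeCore_quotient_pPrimeCore, sup_bot_eq] at h1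
    have h2 := h1.comap f
    rwa [comap_map_eq, hk] at h2

/-- An abelian 2-subgroup all of whose conjugates lie in products with invariant subgroups of odd
order is normal modulo the core. -/
theorem NC.normal {B : Subgroup G} (h : NC ⊤ B) (hB : IsPGroup 2 B) (hc : IsMulCommutative B) :
    (B ⊔ pPrimeCore 2 G).Normal :=
  ncih_all _ G (Nat.lt_succ_self _) B hB hc h

end Cfsg.Agent.H20
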