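import Cfsg.Agent.H48.Base
import Cfsg.Agent.H49.SylowOf
import Cfsg.Agent.H1.Hall

/-! Factorised groups `M = HK`: conjugate factorisations, Sylow and Hall subgroups, Hall's theorems
for a solvable subgroup of the ambient group, and the permutability lemma of Wielandt and Kegel. -/

set_option autoImplicit false

namespace Cfsg.Agent.H20

open Subgroup Cfsg.Agent.H49

variable {G : Type*} [Group G]

theorem isProd_top_iff {H K : Subgroup G} :
    IsProd H K ⊤ ↔ ∀ g : G, ∃ h ∈ H, ∃ k ∈ K, g = h * k :=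
  ⟨fun h g => h.2.2 g (mem_top g), fun h => ⟨le_top, le_top, fun g _ => h g⟩⟩

open scoped Pointwise in
theorem IsProd_coe_eq {H K M : Subgroup G} (h : IsProd H K M) : (M : Set G) = (H : Set G) * K := by
  ext x
  constructor
  · intro hx
    obtain ⟨a, ha, b, hb, rfl⟩ := h.2.2 x hx
    exact Set.mul_mem_mul ha hb
  · rintro ⟨a, ha, b, hb, rfl⟩
    exact M.mul_mem (h.1 ha) (h.2.1 hb)

open scoped Pointwise in
theorem isProd_of_coe_eq {H K M : Subgroup G} (h : (M : Set G) = (H : Set G) * K) :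
    IsProd H K M := by
  refine ⟨fun a ha => ?_, fun b hb => ?_, fun m hm => ?_⟩
  · have : a * 1 ∈ (M : Set G) := h ▸ Set.mul_mem_mul ha K.one_mem
    simpa using this
  · have : 1 * b ∈ (M : Set G) := h ▸ Set.mul_mem_mul H.one_mem hb
    simpa using this
  · have : m ∈ (H : Set G) * K := h ▸ hm
    obtain ⟨a, ha, b, hb, rfl⟩ := this
    exact ⟨a, ha, b, hb, rfl⟩

theorem isProd_sup {H K M : Subgroup G} (h : IsProd H K M) : IsProd H K (H ⊔ K) := h.sup_eq ▸ h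

theorem isProd_map {H K M : Subgroup G} (h : IsProd H K M) {G' : Type*} [Group G'] (f : G →* G') :
    IsProd (H.map f) (K.map f) (M.map f) := by
  refine ⟨map_mono h.1, map_mono h.2.1, ?_⟩
  rintro _ ⟨m, hm, rfl⟩
  obtain ⟨a, ha, b, hb, rfl⟩ := h.2.2 m hm
  exact ⟨f a, mem_map_of_mem f ha, f b, mem_map_of_mem f hb, map_mul f a b⟩

theorem isProd_map_top {H K : Subgroup G} (h : IsProd H K ⊤) {G' : Type*} [Group G'] (f : G →* G')
    (hf : Function.Surjective f) : IsProd (H.map f) (K.map f) ⊤ := by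
  have := isProd_map h f
  rwa [map_top_of_surjective f hf] at this

theorem isProd_subgroupOf {H K M : Subgroup G} (h : IsProd H K M) :
    IsProd (H.subgroupOf M) (K.subgroupOf M) ⊤ := by
  refine ⟨le_top, le_top, fun m _ => ?_⟩
  obtain ⟨a, ha, b, hb, e⟩ := h.2.2 m m.2
  exact ⟨⟨a, h.1 ha⟩, ha, ⟨b, h.2.1 hb⟩, hb, Subtype.ext e⟩

theorem isProd_mono {H K H' K' M : Subgroup G} (h : IsProd H K M) (h1 : H ≤ H') (h2 : K ≤ K')
    (h3 : H' ≤ M) (h4 : K' ≤ M) : IsProd H' K' M := by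
  refine ⟨h3, h4, fun m hm => ?_⟩
  obtain ⟨a, ha, b, hb, e⟩ := h.2.2 m hm
  exact ⟨a, h1 ha, b, h2 hb, e⟩

/-- In `M = HK` a pair of conjugates of normal subgroups of the factors is a simultaneous
conjugate. -/
theorem exists_cj_pair {H K M : Subgroup G} (h : IsProd H K M) {x y : G} (hx : x ∈ M)
    (hy : y ∈ M) : ∃ g ∈ M, (∀ A : Subgroup G, H ≤ 𝒩(A) → cj x A = cj g A) ∧
      ∀ B : Subgroup G, K ≤ 𝒩(B) → cj y B = cj g B := by
  obtain ⟨a, ha, b, hb, e⟩ := h.2.2 (x⁻¹ * y) (M.mul_mem (M.inv_mem hx) hy)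
  refine ⟨x * a, M.mul_mem hx (h.1 ha), fun A hA => ?_, fun B hB => ?_⟩
  · rw [cj_mul, cj_eq_of_mem_norm (hA ha)]
  · have : y = x * a * b := by rw [mul_assoc, ← e]; group
    rw [this, cj_mul (x * a), cj_eq_of_mem_norm (hB hb)]

theorem isProd_cj_cj {H K M : Subgroup G} (h : IsProd H K M) {x y : G} (hx : x ∈ M)
    (hy : y ∈ M) : IsProd (cj x H) (cj y K) M := by
  obtain ⟨g, hg, h1, h2⟩ := exists_cj_pair h hx hy
  rw [h1 H le_normalizer, h2 K le_normalizer]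
  simpa [cj_eq_of_mem hg] using h.cj g

/-- If Hall `π`-subgroups of the factors lie in a common Hall `π`-subgroup of `M = HK`, their
product is that subgroup. -/
theorem isProd_hall [Finite G] {π : Set ℕ} {H K M P Q R : Subgroup G} (h : IsProd H K M)
    (hP : IsPiHallOf π P H) (hQ : IsPiHallOf π Q K) (hR : IsPiHallOf π R M) (hPR : P ≤ R)
    (hQR : Q ≤ R) : IsProd P Q R := by
  apply isProd_of_card hPR hQR
  apply Nat.le_of_dvd (Nat.mul_pos (card_pos' P) (card_pos' Q))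
  have hpi : IsPiNat π (Nat.card R * Nat.card ↥(P ⊓ Q)) := IsPiNat.mul hR.pi (hP.pi.inf_left Q)
  apply hpi.dvd_of_dvd_mul_right (hP.index.mul hQ.index)
  have e1 := h.card_mul
  rw [← card_mul_relIndex hP.le, ← card_mul_relIndex hQ.le] at e1
  have : Nat.card P * Nat.card Q * (P.relIndex H * Q.relIndex K) =
      Nat.card M * Nat.card ↥(H ⊓ K) := by rw [e1]; ring
  rw [this]
  exact Nat.mul_dvd_mul (card_dvd_of_le hR.le) (card_dvd_of_le (inf_le_inf hP.le hQ.le))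

/-- `M = HK` has a Sylow subgroup that is a product of Sylow subgroups of the factors. -/
theorem exists_sylow_isProd [Finite G] (p : ℕ) {H K M : Subgroup G} (h : IsProd H K M) :
    ∃ P Q R : Subgroup G, IsSylowOf p P H ∧ IsSylowOf p Q K ∧ IsSylowOf p R M ∧ IsProd P Q R := by
  obtain ⟨P, hP⟩ := exists_sylowOf p H
  obtain ⟨Q, hQ⟩ := exists_sylowOf p K
  obtain ⟨R, hR, hPR⟩ := exists_sylowOf_ge hP.pi (hP.le.trans h.1)
  obtain ⟨y, hy, hQR⟩ := sylowOf_subJ hR (hQ.le.trans h.2.1) hQ.pi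
  obtain ⟨a, ha, b, hb, rfl⟩ := h.2.2 y hy
  have h1 := hP.cj_of_mem (H.inv_mem ha)
  have h2 := hQ.cj_of_mem hb
  have h3 := hR.cj_of_mem (M.inv_mem (h.1 ha))
  refine ⟨_, _, _, h1, h2, h3, isProd_hall h h1 h2 h3 (cj_mono _ hPR) ?_⟩
  rw [cj_mul, cj_le_iff] at hQR
  exact hQR

/-- The `π`-part of a nilpotent subgroup is a Hall subgroup. -/
theorem hall_pcore_of_nil [Finite G] (π : Set ℕ) {A : Subgroup G} (hA : Group.IsNilpotent A) :
    IsPiHallOf π (piCoreOf π A) A :=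
  Cfsg.IsPiHallOf.of_isProd (H48.pcore_isPi π A) (H48.pcore_isPi πᶜ A) (by
    have h1 : piCoreOf π A ⊔ piCoreOf πᶜ A = A :=
      le_antisymm (sup_le (H48.pcore_le _ _) (H48.pcore_le _ _)) (H48.nil_le_pcore_sup π hA)
    have := isProd_sup_of_norm_right (H := piCoreOf π A) (K := piCoreOf πᶜ A)
      (H48.le_norm_pcore _ (H48.pcore_le _ _))
    rwa [h1] at this)

theorem eq_pcore_of_hall_of_nil [Finite G] {π : Set ℕ} {A P : Subgroup G}
    (hA : Group.IsNilpotent A) (hP : IsPiHallOf π P A) : P = piCoreOf π A :=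
  (hall_pcore_of_nil π hA).eq_of_normal (H48.le_norm_pcore π le_rfl) hP

/-- For nilpotent factors, the product of the Sylow subgroups is a Sylow subgroup. -/
theorem exists_sylow_isProd_pcore [Finite G] (p : ℕ) {A B M : Subgroup G} (h : IsProd A B M)
    (hA : Group.IsNilpotent A) (hB : Group.IsNilpotent B) :
    ∃ R, IsSylowOf p R M ∧ IsProd (piCoreOf {p} A) (piCoreOf {p} B) R := by
  obtain ⟨P, Q, R, hP, hQ, hR, hPQ⟩ := exists_sylow_isProd p h
  rw [eq_pcore_of_hall_of_nil hA hP, eq_pcore_of_hall_of_nil hB hQ] at hPQ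
  exact ⟨R, hR, hPQ⟩

/-! ### Hall's theorems inside a solvable subgroup -/

theorem hall_iff_H1 {π : Set ℕ} {H : Subgroup G} : IsPiHallOf π H ⊤ ↔ H1.Hall π H := by
  rw [hall_iff, relIndex_top_right]
  exact ⟨fun h => h.2, fun h => ⟨le_top, h⟩⟩

theorem exists_hall_ge [Finite G] {π : Set ℕ} {K M : Subgroup G} (hM : Group.IsSolvable M)
    (hKM : K ≤ M) (hK : IsPi π K) : ∃ H, IsPiHallOf π H M ∧ K ≤ H := by
  obtain ⟨H, hH, hle⟩ := H1.hall_exists_ge π hM (K.subgroupOf M) (hK.subgroupOf M)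
  refine ⟨H.map M.subtype, hall_map_subtype_top.2 (hall_iff_H1.2 hH), ?_⟩
  rw [← map_subgroupOf_eq_of_le hKM]
  exact map_mono hle

theorem exists_hall [Finite G] (π : Set ℕ) {M : Subgroup G} (hM : Group.IsSolvable M) :
    ∃ H, IsPiHallOf π H M := by
  obtain ⟨H, hH, -⟩ := exists_hall_ge hM bot_le (isPi_bot π)
  exact ⟨H, hH⟩

theorem hall_subJ [Finite G] {π : Set ℕ} {H K M : Subgroup G} (hM : Group.IsSolvable M)
    (hH : IsPiHallOf π H M) (hKM : K ≤ M) (hK : IsPi π K) : ∃ g ∈ M, cj g K ≤ H := by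
  obtain ⟨g, hg⟩ := H1.hall_conj_le π M hM (H.subgroupOf M) (K.subgroupOf M)
    (hall_iff_H1.1 ((hall_subgroupOf_top hH.le).2 hH)) (hK.subgroupOf M)
  refine ⟨(g : G)⁻¹, M.inv_mem g.2, ?_⟩
  rw [cj_le_iff, inv_inv]
  intro k hk
  exact mem_cj.2 (hg ⟨k, hKM hk⟩ hk)

theorem hall_conj [Finite G] {π : Set ℕ} {H K M : Subgroup G} (hM : Group.IsSolvable M)
    (hH : IsPiHallOf π H M) (hK : IsPiHallOf π K M) : ∃ g ∈ M, cj g H = K := by
  obtain ⟨g, hg, hle⟩ := hall_subJ hM hK hH.le hH.pi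
  exact ⟨g, hg, (hH.cj_of_mem hg).eq_of_le hle hK.le hK.pi⟩

/-- Normal Hall subgroups of the factors of a solvable `M = HK` that are Hall in `M` permute. -/
theorem isProd_of_hall_normal [Finite G] {π ρ : Set ℕ} {H K M A B : Subgroup G}
    (hM : Group.IsSolvable M) (h : IsProd H K M) (hA : H ≤ 𝒩(A)) (hB : K ≤ 𝒩(B))
    (hAh : IsPiHallOf π A M) (hBh : IsPiHallOf ρ B M) : IsProd A B (A ⊔ B) := by
  obtain ⟨S, hS, hAS⟩ := exists_hall_ge (π := π ∪ ρ) hM hAh.le (hAh.pi.mono Set.subset_union_left)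
  obtain ⟨y, hy, hBS⟩ := hall_subJ hM hS hBh.le (hBh.pi.mono Set.subset_union_right)
  obtain ⟨a, ha, b, hb, rfl⟩ := h.2.2 y hy
  rw [cj_mul, cj_eq_of_mem_norm (hB hb), cj_le_iff] at hBS
  have hAS' : A ≤ cj a⁻¹ S := by
    rw [← cj_eq_of_mem_norm (hA (H.inv_mem ha))]
    exact cj_mono _ hAS
  have hS' := hS.cj_of_mem (M.inv_mem (h.1 ha))
  apply isProd_sup (M := cj a⁻¹ S)
  apply isProd_of_coprime_relIndex hAS' hBS
  apply Nat.coprime_of_dvd
  intro p hp h1 h2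
  rcases hS'.pi.relIndex A p hp h1 with hπ | hρ
  · exact (hAh.sub hAS' hS'.le).index p hp h1 hπ
  · exact (hBh.sub hBS hS'.le).index p hp h2 hρ

/-- The normalizer of `⟨A, B⟩` is factorised when `A`, `B` are normalized by the factors. -/
theorem isProd_norm_sup [Finite G] {H K M A B : Subgroup G} (h : IsProd H K M) (hA : H ≤ 𝒩(A))
    (hB : K ≤ 𝒩(B)) : IsProd (H ⊓ 𝒩(A ⊔ B)) (K ⊓ 𝒩(A ⊔ B)) (M ⊓ 𝒩(A ⊔ B)) := by
  refine ⟨inf_le_inf_right _ h.1, inf_le_inf_right _ h.2.1, fun g hg => ?_⟩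
  obtain ⟨a, ha, b, hb, rfl⟩ := h.2.2 g hg.1
  have e1 : cj b (A ⊔ B) = cj a⁻¹ (A ⊔ B) := by
    have := cj_eq_of_mem_norm hg.2
    rw [cj_mul] at this
    conv_rhs => rw [← this, cj_inv_cj]
  have hb' : b ∈ 𝒩(A ⊔ B) := by
    apply mem_norm_of_le_cj
    apply sup_le
    · rw [e1, cj_sup, cj_eq_of_mem_norm (hA (H.inv_mem ha))]
      exact le_sup_left
    · rw [cj_sup, cj_eq_of_mem_norm (hB hb)]
      exact le_sup_right
  refine ⟨a, ⟨ha, ?_⟩, b, ⟨hb, hb'⟩, rfl⟩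
  simpa using Subgroup.mul_mem _ hg.2 (Subgroup.inv_mem _ hb')

end Cfsg.Agent.H20
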